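import Mathlib
import Cfsg.Prelude.Def_OddOrderLocal
import Cfsg.Agent.Lib.Helper73.BG161Defs

/-!
# B–G Corollary 15.3(b) (S1356, helper35): statements of the earlier rows used, as `Prop`s

`Txxxx G` is the statement of row `Sxxxx` with the hypothesis `hG : IsMinSimpleOddOrder G` removed
(text copied verbatim from the templates), so that `Cfsg.Agent.Sxxxx.result hG : Txxxx G`.
The other rows used (`T1350 T1352 T1365 T1420 T1430 T1437`) are in `Helper73.BG161Defs`.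
-/

set_option autoImplicit false
set_option linter.unusedVariables false

namespace Cfsg.Agent.Helper35.BG153

/-- The statement of S1351 (for a fixed minimal simple group of odd order `G`). -/
def T1351 (G : Type*) [Group G] [Finite G] : Prop :=
  ∀ (M : Subgroup G) (hM : IsCoatom M),
    (∃ K : Subgroup G, Cfsg.IsPiHallOf (Cfsg.kappa M) K M) ∧
      ∀ K : Subgroup G, Cfsg.IsPiHallOf (Cfsg.kappa M) K M → IsCyclic K

/-- The statement of S1355 (for a fixed minimal simple group of odd order `G`). -/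
def T1355 (G : Type*) [Group G] [Finite G] : Prop :=
  ∀ (M : Subgroup G) (hM : IsCoatom M),
    Cfsg.fittingHallOf M ≠ ⊥ ∧ Cfsg.fittingHallOf M ≤ Cfsg.sigmaCore M ∧ Cfsg.sigmaCore M ≤ ⁅M, M⁆ ∧ ⁅M, M⁆ < M ∧
      Group.IsNilpotent ↥((commutator ↥M).map (QuotientGroup.mk' (Cfsg.fittingHall ↥M)))

/-- The statement of S1438 (for a fixed minimal simple group of odd order `G`). -/
def T1438 (G : Type*) [Group G] [Finite G] : Prop :=
  ∀ (M : Subgroup G) (hM : IsCoatom M) (H : Subgroup G) (hH : H ≤ Cfsg.sigmaCore M) (hH1 : H ≠ ⊥)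
    (hHall : (Nat.card H).Coprime (H.relIndex (Cfsg.sigmaCore M))),
    (∃ X : Subgroup G, IsCyclic X ∧ (∀ p : ℕ, p.Prime → p ∣ Nat.card X → p ∈ Cfsg.tau2 M) ∧
        M ⊓ Subgroup.centralizer (H : Set G) = (Cfsg.sigmaCore M ⊓ Subgroup.centralizer (H : Set G)) ⊔ X) ∧
      ∀ x ∈ H, ∀ g : G, g * x * g⁻¹ ∈ H → ∃ n ∈ M ⊓ Subgroup.normalizer (H : Set G), n * x * n⁻¹ = g * x * g⁻¹

/-- The statement of S1439 (for a fixed minimal simple group of odd order `G`). -/
def T1439 (G : Type*) [Group G] [Finite G] : Prop :=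
  ∀ (M : Subgroup G) (hM : IsCoatom M),
    IsCyclic ↥(Cfsg.piCoreOf {q | q.Prime ∧ q ∉ Cfsg.sigma M} (Cfsg.fittingOf M)) ∧
      (∀ p : ℕ, p.Prime → p ∣ Nat.card ↥(Cfsg.piCoreOf {q | q.Prime ∧ q ∉ Cfsg.sigma M} (Cfsg.fittingOf M)) → p ∈ Cfsg.tau2 M) ∧
      Cfsg.fittingOf M = Cfsg.fittingOf (Cfsg.sigmaCore M) ⊔ Cfsg.piCoreOf {q | q.Prime ∧ q ∉ Cfsg.sigma M} (Cfsg.fittingOf M)

end Cfsg.Agent.Helper35.BG153
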