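import Mathlib
import Cfsg.Agent.Lib.Helper32.PGroupCenter

set_option autoImplicit false

namespace Cfsg.Agent.Helper35

/-- order of the full preimage of a subgroup of a quotient -/
theorem card_comap_mk' {X : Type*} [Group X] [Finite X] (N : Subgroup X) [N.Normal]
    (K : Subgroup (X ⧸ N)) :
    Nat.card (K.comap (QuotientGroup.mk' N)) = Nat.card K * Nat.card N := by
  have h1 := Subgroup.index_comap_of_surjective K (QuotientGroup.mk'_surjective N)
  have h2 := Subgroup.card_mul_index (K.comap (QuotientGroup.mk' N))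
  have h3 := Subgroup.card_mul_index K
  have h4 := Subgroup.card_eq_card_quotient_mul_card_subgroup N
  rw [h1] at h2
  have hi : K.index ≠ 0 := Subgroup.index_ne_zero_of_finite
  have : Nat.card (K.comap (QuotientGroup.mk' N)) * K.index
      = (Nat.card K * Nat.card N) * K.index := by
    rw [h2, h4, ← h3]; ring
  exact Nat.eq_of_mul_eq_mul_right (Nat.pos_of_ne_zero hi) this

/-- In a finite `p`-group, between normal subgroups `A < P` there is a normal subgroup `B` with
`A ≤ B ≤ P` and `|B| = p |A|`. -/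
theorem exists_normal_step {R : Type*} [Group R] [Finite R] {p : ℕ} [Fact p.Prime]
    (hR : IsPGroup p R) (A P : Subgroup R) [A.Normal] [P.Normal] (hAP : A ≤ P) (hne : A ≠ P) :
    ∃ B : Subgroup R, B.Normal ∧ A ≤ B ∧ B ≤ P ∧ Nat.card B = Nat.card A * p := by
  have hp : p.Prime := Fact.out
  have hπ : Function.Surjective (QuotientGroup.mk' A) := QuotientGroup.mk'_surjective A
  haveI : (P.map (QuotientGroup.mk' A)).Normal := Subgroup.Normal.map inferInstance _ hπ
  have hPbar : P.map (QuotientGroup.mk' A) ≠ ⊥ := by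
    intro h
    rw [Subgroup.map_eq_bot_iff, QuotientGroup.ker_mk'] at h
    exact hne (le_antisymm hAP h)
  have hQ : IsPGroup p (R ⧸ A) := hR.to_quotient A
  obtain ⟨z, hzP, hz1, hzcen⟩ :=
    Helper32.exists_ne_one_mem_center_of_normal hQ (P.map (QuotientGroup.mk' A)) hPbar
  obtain ⟨j, hj⟩ := (IsPGroup.iff_orderOf.mp hQ) z
  have hj0 : j ≠ 0 := by
    intro h
    rw [h, pow_zero, orderOf_eq_one_iff] at hj
    exact hz1 hj
  obtain ⟨w, hw⟩ : ∃ w, w = z ^ (p ^ (j - 1)) := ⟨_, rfl⟩
  have hword : orderOf w = p := by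
    rw [hw, orderOf_pow_of_dvd (pow_pos hp.pos _).ne' (by rw [hj]; exact pow_dvd_pow p (by omega)), hj]
    obtain ⟨j', rfl⟩ : ∃ j', j = j' + 1 := ⟨j - 1, by omega⟩
    rw [pow_succ, Nat.add_sub_cancel, Nat.mul_div_cancel_left _ (pow_pos hp.pos _)]
  have hwcen : w ∈ Subgroup.center (R ⧸ A) := hw ▸ Subgroup.pow_mem _ hzcen _
  have hwP : w ∈ P.map (QuotientGroup.mk' A) := hw ▸ Subgroup.pow_mem _ hzP _
  have hWcen : Subgroup.zpowers w ≤ Subgroup.center (R ⧸ A) := by
    rw [Subgroup.zpowers_le]; exact hwcen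
  haveI : (Subgroup.zpowers w).Normal := by
    refine ⟨fun n hn g => ?_⟩
    have := Subgroup.mem_center_iff.mp (hWcen hn) g
    rw [this, mul_inv_cancel_right]
    exact hn
  refine ⟨(Subgroup.zpowers w).comap (QuotientGroup.mk' A), Subgroup.Normal.comap inferInstance _,
    ?_, ?_, ?_⟩
  · intro a ha
    rw [Subgroup.mem_comap]
    have : QuotientGroup.mk' A a = 1 := by
      rw [← MonoidHom.mem_ker, QuotientGroup.ker_mk']; exact ha
    rw [this]; exact Subgroup.one_mem _
  · intro x hx
    rw [Subgroup.mem_comap] at hx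
    have hx' : QuotientGroup.mk' A x ∈ P.map (QuotientGroup.mk' A) := by
      have : Subgroup.zpowers w ≤ P.map (QuotientGroup.mk' A) := by
        rw [Subgroup.zpowers_le]; exact hwP
      exact this hx
    obtain ⟨y, hy, hyx⟩ := hx'
    have : y⁻¹ * x ∈ A := by
      rw [← QuotientGroup.ker_mk' A, MonoidHom.mem_ker, map_mul, map_inv, hyx, inv_mul_cancel]
    have : x = y * (y⁻¹ * x) := by group
    rw [this]
    exact P.mul_mem hy (hAP ‹y⁻¹ * x ∈ A›)
  · rw [card_comap_mk', Nat.card_zpowers, hword, mul_comm]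

/-- If `A` is central in `B` and has prime index in `B`, then `B` is abelian. -/
theorem comm_of_central_of_relIndex_prime {R : Type*} [Group R] {p : ℕ} (hp : p.Prime)
    (A B : Subgroup R) (hAB : A ≤ B) (hcen : B ≤ Subgroup.centralizer (A : Set R))
    (hidx : A.relIndex B = p) : ∀ x ∈ B, ∀ y ∈ B, x * y = y * x := by
  have hle : A.subgroupOf B ≤ Subgroup.center B := by
    intro a ha
    rw [Subgroup.mem_center_iff]
    intro g
    apply Subtype.ext
    have := hcen g.2
    rw [Subgroup.mem_centralizer_iff] at this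
    have h2 := this a.1 (Subgroup.mem_subgroupOf.mp ha)
    simpa using h2.symm
  haveI : (A.subgroupOf B).Normal := by
    refine ⟨fun n hn g => ?_⟩
    have := Subgroup.mem_center_iff.mp (hle hn) g
    rw [this, mul_inv_cancel_right]
    exact hn
  haveI : IsCyclic (B ⧸ A.subgroupOf B) := by
    apply isCyclic_of_prime_card (p := p) (hp := ⟨hp⟩)
    exact hidx
  intro x hx y hy
  have := commutative_of_cyclic_center_quotient (QuotientGroup.mk' (A.subgroupOf B))
    (by rw [QuotientGroup.ker_mk']; exact hle) ⟨x, hx⟩ ⟨y, hy⟩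
  exact congrArg Subtype.val this

end Cfsg.Agent.Helper35
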