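import Mathlib
import Cfsg.Agent.Lib.Helper24.ClassTwo

set_option autoImplicit false

namespace Cfsg.Agent.Helper35

/-- Number theory behind automorphisms of order `p` of a cyclic `p`-group, `p` odd. -/
theorem nt_key {p : ℕ} (hp : p.Prime) (hodd : p ≠ 2) (m : ℕ) (hm : 1 ≤ m) (k : ℤ)
    (h : (p : ℤ) ^ m ∣ k ^ p - 1) : (p : ℤ) ∣ k - 1 ∧ (p : ℤ) ^ (m - 1) ∣ k - 1 := by
  haveI : Fact p.Prime := ⟨hp⟩
  have hp1 : Odd p := hp.odd_of_ne_two hodd
  have h1 : (p : ℤ) ∣ k ^ p - 1 := dvd_trans (dvd_pow_self _ (by omega)) h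
  have h2 : (p : ℤ) ∣ k - 1 := by
    rw [← ZMod.intCast_zmod_eq_zero_iff_dvd] at h1 ⊢
    push_cast at h1 ⊢
    rwa [ZMod.pow_card] at h1
  refine ⟨h2, ?_⟩
  have hx : ¬ (p : ℤ) ∣ k := by
    intro hk
    have : (p : ℤ) ∣ 1 := by
      have := dvd_sub hk h2
      simpa using this
    have := Int.eq_one_of_dvd_one (by positivity) this
    have := hp.one_lt
    omega
  have hlte := Int.emultiplicity_pow_sub_pow hp hp1 (x := k) (y := 1) h2 hx p
  rw [one_pow, hp.emultiplicity_self] at hlte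
  have h3 := (pow_dvd_iff_le_emultiplicity).mp h
  rw [hlte] at h3
  rw [pow_dvd_iff_le_emultiplicity]
  generalize emultiplicity (p : ℤ) (k - 1) = e at h3 ⊢
  cases e with
  | top => exact le_top
  | coe n =>
    have : m ≤ n + 1 := by exact_mod_cast h3
    have : m - 1 ≤ n := by omega
    exact_mod_cast this

/-- If the commutators of a generating set lie in a central subgroup, so do all commutators. -/
theorem comm_mem_of_gens {R : Type*} [Group R] (Z₀ : Subgroup R) (hZ : Z₀ ≤ Subgroup.center R)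
    (S : Set R) (hS : Subgroup.closure S = ⊤)
    (h : ∀ x ∈ S, ∀ y ∈ S, x * y * x⁻¹ * y⁻¹ ∈ Z₀) : ∀ x y : R, x * y * x⁻¹ * y⁻¹ ∈ Z₀ := by
  have hcen : ∀ c ∈ Z₀, ∀ g : R, g * c = c * g := by
    intro c hc g
    exact Subgroup.mem_center_iff.mp (hZ hc) g
  have step1 : ∀ x ∈ S, ∀ y : R, x * y * x⁻¹ * y⁻¹ ∈ Z₀ := by
    intro x hx y
    have hy : y ∈ Subgroup.closure S := hS ▸ Subgroup.mem_top y
    induction hy using Subgroup.closure_induction with
    | mem y hy => exact h x hx y hy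
    | one => simp
    | mul y y' _ _ ihy ihy' =>
      have e : x * (y * y') * x⁻¹ * (y * y')⁻¹
          = (x * y * x⁻¹ * y⁻¹) * (y * (x * y' * x⁻¹ * y'⁻¹) * y⁻¹) := by group
      rw [e, hcen _ ihy' y, mul_inv_cancel_right]
      exact Z₀.mul_mem ihy ihy'
    | inv y _ ihy =>
      have e : x * y⁻¹ * x⁻¹ * y⁻¹⁻¹ = y⁻¹ * (x * y * x⁻¹ * y⁻¹)⁻¹ * y := by group
      rw [e, hcen _ (Z₀.inv_mem ihy) y⁻¹, mul_assoc, inv_mul_cancel, mul_one]
      exact Z₀.inv_mem ihy
  intro x y
  have hx : x ∈ Subgroup.closure S := hS ▸ Subgroup.mem_top x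
  induction hx using Subgroup.closure_induction with
  | mem x hx => exact step1 x hx y
  | one => simp
  | mul x x' _ _ ihx ihx' =>
    have e : (x * x') * y * (x * x')⁻¹ * y⁻¹
        = (x * (x' * y * x'⁻¹ * y⁻¹) * x⁻¹) * (x * y * x⁻¹ * y⁻¹) := by group
    rw [e, hcen _ ihx' x, mul_inv_cancel_right]
    exact Z₀.mul_mem ihx' ihx
  | inv x _ ihx =>
    have e : x⁻¹ * y * x⁻¹⁻¹ * y⁻¹ = x⁻¹ * (x * y * x⁻¹ * y⁻¹)⁻¹ * x := by group
    rw [e, hcen _ (Z₀.inv_mem ihx) x⁻¹, mul_assoc, inv_mul_cancel, mul_one]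
    exact Z₀.inv_mem ihx

/-- iterated conjugation on a power -/
theorem conj_pow_zpow {R : Type*} [Group R] (a b : R) (k : ℤ) (h : b * a * b⁻¹ = a ^ k) (j : ℕ) :
    b ^ j * a * (b ^ j)⁻¹ = a ^ (k ^ j) := by
  induction j with
  | zero => simp
  | succ j ih =>
    have e : b ^ (j + 1) * a * (b ^ (j + 1))⁻¹ = b * (b ^ j * a * (b ^ j)⁻¹) * b⁻¹ := by
      rw [pow_succ']; group
    rw [e, ih]
    have : b * a ^ (k ^ j) * b⁻¹ = (b * a * b⁻¹) ^ (k ^ j) := by
      have := map_zpow (MulAut.conj b) a (k ^ j)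
      simpa [MulAut.conj_apply] using this
    rw [this, h, ← zpow_mul, pow_succ']

/-- class two with commutators of exponent `p` (odd): the `p`-th power map is multiplicative -/
theorem mul_pow_prime {R : Type*} [Group R] {p : ℕ} (hp : p.Prime) (hodd : p ≠ 2)
    (Z₀ : Subgroup R) (hZ : Z₀ ≤ Subgroup.center R) (hZp : ∀ z ∈ Z₀, z ^ p = 1)
    (hcomm : ∀ x y : R, x * y * x⁻¹ * y⁻¹ ∈ Z₀) (x y : R) : (x * y) ^ p = x ^ p * y ^ p := by
  have hc := hcomm y x
  have hcen : ∀ g : R, g * (y * x * y⁻¹ * x⁻¹) = (y * x * y⁻¹ * x⁻¹) * g := fun g =>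
    Subgroup.mem_center_iff.mp (hZ hc) g
  have h1 := Helper24.mul_pow_of_commutator_commute x y (hcen x).symm (hcen y).symm p
  rw [h1]
  have hp3 : 2 < p := by
    have := hp.two_le
    omega
  obtain ⟨d, hd⟩ := hp.dvd_choose_self (k := 2) (by norm_num) hp3
  rw [hd, pow_mul, hZp _ hc, one_pow, mul_one]

/-- A group generated by `a` (of order `p^m`, `p` odd) and `b` normalizing `⟨a⟩` with
`b^p ∈ ⟨a⟩` has all commutators in a central subgroup of exponent `p`. -/
theorem exists_central_data {R : Type*} [Group R] {p : ℕ} (hp : p.Prime) (hodd : p ≠ 2)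
    (a b : R) (m : ℕ) (hm : 1 ≤ m) (ha : orderOf a = p ^ m)
    (hnorm : b * a * b⁻¹ ∈ Subgroup.zpowers a)
    (hbp : b ^ p ∈ Subgroup.zpowers a) (hgen : Subgroup.closure {a, b} = ⊤) :
    ∃ Z₀ : Subgroup R, Z₀ ≤ Subgroup.center R ∧ (∀ z ∈ Z₀, z ^ p = 1) ∧
      ∀ x y : R, x * y * x⁻¹ * y⁻¹ ∈ Z₀ := by
  obtain ⟨k, hk⟩ := Subgroup.mem_zpowers_iff.mp hnorm
  have hk' : b * a * b⁻¹ = a ^ k := hk.symm
  -- b^p commutes with a
  have hcommp : b ^ p * a * (b ^ p)⁻¹ = a := by
    obtain ⟨i, hi⟩ := Subgroup.mem_zpowers_iff.mp hbp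
    rw [← hi]
    have : a ^ i * a = a * a ^ i := (Commute.zpow_self a i).eq
    rw [this, mul_inv_cancel_right]
  have h1 := conj_pow_zpow a b k hk' p
  rw [hcommp] at h1
  have h2 : a ^ (k ^ p - 1) = 1 := by
    rw [zpow_sub, zpow_one, ← h1, mul_inv_cancel]
  have h3 : ((p : ℤ) ^ m) ∣ k ^ p - 1 := by
    have := (orderOf_dvd_iff_zpow_eq_one).mpr h2
    rw [ha] at this
    exact_mod_cast this
  obtain ⟨hk1, hk2⟩ := nt_key hp hodd m hm k h3
  obtain ⟨t, ht⟩ := hk2
  -- z₀
  obtain ⟨z₀, hz₀⟩ : ∃ z : R, z = a ^ (p ^ (m - 1)) := ⟨_, rfl⟩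
  have hpm : p ^ (m - 1) * p = p ^ m := by
    rw [← pow_succ]; congr 1; omega
  have hz₀p : z₀ ^ p = 1 := by
    rw [hz₀, ← pow_mul, hpm, ← ha, pow_orderOf_eq_one]
  have hbz₀ : b * z₀ * b⁻¹ = z₀ := by
    have e : b * z₀ * b⁻¹ = (b * a * b⁻¹) ^ (p ^ (m - 1)) := by
      rw [hz₀]
      have := map_pow (MulAut.conj b) a (p ^ (m - 1))
      simp only [MulAut.conj_apply] at this
      exact this
    rw [e, hk', ← zpow_natCast, ← zpow_mul]
    obtain ⟨s, hs⟩ := hk1
    have e2 : k * ((p ^ (m - 1) : ℕ) : ℤ)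
        = ((p ^ (m - 1) : ℕ) : ℤ) + ((p ^ m : ℕ) : ℤ) * s := by
      have hpm' : ((p ^ m : ℕ) : ℤ) = (p : ℤ) ^ (m - 1) * p := by
        rw [← hpm]; push_cast; ring
      have : k = 1 + p * s := by linarith
      rw [hpm', this]; push_cast; ring
    rw [e2, zpow_add, zpow_natCast, zpow_mul, zpow_natCast, ← ha, pow_orderOf_eq_one, one_zpow,
      mul_one, hz₀]
  have haz₀ : a * z₀ = z₀ * a := by
    rw [hz₀, ← pow_succ', ← pow_succ]
  have hbz₀' : b * z₀ = z₀ * b := by
    have := congrArg (· * b) hbz₀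
    simpa using this
  have hz₀cen : z₀ ∈ Subgroup.center R := by
    rw [Subgroup.mem_center_iff]
    intro g
    have hg : g ∈ Subgroup.closure {a, b} := hgen ▸ Subgroup.mem_top g
    have : Subgroup.closure {a, b} ≤ Subgroup.centralizer {z₀} := by
      rw [Subgroup.closure_le]
      intro x hx
      rcases hx with rfl | rfl
      · exact Subgroup.mem_centralizer_singleton_iff.mpr haz₀
      · exact Subgroup.mem_centralizer_singleton_iff.mpr hbz₀'
    exact Subgroup.mem_centralizer_singleton_iff.mp (this hg)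
  refine ⟨Subgroup.zpowers z₀, ?_, ?_, ?_⟩
  · rw [Subgroup.zpowers_le]; exact hz₀cen
  · intro z hz
    obtain ⟨i, rfl⟩ := Subgroup.mem_zpowers_iff.mp hz
    rw [← zpow_natCast, ← zpow_mul, mul_comm, zpow_mul, zpow_natCast, hz₀p, one_zpow]
  · apply comm_mem_of_gens _ (by rw [Subgroup.zpowers_le]; exact hz₀cen) {a, b} hgen
    have hba : b * a * b⁻¹ * a⁻¹ ∈ Subgroup.zpowers z₀ := by
      rw [hk']
      refine Subgroup.mem_zpowers_iff.mpr ⟨t, ?_⟩
      rw [hz₀, ← zpow_natCast, ← zpow_mul]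
      have : ((p ^ (m - 1) : ℕ) : ℤ) * t = k - 1 := by rw [ht]; push_cast; ring
      rw [this, zpow_sub, zpow_one]
    have hab : a * b * a⁻¹ * b⁻¹ ∈ Subgroup.zpowers z₀ := by
      have := Subgroup.inv_mem _ hba
      have e : (b * a * b⁻¹ * a⁻¹)⁻¹ = a * b * a⁻¹ * b⁻¹ := by group
      rwa [e] at this
    intro x hx y hy
    rcases hx with rfl | rfl <;> rcases hy with rfl | rfl
    · simp
    · exact hab
    · exact hba
    · simp

/-- a subgroup strictly containing a subgroup of prime index is everything -/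
theorem eq_top_of_lt_of_index_prime {R : Type*} [Group R] {p : ℕ} (hp : p.Prime)
    (C H : Subgroup R) (hlt : C < H) (hCi : C.index = p) : H = ⊤ := by
  have h1 := Subgroup.relIndex_mul_index hlt.le
  rw [hCi] at h1
  have h2 : H.index ∣ p := Dvd.intro_left _ h1
  rcases (Nat.dvd_prime hp).mp h2 with h | h
  · exact Subgroup.index_eq_one.mp h
  · exfalso
    rw [h] at h1
    have : C.relIndex H = 1 := by
      have := hp.pos
      nlinarith
    rw [Subgroup.relIndex_eq_one] at this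
    exact absurd this (not_le_of_gt hlt)

/-- **Core**: a non-cyclic finite `p`-group (`p` odd) with a cyclic subgroup of index `p`:
the elements with `x^p = 1` form a subgroup of order `p^2`. -/
theorem omega_card_of_cyclic_index_p {R : Type*} [Group R] [Finite R] {p : ℕ} [Fact p.Prime]
    (hodd : p ≠ 2) (hR : IsPGroup p R) (hnc : ¬ IsCyclic R) (C : Subgroup R) (hC : IsCyclic C)
    (hCi : C.index = p) :
    ∃ K : Subgroup R, (∀ x, x ∈ K ↔ x ^ p = 1) ∧ Nat.card K = p ^ 2 := by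
  have hp : p.Prime := Fact.out
  obtain ⟨⟨a, haC⟩, hgen⟩ := hC.exists_generator
  have hCa : C = Subgroup.zpowers a := by
    apply le_antisymm
    · intro x hx
      obtain ⟨i, hi⟩ := Subgroup.mem_zpowers_iff.mp (hgen ⟨x, hx⟩)
      refine Subgroup.mem_zpowers_iff.mpr ⟨i, ?_⟩
      have := congrArg Subtype.val hi
      simpa using this
    · rw [Subgroup.zpowers_le]; exact haC
  obtain ⟨n, hn⟩ := IsPGroup.iff_card.mp hR
  have hn0 : n ≠ 0 := by
    intro h0
    rw [h0, pow_zero] at hn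
    haveI : Subsingleton R := (Nat.card_eq_one_iff_unique.mp hn).1
    exact hnc inferInstance
  haveI hCn : C.Normal := by
    apply Subgroup.normal_of_index_eq_minFac_card
    rw [hCi, hn, hp.pow_minFac hn0]
  -- orders
  have hcardC : Nat.card C * p = p ^ n := by
    have := Subgroup.card_mul_index C
    rw [hCi, hn] at this
    exact this
  obtain ⟨m, hm⟩ : ∃ m, n = m + 1 := ⟨n - 1, by omega⟩
  have hcardC' : Nat.card C = p ^ m := by
    rw [hm, pow_succ] at hcardC
    exact Nat.eq_of_mul_eq_mul_right hp.pos hcardC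
  have ha : orderOf a = p ^ m := by
    rw [← hcardC', hCa, Nat.card_zpowers]
  have hm1 : 1 ≤ m := by
    by_contra h
    have hm0 : m = 0 := by omega
    rw [hm, hm0, zero_add, pow_one] at hn
    exact hnc (isCyclic_of_prime_card hn)
  -- an element outside C
  have hCtop : C ≠ ⊤ := by
    intro h
    rw [h, Subgroup.index_top] at hCi
    exact hp.one_lt.ne hCi
  obtain ⟨b, -, hbC⟩ := SetLike.exists_of_lt (lt_top_iff_ne_top.mpr hCtop)
  have hgenab : Subgroup.closure {a, b} = ⊤ := by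
    apply eq_top_of_lt_of_index_prime hp C _ _ hCi
    refine lt_of_le_of_ne ?_ ?_
    · rw [hCa, Subgroup.zpowers_le]
      exact Subgroup.subset_closure (by simp)
    · intro h
      apply hbC
      rw [h]
      exact Subgroup.subset_closure (by simp)
  have hnorm : b * a * b⁻¹ ∈ Subgroup.zpowers a := by
    rw [← hCa]; exact hCn.conj_mem a haC b
  have hbp : b ^ p ∈ Subgroup.zpowers a := by
    rw [← hCa, ← hCi]; exact Subgroup.pow_index_mem C b
  obtain ⟨Z₀, hZ₀cen, hZ₀p, hcomm⟩ :=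
    exists_central_data hp hodd a b m hm1 ha hnorm hbp hgenab
  have hmul := mul_pow_prime hp hodd Z₀ hZ₀cen hZ₀p hcomm
  let φ : R →* R := MonoidHom.mk' (fun x => x ^ p) hmul
  -- every p-th power lies in ⟨a^p⟩
  have hpow : ∀ x : R, x ^ p ∈ Subgroup.zpowers (a ^ p) := by
    intro x
    by_cases hxC : x ∈ C
    · rw [hCa] at hxC
      obtain ⟨i, rfl⟩ := Subgroup.mem_zpowers_iff.mp hxC
      refine Subgroup.mem_zpowers_iff.mpr ⟨i, ?_⟩
      rw [← zpow_natCast, ← zpow_natCast, ← zpow_mul, ← zpow_mul, mul_comm]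
    · have hxp : x ^ p ∈ Subgroup.zpowers a := by
        rw [← hCa, ← hCi]; exact Subgroup.pow_index_mem C x
      obtain ⟨i, hi⟩ := Subgroup.mem_zpowers_iff.mp hxp
      by_cases hpi : (p : ℤ) ∣ i
      · obtain ⟨j, rfl⟩ := hpi
        refine Subgroup.mem_zpowers_iff.mpr ⟨j, ?_⟩
        rw [← hi, ← zpow_natCast, ← zpow_mul]
      · exfalso
        have hcop : IsCoprime ((p : ℤ) ^ m) i :=
          ((Nat.prime_iff_prime_int.mp hp).irreducible.coprime_iff_not_dvd.mpr hpi).pow_left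
        obtain ⟨u, v, huv⟩ := hcop
        have hax : a ∈ Subgroup.zpowers x := by
          have : a = (x ^ p) ^ v := by
            rw [← hi, ← zpow_mul]
            have : i * v = 1 - u * (p : ℤ) ^ m := by linarith
            rw [this, zpow_sub, zpow_one, zpow_mul']
            have : a ^ ((p : ℤ) ^ m) = 1 := by
              have := pow_orderOf_eq_one a
              rw [ha] at this
              exact_mod_cast this
            rw [this, one_zpow, inv_one, mul_one]
          rw [this]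
          exact Subgroup.zpow_mem _ (Subgroup.pow_mem _ (Subgroup.mem_zpowers x) p) v
        have hlt : C < Subgroup.zpowers x := by
          refine lt_of_le_of_ne ?_ ?_
          · rw [hCa, Subgroup.zpowers_le]; exact hax
          · intro h; apply hxC; rw [h]; exact Subgroup.mem_zpowers x
        have := eq_top_of_lt_of_index_prime hp C _ hlt hCi
        refine hnc ⟨x, fun y => ?_⟩
        have hy : y ∈ Subgroup.zpowers x := this ▸ Subgroup.mem_top y
        exact hy
  have hrange : φ.range = Subgroup.zpowers (a ^ p) := by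
    apply le_antisymm
    · rintro _ ⟨x, rfl⟩
      exact hpow x
    · rw [Subgroup.zpowers_le]
      exact ⟨a, rfl⟩
  have hrangecard : Nat.card φ.range = p ^ (m - 1) := by
    rw [hrange, Nat.card_zpowers, orderOf_pow' a hp.ne_zero, ha]
    have : Nat.gcd (p ^ m) p = p := by
      apply Nat.gcd_eq_right
      exact dvd_pow_self p (by omega)
    rw [this]
    obtain ⟨m', rfl⟩ : ∃ m', m = m' + 1 := ⟨m - 1, by omega⟩
    rw [pow_succ, Nat.mul_div_cancel _ hp.pos]
    simp
  refine ⟨φ.ker, ?_, ?_⟩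
  · intro x
    rw [MonoidHom.mem_ker]
    rfl
  · have h1 := Subgroup.card_mul_index φ.ker
    rw [Subgroup.index_ker, hrangecard, hn, hm] at h1
    have e : p ^ (m + 1) = p ^ 2 * p ^ (m - 1) := by
      rw [← pow_add]; congr 1; omega
    rw [e] at h1
    exact Nat.eq_of_mul_eq_mul_right (pow_pos hp.pos _) h1

end Cfsg.Agent.Helper35
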