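import Mathlib
import Cfsg.Prelude.Def_OddOrderLocal

/-!
# Generic lemmas for B–G Theorem 15.9 (S1372, helper35)

* `commute_of_normalize_disjoint`: subgroups normalizing each other and meeting trivially commute;
* `omegaZ p Y = Ω₁(Z(Y))` and its basic properties;
* `commutator_le_centralizer_of_isCyclic`: `[M, M]` centralizes a cyclic subgroup normalized by `M`;
* `exists_pow_prime_order`: a non-identity element has a power of prime order.
-/

set_option autoImplicit false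

namespace Cfsg.Agent.Helper35.BG159

open Subgroup
open scoped commutatorElement

variable {G : Type*} [Group G]

theorem commute_of_normalize_disjoint {A B : Subgroup G} (hA : B ≤ normalizer (A : Set G))
    (hB : A ≤ normalizer (B : Set G)) (hd : A ⊓ B = ⊥) {a b : G} (ha : a ∈ A) (hb : b ∈ B) :
    a * b = b * a := by
  have h1 : a * b * a⁻¹ * b⁻¹ ∈ A := by
    have h2 : b * a⁻¹ * b⁻¹ ∈ A := (mem_normalizer_iff.mp (hA hb) a⁻¹).mp (A.inv_mem ha)
    have : a * b * a⁻¹ * b⁻¹ = a * (b * a⁻¹ * b⁻¹) := by group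
    rw [this]
    exact A.mul_mem ha h2
  have h2 : a * b * a⁻¹ * b⁻¹ ∈ B := by
    have h3 : a * b * a⁻¹ ∈ B := (mem_normalizer_iff.mp (hB ha) b).mp hb
    exact B.mul_mem h3 (B.inv_mem hb)
  have h3 : a * b * a⁻¹ * b⁻¹ ∈ A ⊓ B := ⟨h1, h2⟩
  rw [hd, mem_bot] at h3
  have : a * b = (a * b * a⁻¹ * b⁻¹) * (b * a) := by group
  rw [this, h3, one_mul]

/-- `Ω₁(Z(Y))`: the elements of the centre of `Y` of order dividing `p`. -/
def omegaZ (p : ℕ) (Y : Subgroup G) : Subgroup G where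
  carrier := {a | a ∈ Y ∧ a ∈ centralizer (Y : Set G) ∧ a ^ p = 1}
  one_mem' := ⟨Y.one_mem, (centralizer (Y : Set G)).one_mem, one_pow p⟩
  mul_mem' := by
    rintro a b ⟨ha, hac, hap⟩ ⟨hb, hbc, hbp⟩
    refine ⟨Y.mul_mem ha hb, (centralizer (Y : Set G)).mul_mem hac hbc, ?_⟩
    have hcomm : Commute a b := (mem_centralizer_iff.mp hbc a ha)
    rw [hcomm.mul_pow, hap, hbp, one_mul]
  inv_mem' := by
    rintro a ⟨ha, hac, hap⟩
    exact ⟨Y.inv_mem ha, (centralizer (Y : Set G)).inv_mem hac, by rw [inv_pow, hap, inv_one]⟩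

theorem mem_omegaZ {p : ℕ} {Y : Subgroup G} {a : G} :
    a ∈ omegaZ p Y ↔ a ∈ Y ∧ a ∈ centralizer (Y : Set G) ∧ a ^ p = 1 := Iff.rfl

theorem omegaZ_le (p : ℕ) (Y : Subgroup G) : omegaZ p Y ≤ Y := fun _ h => h.1

theorem omegaZ_le_centralizer (p : ℕ) (Y : Subgroup G) : omegaZ p Y ≤ centralizer (Y : Set G) :=
  fun _ h => h.2.1

theorem omegaZ_isElementaryAbelian (p : ℕ) (Y : Subgroup G) :
    Cfsg.IsElementaryAbelian p (omegaZ p Y) := by
  refine ⟨⟨⟨fun a b => ?_⟩⟩, fun a ha => ha.2.2⟩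
  apply Subtype.ext
  have := mem_centralizer_iff.mp b.2.2.1 a a.2.1
  simpa using this

theorem normalizer_le_normalizer_omegaZ (p : ℕ) (Y : Subgroup G) :
    normalizer (Y : Set G) ≤ normalizer ((omegaZ p Y : Subgroup G) : Set G) := by
  intro n hn
  have key : ∀ m : G, m ∈ normalizer (Y : Set G) → ∀ a ∈ omegaZ p Y, m * a * m⁻¹ ∈ omegaZ p Y := by
    intro m hm a ha
    refine ⟨(mem_normalizer_iff.mp hm a).mp ha.1, ?_, ?_⟩
    · rw [mem_centralizer_iff]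
      intro y hy
      have hy' : m⁻¹ * y * m ∈ Y := by
        have := (mem_normalizer_iff.mp (inv_mem hm) y).mp hy
        simpa using this
      have hc := mem_centralizer_iff.mp ha.2.1 _ hy'
      calc y * (m * a * m⁻¹) = m * ((m⁻¹ * y * m) * a) * m⁻¹ := by group
        _ = m * (a * (m⁻¹ * y * m)) * m⁻¹ := by rw [hc]
        _ = m * a * m⁻¹ * y := by group
    · rw [conj_pow, ha.2.2, mul_one, mul_inv_cancel]
  rw [mem_normalizer_iff]
  intro a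
  constructor
  · exact key n hn a
  · intro h
    have := key n⁻¹ (inv_mem hn) _ h
    have e : n⁻¹ * (n * a * n⁻¹) * n⁻¹⁻¹ = a := by group
    rwa [e] at this

theorem omegaZ_ne_bot [Finite G] {p : ℕ} [hp : Fact p.Prime] {Y : Subgroup G} (hY : IsPGroup p Y)
    (hY1 : Y ≠ ⊥) : omegaZ p Y ≠ ⊥ := by
  have : Nontrivial ↥Y := (Subgroup.nontrivial_iff_ne_bot Y).mpr hY1
  have : Nontrivial ↥(center ↥Y) := hY.center_nontrivial
  have hcard : p ∣ Nat.card ↥(center ↥Y) := by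
    have hZ : IsPGroup p ↥(center ↥Y) := hY.to_subgroup _
    obtain ⟨k, hk⟩ := IsPGroup.iff_card.mp hZ
    have hk0 : k ≠ 0 := by
      rintro rfl
      rw [pow_zero] at hk
      have : Subsingleton ↥(center ↥Y) := (Nat.card_eq_one_iff_unique.mp hk).1
      exact not_subsingleton _ this
    rw [hk]
    exact dvd_pow_self p hk0
  obtain ⟨z, hz⟩ := exists_prime_orderOf_dvd_card' (G := ↥(center ↥Y)) p hcard
  have hz1 : ((z : ↥Y) : G) ≠ 1 := by
    intro h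
    have h0 : z = 1 := Subtype.ext (Subtype.ext h)
    rw [h0, orderOf_one] at hz
    exact hp.out.one_lt.ne hz
  have hzp : ((z : ↥Y) : G) ^ p = 1 := by
    have := pow_orderOf_eq_one z
    rw [hz] at this
    have h2 := congrArg (fun t : ↥(center ↥Y) => ((t : ↥Y) : G)) this
    simpa using h2
  have hzc : ((z : ↥Y) : G) ∈ centralizer (Y : Set G) := by
    rw [mem_centralizer_iff]
    intro y hy
    have := mem_center_iff.mp z.2 ⟨y, hy⟩
    have h2 := congrArg Subtype.val this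
    simpa using h2
  intro hbot
  have hmem : ((z : ↥Y) : G) ∈ omegaZ p Y := ⟨(z : ↥Y).2, hzc, hzp⟩
  rw [hbot, mem_bot] at hmem
  exact hz1 hmem

/-- `[M, M]` centralizes every cyclic subgroup normalized by `M`. -/
theorem commutator_le_centralizer_of_isCyclic {M Z : Subgroup G} (hZ : IsCyclic ↥Z)
    (hn : M ≤ normalizer (Z : Set G)) : ⁅M, M⁆ ≤ centralizer (Z : Set G) := by
  obtain ⟨a, ha⟩ := hZ.exists_generator
  have hgen : ∀ b ∈ Z, ∃ k : ℤ, (a : G) ^ k = b := by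
    intro b hb
    have := ha ⟨b, hb⟩
    rw [Subgroup.mem_zpowers_iff] at this
    obtain ⟨k, hk⟩ := this
    refine ⟨k, ?_⟩
    have := congrArg Subtype.val hk
    simpa using this
  have hconj : ∀ m ∈ M, ∃ k : ℤ, m * (a : G) * m⁻¹ = (a : G) ^ k := by
    intro m hm
    have h1 : m * (a : G) * m⁻¹ ∈ Z := (mem_normalizer_iff.mp (hn hm) (a : G)).mp a.2
    obtain ⟨k, hk⟩ := hgen _ h1
    exact ⟨k, hk.symm⟩
  have core : ∀ m ∈ M, ∀ m' ∈ M,
      ((m' * m)⁻¹ * (m * m')) * (a : G) = (a : G) * ((m' * m)⁻¹ * (m * m')) := by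
    intro m₁ hm₁ m₂ hm₂
    obtain ⟨i, hi⟩ := hconj m₁ hm₁
    obtain ⟨j, hj⟩ := hconj m₂ hm₂
    have h12 : (m₁ * m₂) * (a : G) * (m₁ * m₂)⁻¹ = ((a : G) ^ i) ^ j := by
      calc (m₁ * m₂) * (a : G) * (m₁ * m₂)⁻¹ = m₁ * (m₂ * (a : G) * m₂⁻¹) * m₁⁻¹ := by group
        _ = m₁ * ((a : G) ^ j) * m₁⁻¹ := by rw [hj]
        _ = (m₁ * (a : G) * m₁⁻¹) ^ j := by rw [conj_zpow]
        _ = ((a : G) ^ i) ^ j := by rw [hi]
    have h21 : (m₂ * m₁) * (a : G) * (m₂ * m₁)⁻¹ = ((a : G) ^ j) ^ i := by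
      calc (m₂ * m₁) * (a : G) * (m₂ * m₁)⁻¹ = m₂ * (m₁ * (a : G) * m₁⁻¹) * m₂⁻¹ := by group
        _ = m₂ * ((a : G) ^ i) * m₂⁻¹ := by rw [hi]
        _ = (m₂ * (a : G) * m₂⁻¹) ^ i := by rw [conj_zpow]
        _ = ((a : G) ^ j) ^ i := by rw [hj]
    have heq : (m₁ * m₂) * (a : G) * (m₁ * m₂)⁻¹ = (m₂ * m₁) * (a : G) * (m₂ * m₁)⁻¹ := by
      rw [h12, h21, ← zpow_mul, ← zpow_mul, mul_comm]
    calc ((m₂ * m₁)⁻¹ * (m₁ * m₂)) * (a : G)
        = (m₂ * m₁)⁻¹ * ((m₁ * m₂) * (a : G) * (m₁ * m₂)⁻¹) * (m₁ * m₂) := by group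
      _ = (m₂ * m₁)⁻¹ * ((m₂ * m₁) * (a : G) * (m₂ * m₁)⁻¹) * (m₁ * m₂) := by rw [heq]
      _ = (a : G) * ((m₂ * m₁)⁻¹ * (m₁ * m₂)) := by group
  rw [commutator_le]
  intro m₁ hm₁ m₂ hm₂
  have hca := core m₁⁻¹ (M.inv_mem hm₁) m₂⁻¹ (M.inv_mem hm₂)
  have e1 : (m₂⁻¹ * m₁⁻¹)⁻¹ * (m₁⁻¹ * m₂⁻¹) = ⁅m₁, m₂⁆ := by
    rw [commutatorElement_def]; group
  rw [e1] at hca
  rw [mem_centralizer_iff]
  intro b hb
  obtain ⟨k, rfl⟩ := hgen b hb
  exact ((Commute.zpow_left (show Commute (a : G) ⁅m₁, m₂⁆ from hca.symm) k)).eq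

theorem exists_pow_prime_order [Finite G] {x : G} (hx : x ≠ 1) :
    ∃ (s n : ℕ), s.Prime ∧ x ^ n ≠ 1 ∧ (x ^ n) ^ s = 1 := by
  have ho : orderOf x ≠ 1 := fun h => hx (orderOf_eq_one_iff.mp h)
  obtain ⟨s, hs, hsd⟩ := Nat.exists_prime_and_dvd ho
  have hpos : 0 < orderOf x := orderOf_pos x
  have h1 : orderOf (x ^ (orderOf x / s)) = s := orderOf_pow_orderOf_div hpos.ne' hsd
  refine ⟨s, orderOf x / s, hs, ?_, ?_⟩
  · intro h
    rw [h, orderOf_one] at h1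
    exact hs.one_lt.ne h1
  · have h2 := pow_orderOf_eq_one (x ^ (orderOf x / s))
    rwa [h1] at h2

end Cfsg.Agent.Helper35.BG159
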