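import Mathlib
import Cfsg.Agent.Lib.Helper93.RU0

/-!
# RJ project (S2279): `SL_n(F)`, `n ≥ 4`, is generated by two CONJUGATE regular unipotents
`u = J` (upper Jordan block `uEl`) and `g u g⁻¹`, `g = x_{n-1,0}(λ)` (lowest root), for every finite `F`.
Shared definitions.  `n = m + 3`, index type `Fin (m+3)`, RU conventions (`tvS`, `eV`, `uEl`, `Wset`).
-/

set_option autoImplicit false

namespace Cfsg.Agent.Helper35.RJ

open Matrix Cfsg.Agent.Helper93.RU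

variable {F : Type*} [Field F] {m : ℕ}

/-- the last index `n - 1 = m + 2` -/
def lastI (m : ℕ) : Fin (m + 3) := Fin.last (m + 2)

/-- `a_k = J^k e_last` (column), `k ∈ ℤ` -/
noncomputable def aV (m : ℕ) (F : Type*) [Field F] (k : ℤ) : Fin (m + 3) → F :=
  ((uEl m F) ^ k).1 *ᵥ eV (lastI m)

/-- `φ_k = e_0ᵀ J^{-k}` (row), `k ∈ ℤ` -/
noncomputable def phV (m : ℕ) (F : Type*) [Field F] (k : ℤ) : Fin (m + 3) → F :=
  eV 0 ᵥ* ((uEl m F) ^ (-k)).1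

/-- `π(i) = (J^i)_{0,last}`; `φ_j ⬝ a_k = π(k - j)` -/
noncomputable def piZ (m : ℕ) (F : Type*) [Field F] (i : ℤ) : F :=
  ((uEl m F) ^ i).1 0 (lastI m)

/-- `T(j,k;x) = 1 + x a_j φ_kᵀ` (a transvection when `π(j-k) = 0`, i.e. `0 ≤ j - k ≤ m+1`) -/
noncomputable def Tjk (j k : ℤ) (x : F) : SLm m F := tvS (aV m F j) (x • phV m F k)

/-- `g = x_{last,0}(λ) = 1 + λ e_last e_0ᵀ` -/
noncomputable def hEl (lam : F) : SLm m F := tvS (eV (lastI m)) (lam • eV 0)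

/-- `s_k = h_{k-1} h_k⁻¹`, `h_k = J^k g J^{-k} = T(k,k;λ)` -/
noncomputable def sK (lam : F) (k : ℤ) : SLm m F :=
  Tjk (m := m) (k - 1) (k - 1) lam * (Tjk (m := m) k k lam)⁻¹

/-- `Λ_d = {x | T(d,0;x) ∈ H}` -/
def Lam (H : Subgroup (SLm m F)) (d : ℕ) : Set F := {x | Tjk (m := m) (d : ℤ) 0 x ∈ H}

end Cfsg.Agent.Helper35.RJ
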