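import Mathlib
import Cfsg.Prelude.Def_OddOrderLocal
import Cfsg.Agent.Lib.Helper73.BG161Defs
import Cfsg.Agent.Lib.Helper95.BG15.FitSigma
import Cfsg.Agent.Lib.Helper55.BGDecomp
import Cfsg.Agent.Lib.Helper55.BGFrob
import Cfsg.Agent.Lib.Helper76.SylowNorm
import Cfsg.Agent.Lib.Helper34.BG10e
import Cfsg.Agent.Lib.Helper35.BG159a
import Cfsg.Agent.Lib.Helper23.FittingHall

/-!
# B–G Theorem 15.9 (S1372, helper35): `K` has prime order, `M_σ ≤ F(M)` and `F(M)` is a TI-subset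

Hypothesis-parametrised: the statements of the earlier rows used are taken as explicit hypotheses
(`Txxxx G` from `Helper73.BG161Defs`, plus `T1404`, `T1409` below), so this file imports no `Sxxxx`.
-/

set_option autoImplicit false
set_option linter.unusedVariables false
open Pointwise

namespace Cfsg.Agent.Helper35.BG159

open Subgroup Cfsg
open Cfsg.Agent.Helper73.BG161 (T1350 T1353 T1365 T1375 T1420 T1429 T1430 T1431)
open Cfsg.Agent.Helper95.BG15.FitSigma (Op Op_le Op_norm Op_isPGroup)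

/-- The statement of S1404 (for a fixed minimal simple group of odd order `G`). -/
def T1404 (G : Type*) [Group G] [Finite G] : Prop :=
  ∀ (M : Subgroup G) (hM : IsCoatom M) (p : ℕ) [Fact p.Prime] (hp : p ∈ Cfsg.sigma M)
    (X : Subgroup G) (hXp : IsPGroup p X) (hX1 : X ≠ ⊥) (hXM : X ≤ M),
    (∀ g : G, X.map (MulAut.conj g).toMonoidHom ≤ M → ∃ m ∈ M, ∃ c ∈ Subgroup.centralizer (X : Set G), g = m * c) ∧
      Subgroup.normalizer (X : Set G) = (M ⊓ Subgroup.normalizer (X : Set G)) ⊔ Subgroup.centralizer (X : Set G)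

/-- The statement of S1409 (for a fixed minimal simple group of odd order `G`). -/
def T1409 (G : Type*) [Group G] [Finite G] : Prop :=
  ∀ (M : Subgroup G) (hM : IsCoatom M) (p : ℕ) [Fact p.Prime] (hp : p ∉ Cfsg.sigma M) (X : Subgroup G) (hX : Nat.card X = p)
    (hNX : Subgroup.normalizer (X : Set G) ≤ M),
    (Cfsg.PRankLE p 2 M ∧ ¬ Cfsg.PRankLE p 1 M) ∧ ¬ Cfsg.IsIdealPrime p G ∧
      ∃ A : Subgroup G, Cfsg.IsElementaryAbelian p A ∧ Nat.card A = p ^ 2 ∧ X ≤ A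

variable {G : Type*} [Group G] [Finite G]

/-- `M_σ` is nilpotent and `C_{M_σ}(U) = 1` when `U ≠ 1` (from S1429). -/
theorem nil_and_cent {M K U : Subgroup G} (hM : IsCoatom M)
    (hKU : Cfsg.IsSigmaDecomposition M K U) (hU1 : U ≠ ⊥)
    (hHall : Cfsg.IsPiHallOf (Cfsg.sigma M) (Cfsg.sigmaCore M) M) (h1429 : T1429 G) :
    Group.IsNilpotent ↥(Cfsg.sigmaCore M) ∧
      Cfsg.sigmaCore M ⊓ centralizer (U : Set G) = ⊥ := by
  have hUM : U ≤ M := hKU.compl.1
  have hcardU : Nat.card U ≠ 1 := fun h => hU1 (Subgroup.card_eq_one.mp h)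
  obtain ⟨r, hr, hrU⟩ := Nat.exists_prime_and_dvd hcardU
  haveI := Fact.mk hr
  obtain ⟨hrκ, hrσ⟩ := Cfsg.Agent.Helper55.BGB.U_prime_not_mem hKU hHall hr hrU
  have hrM : r ∣ Nat.card M := hrU.trans (Subgroup.card_dvd_of_le hUM)
  have hP1 : ¬ (∀ q : ℕ, q.Prime → q ∣ Nat.card M → q ∉ Cfsg.sigma M → q ∈ Cfsg.kappa M) :=
    fun h => hrκ (h r hr hrM hrσ)
  -- a Sylow `r`-subgroup of `M` inside `U`
  have hidx : ¬ r ∣ (U.subgroupOf M).index := by
    have h1 := Cfsg.Agent.Helper55.BGB.card_decomp hKU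
    have h2 := Cfsg.Agent.Helper55.BGB.card_mul_relIndex hUM
    have h3 : U.relIndex M = Nat.card K * Nat.card (Cfsg.sigmaCore M) := by
      have hpos : 0 < Nat.card U := Nat.card_pos
      apply Nat.eq_of_mul_eq_mul_left hpos
      rw [h2, h1]
    intro hd
    change r ∣ U.relIndex M at hd
    rw [h3] at hd
    rcases (Nat.Prime.dvd_mul hr).mp hd with h | h
    · exact hrκ (hKU.hall.2.1 r hr h)
    · exact hrσ (Cfsg.Agent.Helper55.BGB.isPi_sigmaCore M r hr h)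
  obtain ⟨S, hS⟩ := Cfsg.Agent.Helper76.exists_sylow_le_of_not_dvd_index (G := ↥M) r
    (U.subgroupOf M) hidx
  have hSU : (S : Subgroup ↥M).map M.subtype ≤ U := by
    rintro _ ⟨y, hy, rfl⟩
    exact mem_subgroupOf.mp (hS hy)
  obtain ⟨-, hcent, hnil⟩ := h1429 M hM hP1 r hrM (by
    intro h
    rcases h with h | h
    · exact hrσ h
    · exact hrκ h) S
  refine ⟨hnil, ?_⟩
  rw [eq_bot_iff, ← hcent]
  refine inf_le_inf_left _ (centralizer_le ?_)
  intro y hy
  have hcl : closure {x : G | x ∈ (S : Subgroup ↥M).map M.subtype ∧ x ^ r = 1} ≤ U := by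
    rw [closure_le]
    intro x hx
    exact hSU hx.1
  exact hcl hy

/-- `M_σ ≠ 1` when `K ≠ 1` (definition of `κ(M)`). -/
theorem sigmaCore_ne_bot_of_K {M K U : Subgroup G}
    (hKU : Cfsg.IsSigmaDecomposition M K U) (hK1 : K ≠ ⊥) : Cfsg.sigmaCore M ≠ ⊥ := by
  have hcardK : Nat.card K ≠ 1 := fun h => hK1 (Subgroup.card_eq_one.mp h)
  obtain ⟨q, hq, hqK⟩ := Nat.exists_prime_and_dvd hcardK
  have hqκ := hKU.hall.2.1 q hq hqK
  haveI := Fact.mk hq
  obtain ⟨P⟩ : Nonempty (Sylow q ↥M) := inferInstance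
  obtain ⟨-, x, -, -, y, hy, hy1, -⟩ := hqκ.2.2.2 P
  intro h
  rw [h, mem_bot] at hy
  exact hy1 hy

/-- B–G 15.9(a): `K` has prime order. -/
theorem card_K_prime (hG : IsMinSimpleOddOrder G) {M K U : Subgroup G} (hM : IsCoatom M)
    (hKU : Cfsg.IsSigmaDecomposition M K U) (hK1 : K ≠ ⊥) (hU1 : U ≠ ⊥)
    (hHall : Cfsg.IsPiHallOf (Cfsg.sigma M) (Cfsg.sigmaCore M) M)
    (h1353 : T1353 G) (h1429 : T1429 G) (h1430 : T1430 G) : (Nat.card K).Prime := by
  obtain ⟨hnil, hcent⟩ := nil_and_cent hM hKU hU1 hHall h1429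
  have hUM : U ≤ M := hKU.compl.1
  have hKM : K ≤ M := hKU.hall.1
  have hUKM : U ⊔ K ≤ M := sup_le hUM hKM
  have hMσn := Cfsg.Agent.Helper55.BGB.le_normalizer_sigmaCore M
  have hsolvM : Group.IsSolvable ↥M := Cfsg.Agent.Helper34.BG.solvable_of_ne_top hG hM.1
  have hsolv : Group.IsSolvable ↥(U ⊔ K) :=
    solvable_of_solvable_injective (Subgroup.inclusion_injective hUKM)
  have hodd : Odd (Nat.card ↥(U ⊔ K)) := Cfsg.Agent.Helper34.BG.odd_card_subgroup hG _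
  have hDK : U ⊓ K = ⊥ := by
    rw [eq_bot_iff, ← hKU.compl.2.2.1]
    exact inf_le_inf_left _ le_sup_left
  have hbot : normalizer ((⊥ : Subgroup G) : Set G) = ⊤ := normalizer_eq_top_iff.mpr inferInstance
  have hcop : (Nat.card ↥(U ⊔ K)).Coprime (Nat.card ↥(Cfsg.sigmaCore M)) := by
    apply Nat.coprime_of_dvd
    intro q hq hq1 hq2
    have hqσ : q ∈ Cfsg.sigma M := Cfsg.Agent.Helper55.BGB.isPi_sigmaCore M q hq hq2
    -- `|U ⊔ K|` divides `|U| * |K|`
    have hdvd : Nat.card ↥(U ⊔ K) ∣ Nat.card U * Nat.card K := by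
      have h := Cfsg.Agent.Helper50.card_sup_mul_card_inf_of_le_normalizer U K hKU.normal
      rw [hDK, Subgroup.card_bot, mul_one] at h
      rw [h]
    rcases (Nat.Prime.dvd_mul hq).mp (hq1.trans hdvd) with h | h
    · exact (Cfsg.Agent.Helper55.BGB.U_prime_not_mem hKU hHall hq h).2 hqσ
    · exact Cfsg.Agent.Helper55.BGB.not_mem_sigma_of_mem_kappa (hKU.hall.2.1 q hq h) hqσ
  have h := Cfsg.Agent.Helper55.BGFrob.frob_section U K (Cfsg.sigmaCore M) ⊥ hU1 hK1 hDK hKU.normal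
    (h1353 M hM K U hKU) hsolv hodd bot_le (by rw [hbot]; exact le_top) hnil
    (hUM.trans hMσn) (hKM.trans hMσn) (by rw [hbot]; exact le_top) (by rw [hbot]; exact le_top)
    hcop (by rw [hcent]) ((h1430 M hM K hKU.hall hK1).1)
    (by
      intro h
      exact sigmaCore_ne_bot_of_K hKU hK1 (le_bot_iff.mp h))
  exact h.1

/-- B–G 15.9(c): `M_σ ≤ F(M)` once `M_σ` is nilpotent. -/
theorem sigmaCore_le_fittingOf_of_nil {M : Subgroup G}
    (hnil : Group.IsNilpotent ↥(Cfsg.sigmaCore M)) : Cfsg.sigmaCore M ≤ Cfsg.fittingOf M :=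
  Cfsg.Agent.Helper95.BG15.FitSigma.le_fittingOf_of_normal (H := M) (X := Cfsg.sigmaCore M)
    (N := Cfsg.sigmaCore M) (Cfsg.Agent.Helper55.BGB.sigmaCore_le M)
    (Cfsg.Agent.Helper55.BGB.le_normalizer_sigmaCore M) le_rfl le_normalizer hnil

/-- `O_s(M) ∩ M_σ = 1` for a prime `s ∉ σ(M)`. -/
theorem Op_inf_sigmaCore {M : Subgroup G} {s : ℕ} [hs : Fact s.Prime] (hsσ : s ∉ Cfsg.sigma M) :
    Op M s ⊓ Cfsg.sigmaCore M = ⊥ := by
  by_contra hne
  have hcard : Nat.card ↥(Op M s ⊓ Cfsg.sigmaCore M) ≠ 1 := fun h => hne (Subgroup.card_eq_one.mp h)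
  obtain ⟨q, hq, hqd⟩ := Nat.exists_prime_and_dvd hcard
  have h1 : q ∣ Nat.card ↥(Op M s) := hqd.trans (Subgroup.card_dvd_of_le inf_le_left)
  have h2 : q ∣ Nat.card ↥(Cfsg.sigmaCore M) := hqd.trans (Subgroup.card_dvd_of_le inf_le_right)
  obtain ⟨k, hk⟩ := IsPGroup.iff_card.mp (Op_isPGroup M s)
  rw [hk] at h1
  have hqs : q = s := (Nat.prime_dvd_prime_iff_eq hq hs.out).mp (hq.dvd_of_dvd_pow h1)
  exact hsσ (hqs ▸ Cfsg.Agent.Helper55.BGB.isPi_sigmaCore M q hq h2)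

/-- Case `s ∉ σ(M)`: an element of `F(M)` of prime order `s ∉ σ(M)` has its centralizer in `M` only
(S1420(d)). -/
theorem cent_uniq_of_not_sigma (hG : IsMinSimpleOddOrder G) (hU : Cfsg.Agent.Helper34.BG.UniqHyp G)
    {M : Subgroup G} (hM : IsCoatom M)
    (hHall : Cfsg.IsPiHallOf (Cfsg.sigma M) (Cfsg.sigmaCore M) M) (h1420 : T1420 G)
    (hσne : Cfsg.sigmaCore M ≠ ⊥) {s : ℕ} (hs : s.Prime) (hsσ : s ∉ Cfsg.sigma M) {x : G}
    (hx : x ∈ Cfsg.fittingOf M) (hx1 : x ≠ 1) (hxs : x ^ s = 1) :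
    centralizer ({x} : Set G) ≤ M ∧
      ∀ L : Subgroup G, IsCoatom L → centralizer ({x} : Set G) ≤ L → L = M := by
  haveI := Fact.mk hs
  have hxOp : x ∈ Op M s :=
    Cfsg.Agent.Helper95.BG15.FitSigma.mem_Op_of_mem_fittingOf M s hx (j := 1) (by rwa [pow_one])
  have hOpne : Op M s ≠ ⊥ := by
    intro h
    rw [h, mem_bot] at hxOp
    exact hx1 hxOp
  have hτ : s ∈ Cfsg.tau2 M :=
    Cfsg.Agent.Helper95.BG15.FitSigma.mem_tau2_of_Op_ne_bot hG hU hM hsσ hOpne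
  obtain ⟨E, hE⟩ := Cfsg.Agent.Helper55.BGB.exists_compl_sigmaCore hHall
  obtain ⟨⟨y, hy⟩, hy1⟩ := (Subgroup.ne_bot_iff_exists_ne_one).mp hσne
  have hy1' : y ≠ 1 := fun h => hy1 (Subtype.ext h)
  have hcomm : x * y = y * x :=
    commute_of_normalize_disjoint (A := Op M s) (B := Cfsg.sigmaCore M)
      ((Cfsg.Agent.Helper55.BGB.sigmaCore_le M).trans (Op_norm M s))
      ((Op_le M s).trans (Cfsg.Agent.Helper55.BGB.le_normalizer_sigmaCore M))
      (Op_inf_sigmaCore hsσ) hxOp hy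
  have hxM : x ∈ M := Cfsg.Agent.Helper55.BGB.fittingOf_le M hx
  have ho : orderOf x = s := orderOf_eq_prime hxs hx1
  refine (h1420 M hM E hE).2.2.2 x hxM hx1 ?_ ⟨hxM, y, hy, hy1', hcomm⟩
  intro p hp hpd
  rw [ho] at hpd
  rw [(Nat.prime_dvd_prime_iff_eq hp hs).mp hpd]
  exact hτ

/-- Case `s ∉ σ(M)` of the TI property. -/
theorem mem_of_conj_not_sigma (hG : IsMinSimpleOddOrder G)
    (hU : Cfsg.Agent.Helper34.BG.UniqHyp G)
    {M : Subgroup G} (hM : IsCoatom M)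
    (hHall : Cfsg.IsPiHallOf (Cfsg.sigma M) (Cfsg.sigmaCore M) M) (h1420 : T1420 G)
    (hσne : Cfsg.sigmaCore M ≠ ⊥) {s : ℕ} (hs : s.Prime) (hsσ : s ∉ Cfsg.sigma M) {g x : G}
    (hx : x ∈ Cfsg.fittingOf M) (hgx : g * x * g⁻¹ ∈ Cfsg.fittingOf M) (hx1 : x ≠ 1)
    (hxs : x ^ s = 1) : g ∈ M := by
  obtain ⟨h1, h2⟩ := cent_uniq_of_not_sigma hG hU hM hHall h1420 hσne hs hsσ hx hx1 hxs
  have hx1' : g * x * g⁻¹ ≠ 1 := by
    intro h
    apply hx1
    have : x = g⁻¹ * (g * x * g⁻¹) * g := by group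
    rw [this, h]; group
  have hxs' : (g * x * g⁻¹) ^ s = 1 := by rw [conj_pow, hxs, mul_one, mul_inv_cancel]
  obtain ⟨h3, -⟩ := cent_uniq_of_not_sigma hG hU hM hHall h1420 hσne hs hsσ hgx hx1' hxs'
  have hX : Cfsg.InUniqueMaximal (centralizer ({x} : Set G)) :=
    Cfsg.Agent.Helper34.BG.inUniqueMaximal_of_forall hM h1 h2
  apply Cfsg.Agent.Helper34.BG.uniq_mem_of_conj_le hG hX hM h1 (g := g)
  rw [Cfsg.Agent.Helper33.conj_smul_le_iff]
  intro c hc
  apply h3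
  rw [mem_centralizer_iff]
  intro z hz
  rw [Set.mem_singleton_iff] at hz
  subst hz
  have hcx : x * c = c * x := mem_centralizer_iff.mp hc x (Set.mem_singleton x)
  calc g * x * g⁻¹ * (g * c * g⁻¹) = g * (x * c) * g⁻¹ := by group
    _ = g * (c * x) * g⁻¹ := by rw [hcx]
    _ = g * c * g⁻¹ * (g * x * g⁻¹) := by group

/-- Case `p ∈ σ(M)` of the TI property. -/
theorem false_of_conj_sigma (hG : IsMinSimpleOddOrder G)
    {M K U : Subgroup G} (hM : IsCoatom M)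
    (hKU : Cfsg.IsSigmaDecomposition M K U) (hK1 : K ≠ ⊥) (hU1 : U ≠ ⊥)
    (hHall : Cfsg.IsPiHallOf (Cfsg.sigma M) (Cfsg.sigmaCore M) M)
    (h1350 : T1350 G) (h1365 : T1365 G) (h1375 : T1375 G) (h1404 : T1404 G) (h1409 : T1409 G)
    (h1429 : T1429 G) (h1431 : T1431 G)
    (hKstar : Cfsg.sigmaCore M ⊓ centralizer (K : Set G) ≠ ⊥)
    {p : ℕ} (hp : p.Prime) (hpσ : p ∈ Cfsg.sigma M) {g x : G}
    (hx : x ∈ Cfsg.fittingOf M) (hgx : g * x * g⁻¹ ∈ Cfsg.fittingOf M) (hx1 : x ≠ 1)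
    (hxp : x ^ p = 1) (hg : g ∉ M) : False := by
  haveI := Fact.mk hp
  haveI : IsSimpleGroup G := hG.2.1
  obtain ⟨hnil, hcent⟩ := nil_and_cent hM hKU hU1 hHall h1429
  have hσF := sigmaCore_le_fittingOf_of_nil hnil
  have hxP : x ∈ Op M p :=
    Cfsg.Agent.Helper95.BG15.FitSigma.mem_Op_of_mem_fittingOf M p hx (j := 1) (by rwa [pow_one])
  have hPσ : Op M p ≤ Cfsg.sigmaCore M :=
    Cfsg.Agent.Helper55.BGB.le_sigmaCore_of_isPGroup hp hHall hpσ (Op_le M p) (Op_isPGroup M p)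
  have hxσ := hPσ hxP
  have hxM : x ∈ M := Cfsg.Agent.Helper55.BGB.fittingOf_le M hx
  have ho : orderOf x = p := orderOf_eq_prime hxp hx1
  set X : Subgroup G := zpowers x with hXdef
  have hXcard : Nat.card X = p := by rw [hXdef, Nat.card_zpowers, ho]
  have hXp : IsPGroup p X := IsPGroup.of_card (n := 1) (by rw [hXcard, pow_one])
  have hX1 : X ≠ ⊥ := zpowers_ne_bot.mpr hx1
  have hXM : X ≤ M := zpowers_le.mpr hxM
  have hXt : X ≠ ⊤ := Cfsg.Agent.Helper34.BG.ne_top_of_le_coatom hM hXM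
  have hcX : centralizer (X : Set G) = centralizer ({x} : Set G) :=
    Cfsg.Agent.Helper34.BG.centralizer_zpowers_eq x
  have hmap : X.map (MulAut.conj g).toMonoidHom ≤ M := by
    rw [hXdef, MonoidHom.map_zpowers]
    apply zpowers_le.mpr
    exact Cfsg.Agent.Helper55.BGB.fittingOf_le M hgx
  obtain ⟨m, hm, c, hc, hgmc⟩ := (h1404 M hM p hpσ X hXp hX1 hXM).1 g hmap
  have hnot : ¬ centralizer ({x} : Set G) ≤ M := by
    intro h
    apply hg
    rw [hgmc]
    rw [hcX] at hc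
    exact M.mul_mem hm (h hc)
  obtain ⟨N, ⟨hN, hCN⟩, huniq, -, -, -, hcompl, -⟩ := h1375 M hM x hxσ hx1 hnot
  have hNM : N ≠ M := by
    rintro rfl
    exact hnot hCN
  have hxN : x ∈ N := by
    apply hCN
    rw [mem_centralizer_iff]
    intro w hw
    rw [Set.mem_singleton_iff] at hw
    rw [hw]
  have hpσN : p ∉ Cfsg.sigma N := by
    intro hpN
    have hHallN := (h1350 N hN).1
    have hc1 := Cfsg.Agent.Helper23.card_of_isComplIn hcompl
    have hc2 := Cfsg.Agent.Helper55.BGB.card_mul_relIndex hHallN.1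
    have hrel : (Cfsg.sigmaCore N).relIndex N = Nat.card ↥(M ⊓ N) := by
      have hpos : 0 < Nat.card ↥(Cfsg.sigmaCore N) := Nat.card_pos
      apply Nat.eq_of_mul_eq_mul_left hpos
      rw [hc2, hc1, mul_comm]
    apply hHallN.2.2 p hp hpN
    rw [hrel]
    have h1 : orderOf (⟨x, Subgroup.mem_inf.mpr ⟨hxM, hxN⟩⟩ : ↥(M ⊓ N)) ∣ Nat.card ↥(M ⊓ N) :=
      orderOf_dvd_natCard _
    rwa [Subgroup.orderOf_mk, ho] at h1
  have hNX : normalizer (X : Set G) ≤ N :=
    Cfsg.Agent.Helper55.BGB.normalizer_le_of_unique hX1 hXt (by rw [hcX]; exact huniq)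
  obtain ⟨⟨hr2, -⟩, -, -⟩ := h1409 N hN p hpσN X hXcard hNX
  by_cases hcase : Op M p ≤ centralizer ({x} : Set G)
  · -- `x` is central in `O_p(M)`: then `F(M) ≤ C_G(x) ≤ N`
    have hF : Cfsg.fittingOf M ≤ centralizer ({x} : Set G) := by
      rw [Cfsg.Agent.Helper95.BG15.FitSigma.fittingOf_eq_iSup]
      apply iSup_le
      rintro ⟨q, hq⟩
      by_cases hqp : q = p
      · change Op M q ≤ _
        rw [hqp]; exact hcase
      · haveI := Fact.mk hq
        intro z hz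
        rw [mem_centralizer_iff]
        intro w hw
        rw [Set.mem_singleton_iff] at hw
        rw [hw]
        exact commute_of_normalize_disjoint (A := Op M p) (B := Op M q)
          ((Op_le M q).trans (Op_norm M p)) ((Op_le M p).trans (Op_norm M q))
          (IsPGroup.disjoint_of_ne p q (Ne.symm hqp) _ _ (Op_isPGroup M p) (Op_isPGroup M q)).eq_bot
          hxP hz
    have hσN : Cfsg.sigmaCore M ≤ N := hσF.trans (hF.trans hCN)
    have hcardKs : Nat.card ↥(Cfsg.sigmaCore M ⊓ centralizer (K : Set G)) ≠ 1 :=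
      fun h => hKstar (Subgroup.card_eq_one.mp h)
    obtain ⟨q, hq, hqd⟩ := Nat.exists_prime_and_dvd hcardKs
    haveI := Fact.mk hq
    obtain ⟨S⟩ : Nonempty (Sylow q ↥(Cfsg.sigmaCore M)) := inferInstance
    obtain ⟨hS1, hS2, -⟩ := (h1431 M hM K hKU.hall hK1).2.2.1 q hq hqd S
    have hSN : (S : Subgroup ↥(Cfsg.sigmaCore M)).map (Cfsg.sigmaCore M).subtype ≤ N :=
      (map_subtype_le _).trans hσN
    exact hNM (Cfsg.Agent.Helper34.BG.uniq_eq_of_le hS1 hM hS2 hN hSN)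
  · -- `x` is not central in `P = O_p(M)`: `Ω₁(Z(P))` has order `p`
    have hZ0A : omegaZ p (Op M p) ≤ omegaZ p (Op M p ⊓ centralizer ({x} : Set G)) := by
      intro z hz
      refine ⟨⟨hz.1, ?_⟩, ?_, hz.2.2⟩
      · exact centralizer_le (Set.singleton_subset_iff.mpr hxP) hz.2.1
      · refine centralizer_le ?_ hz.2.1
        intro w hw
        exact hw.1
    have hxA : x ∈ omegaZ p (Op M p ⊓ centralizer ({x} : Set G)) := by
      have hxx : x ∈ centralizer ({x} : Set G) := by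
        rw [mem_centralizer_iff]
        intro w hw
        rw [Set.mem_singleton_iff] at hw
        rw [hw]
      have hxc : x ∈ centralizer ((Op M p ⊓ centralizer ({x} : Set G) : Subgroup G) : Set G) := by
        rw [mem_centralizer_iff]
        intro w hw
        exact (mem_centralizer_iff.mp hw.2 x (Set.mem_singleton x)).symm
      exact ⟨Subgroup.mem_inf.mpr ⟨hxP, hxx⟩, hxc, hxp⟩
    have hxZ0 : x ∉ omegaZ p (Op M p) := by
      intro h
      apply hcase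
      intro y hy
      rw [mem_centralizer_iff]
      intro w hw
      rw [Set.mem_singleton_iff] at hw
      rw [hw]
      exact (mem_centralizer_iff.mp h.2.1 y hy).symm
    have hAN : omegaZ p (Op M p ⊓ centralizer ({x} : Set G)) ≤ N := fun a ha => hCN ha.1.2
    have hAel := omegaZ_isElementaryAbelian p (Op M p ⊓ centralizer ({x} : Set G))
    have hAcard : Nat.card ↥(omegaZ p (Op M p ⊓ centralizer ({x} : Set G))) ≤ p ^ 2 := by
      by_contra hlt
      push Not at hlt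
      exact Cfsg.Agent.Helper34.BG.not_pRankLE_of_elemAb hAN hAel hlt hr2
    have hP1 : Op M p ≠ ⊥ := by
      intro h
      rw [h, mem_bot] at hxP
      exact hx1 hxP
    have hZ0ne : omegaZ p (Op M p) ≠ ⊥ := omegaZ_ne_bot (Op_isPGroup M p) hP1
    have hZ0p : IsPGroup p ↥(omegaZ p (Op M p)) := (Op_isPGroup M p).to_le (omegaZ_le p _)
    obtain ⟨k, hk⟩ := IsPGroup.iff_card.mp hZ0p
    have hlt : Nat.card ↥(omegaZ p (Op M p)) <
        Nat.card ↥(omegaZ p (Op M p ⊓ centralizer ({x} : Set G))) := by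
      apply lt_of_le_of_ne (Subgroup.card_le_of_le hZ0A)
      intro heq
      have h1 : omegaZ p (Op M p) = omegaZ p (Op M p ⊓ centralizer ({x} : Set G)) :=
        Subgroup.eq_of_le_of_card_ge hZ0A heq.ge
      exact hxZ0 (h1 ▸ hxA)
    have hk1 : k = 1 := by
      have h1 : p ^ k < p ^ 2 := by
        rw [← hk]
        exact lt_of_lt_of_le hlt hAcard
      have h2 : k < 2 := (Nat.pow_lt_pow_iff_right hp.one_lt).mp h1
      have h3 : k ≠ 0 := by
        rintro rfl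
        rw [pow_zero] at hk
        exact hZ0ne (Subgroup.card_eq_one.mp hk)
      omega
    have hZ0card : Nat.card ↥(omegaZ p (Op M p)) = p := by rw [hk, hk1, pow_one]
    have hZ0cyc : IsCyclic ↥(omegaZ p (Op M p)) := isCyclic_of_prime_card hZ0card
    have hMZ0 : M ≤ normalizer ((omegaZ p (Op M p) : Subgroup G) : Set G) :=
      (Op_norm M p).trans (normalizer_le_normalizer_omegaZ p _)
    have hcomm := commutator_le_centralizer_of_isCyclic hZ0cyc hMZ0
    have hUcomm : U ≤ ⁅M, M⁆ := by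
      rw [(h1365 M hM K U hKU hK1).1]
      exact le_sup_left
    have hZ0le : omegaZ p (Op M p) ≤ Cfsg.sigmaCore M ⊓ centralizer (U : Set G) := by
      intro z hz
      have hzc : z ∈ centralizer (U : Set G) := by
        rw [mem_centralizer_iff]
        intro u hu
        exact (mem_centralizer_iff.mp (hcomm (hUcomm hu)) z hz).symm
      exact Subgroup.mem_inf.mpr ⟨hPσ hz.1, hzc⟩
    rw [hcent] at hZ0le
    exact hZ0ne (le_bot_iff.mp hZ0le)

/-- B–G Theorem 15.9 (the statement of S1372), from the statements of the earlier rows. -/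
theorem bg15_9 (hG : IsMinSimpleOddOrder G) (hU : Cfsg.Agent.Helper34.BG.UniqHyp G)
    (h1350 : T1350 G) (h1353 : T1353 G) (h1365 : T1365 G) (h1375 : T1375 G) (h1404 : T1404 G)
    (h1409 : T1409 G) (h1420 : T1420 G) (h1429 : T1429 G) (h1430 : T1430 G) (h1431 : T1431 G)
    (M : Subgroup G) (hM : IsCoatom M) (K U : Subgroup G)
    (hKU : Cfsg.IsSigmaDecomposition M K U) (hK1 : K ≠ ⊥) (hU1 : U ≠ ⊥)
    (hKstar : Cfsg.sigmaCore M ⊓ centralizer (K : Set G) ≠ ⊥) :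
    (Nat.card K).Prime ∧ Cfsg.IsTISubset (Cfsg.fittingOf M : Set G) ∧
      Cfsg.sigmaCore M ≤ Cfsg.fittingOf M := by
  have hHall := (h1350 M hM).1
  obtain ⟨hnil, hcent⟩ := nil_and_cent hM hKU hU1 hHall h1429
  have hσF := sigmaCore_le_fittingOf_of_nil hnil
  have hσne := sigmaCore_ne_bot_of_K hKU hK1
  refine ⟨card_K_prime hG hM hKU hK1 hU1 hHall h1353 h1429 h1430, ?_, hσF⟩
  have hFne : Cfsg.fittingOf M ≠ ⊥ := by
    intro h
    rw [h] at hσF
    exact hσne (le_bot_iff.mp hσF)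
  have hNF : normalizer ((Cfsg.fittingOf M : Subgroup G) : Set G) = M :=
    Cfsg.Agent.Helper95.BG15.FitSigma.normalizer_eq_of_coatom hG hM
      (Cfsg.Agent.Helper55.BGB.fittingOf_le M) hFne
      (Cfsg.Agent.Helper55.BGB.le_normalizer_fittingOf M)
  intro g hg x hx hgx
  rw [hNF] at hg
  by_contra hx1
  have hx' : x ∈ Cfsg.fittingOf M := hx
  have hgx' : g * x * g⁻¹ ∈ Cfsg.fittingOf M := hgx
  obtain ⟨s, n, hs, hy1, hys⟩ := exists_pow_prime_order hx1
  have hy : x ^ n ∈ Cfsg.fittingOf M := (Cfsg.fittingOf M).pow_mem hx' n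
  have hgy : g * x ^ n * g⁻¹ ∈ Cfsg.fittingOf M := by
    rw [← conj_pow]
    exact (Cfsg.fittingOf M).pow_mem hgx' n
  by_cases hsσ : s ∈ Cfsg.sigma M
  · exact false_of_conj_sigma hG hM hKU hK1 hU1 hHall h1350 h1365 h1375 h1404 h1409 h1429 h1431
      hKstar hs hsσ hy hgy hy1 hys hg
  · exact hg (mem_of_conj_not_sigma hG hU hM hHall h1420 hσne hs hsσ hy hgy hy1 hys)

end Cfsg.Agent.Helper35.BG159
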