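import Mathlib
import Cfsg.Agent.Lib.Helper24.ClassTwo

set_option autoImplicit false

open scoped commutatorElement

namespace Cfsg.Agent.Helper35

variable {G : Type*} [Group G]

/-- `u^k * x = x * u^k * b^k` when `b = u x u⁻¹ x⁻¹` is central -/
theorem pow_mul_comm_central (u x : G) (hb : ∀ g, Commute (u * x * u⁻¹ * x⁻¹) g) (k : ℕ) :
    u ^ k * x = x * u ^ k * (u * x * u⁻¹ * x⁻¹) ^ k := by
  have h := Cfsg.Agent.Helper24.pow_mul_eq_of_commutator_commute x u (hb u) k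
  rw [h]
  have h2 : Commute ((u * x * u⁻¹ * x⁻¹) ^ k) (x * u ^ k) := (hb _).pow_left k
  rw [mul_assoc, h2.eq]

/-- `u * x^k = x^k * u * b^k` when `b = u x u⁻¹ x⁻¹` is central -/
theorem mul_pow_comm_central (u x : G) (hb : ∀ g, Commute (u * x * u⁻¹ * x⁻¹) g) (k : ℕ) :
    u * x ^ k = x ^ k * u * (u * x * u⁻¹ * x⁻¹) ^ k := by
  set b := u * x * u⁻¹ * x⁻¹ with hbdef
  have hinv : x * u * x⁻¹ * u⁻¹ = b⁻¹ := by rw [hbdef]; group
  have hc : Commute (x * u * x⁻¹ * u⁻¹) x := by rw [hinv]; exact (hb x).inv_left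
  have h := Cfsg.Agent.Helper24.pow_mul_eq_of_commutator_commute u x hc k
  rw [hinv] at h
  -- x^k u = b⁻¹^k u x^k
  have h2 : Commute (b ^ k) (x ^ k * u) := (hb _).pow_left k
  calc u * x ^ k = b ^ k * (b⁻¹ ^ k * u * x ^ k) := by
        rw [inv_pow]; group
    _ = b ^ k * (x ^ k * u) := by rw [← h]
    _ = x ^ k * u * b ^ k := h2.eq

/-- `y^n x = x y^n u^n a^(n choose 2)` where `u = y⁻¹ x⁻¹ y x`, `a = [u,y]` central. -/
theorem pow_mul_class_three (x y : G)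
    (ha : ∀ g, Commute ((y⁻¹ * x⁻¹ * y * x) * y * (y⁻¹ * x⁻¹ * y * x)⁻¹ * y⁻¹) g) (n : ℕ) :
    y ^ n * x = x * (y ^ n * (y⁻¹ * x⁻¹ * y * x) ^ n *
      ((y⁻¹ * x⁻¹ * y * x) * y * (y⁻¹ * x⁻¹ * y * x)⁻¹ * y⁻¹) ^ (n.choose 2)) := by
  set u := y⁻¹ * x⁻¹ * y * x with hu
  set a := u * y * u⁻¹ * y⁻¹ with hadef
  have h1 : (y * u) ^ n = y ^ n * u ^ n * a ^ (n.choose 2) :=
    Cfsg.Agent.Helper24.mul_pow_of_commutator_commute y u (ha y) (ha u) n
  have h2 : y * u = x⁻¹ * y * x⁻¹⁻¹ := by rw [hu]; group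
  have h3 : (x⁻¹ * y * x⁻¹⁻¹) ^ n = x⁻¹ * y ^ n * x⁻¹⁻¹ := conj_pow
  rw [← h1, h2, h3]
  group

/-- The collection formula in class three. With `u = y⁻¹x⁻¹yx`, `a = [u,y]`, `b = [u,x]` central:
`(xy)^n = x^n y^n u^C(n,2) a^(C(n,2)+2C(n,3)) b^C(n,3)`. -/
theorem mul_pow_class_three (x y : G)
    (ha : ∀ g, Commute ((y⁻¹ * x⁻¹ * y * x) * y * (y⁻¹ * x⁻¹ * y * x)⁻¹ * y⁻¹) g)
    (hb : ∀ g, Commute ((y⁻¹ * x⁻¹ * y * x) * x * (y⁻¹ * x⁻¹ * y * x)⁻¹ * x⁻¹) g) (n : ℕ) :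
    (x * y) ^ n = x ^ n * y ^ n * (y⁻¹ * x⁻¹ * y * x) ^ (n.choose 2) *
      ((y⁻¹ * x⁻¹ * y * x) * y * (y⁻¹ * x⁻¹ * y * x)⁻¹ * y⁻¹) ^ (n.choose 2 + 2 * n.choose 3) *
      ((y⁻¹ * x⁻¹ * y * x) * x * (y⁻¹ * x⁻¹ * y * x)⁻¹ * x⁻¹) ^ (n.choose 3) := by
  set u := y⁻¹ * x⁻¹ * y * x with hu
  set a := u * y * u⁻¹ * y⁻¹ with hadef
  set b := u * x * u⁻¹ * x⁻¹ with hbdef
  induction n with
  | zero => simp
  | succ n ih =>
    have hch2 : (n + 1).choose 2 = n + n.choose 2 := by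
      rw [Nat.choose_succ_succ, Nat.choose_one_right]
    have hch3 : (n + 1).choose 3 = n.choose 2 + n.choose 3 := by
      rw [Nat.choose_succ_succ]
    set C := n.choose 2 with hC
    set D := n.choose 3 with hD
    have s2 : u ^ C * x = x * u ^ C * b ^ C := pow_mul_comm_central u x hb C
    have s3 : y ^ n * x = x * (y ^ n * u ^ n * a ^ C) := pow_mul_class_three x y ha n
    have s5 : u ^ (n + C) * y = y * u ^ (n + C) * a ^ (n + C) := pow_mul_comm_central u y ha (n + C)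
    have ca : ∀ (k : ℕ) (g : G), a ^ k * g = g * a ^ k := fun k g => ((ha g).pow_left k).eq
    have cb : ∀ (k : ℕ) (g : G), b ^ k * g = g * b ^ k := fun k g => ((hb g).pow_left k).eq
    rw [hch2, hch3]
    calc (x * y) ^ (n + 1) = (x * y) ^ n * (x * y) := pow_succ _ _
      _ = x ^ n * y ^ n * u ^ C * a ^ (C + 2 * D) * b ^ D * (x * y) := by rw [ih]
      _ = x ^ n * y ^ n * u ^ C * (a ^ (C + 2 * D) * (b ^ D * (x * y))) := by group
      _ = x ^ n * y ^ n * u ^ C * ((x * y) * a ^ (C + 2 * D) * b ^ D) := by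
          rw [cb D (x * y), ← mul_assoc (a ^ (C + 2 * D)) (x * y) (b ^ D), ca (C + 2 * D) (x * y)]
      _ = x ^ n * y ^ n * (u ^ C * x) * y * a ^ (C + 2 * D) * b ^ D := by group
      _ = x ^ n * y ^ n * (x * u ^ C * b ^ C) * y * a ^ (C + 2 * D) * b ^ D := by rw [s2]
      _ = x ^ n * (y ^ n * x) * u ^ C * (b ^ C * y) * a ^ (C + 2 * D) * b ^ D := by group
      _ = x ^ n * (x * (y ^ n * u ^ n * a ^ C)) * u ^ C * (y * b ^ C) * a ^ (C + 2 * D) * b ^ D := by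
          rw [s3, cb C y]
      _ = x ^ n * x * y ^ n * u ^ n * (a ^ C * (u ^ C * y)) * b ^ C * a ^ (C + 2 * D) * b ^ D := by
          group
      _ = x ^ n * x * y ^ n * u ^ n * ((u ^ C * y) * a ^ C) * b ^ C * a ^ (C + 2 * D) * b ^ D := by
          rw [ca C (u ^ C * y)]
      _ = x ^ (n + 1) * y ^ n * (u ^ (n + C) * y) * a ^ C * b ^ C * a ^ (C + 2 * D) * b ^ D := by
          rw [pow_succ x n, pow_add u n C]; group
      _ = x ^ (n + 1) * y ^ n * (y * u ^ (n + C) * a ^ (n + C)) * a ^ C * b ^ C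
            * a ^ (C + 2 * D) * b ^ D := by rw [s5]
      _ = x ^ (n + 1) * y ^ (n + 1) * u ^ (n + C) * (a ^ (n + C) * a ^ C) * (b ^ C
            * a ^ (C + 2 * D)) * b ^ D := by rw [pow_succ y n]; group
      _ = x ^ (n + 1) * y ^ (n + 1) * u ^ (n + C) * (a ^ (n + C) * a ^ C) * (a ^ (C + 2 * D)
            * b ^ C) * b ^ D := by rw [cb C (a ^ (C + 2 * D))]
      _ = x ^ (n + 1) * y ^ (n + 1) * u ^ (n + C) * (a ^ (n + C) * a ^ C * a ^ (C + 2 * D))
            * (b ^ C * b ^ D) := by group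
      _ = x ^ (n + 1) * y ^ (n + 1) * u ^ (n + C) * a ^ (n + C + 2 * (C + D)) * b ^ (C + D) := by
          rw [← pow_add, ← pow_add, ← pow_add]
          congr 3
          ring

/-- the basic commutator `u = y⁻¹ x⁻¹ y x`, so that `y x = x y u` -/
def cu (x y : G) : G := y⁻¹ * x⁻¹ * y * x
/-- `a = [u, y]` -/
def ca (x y : G) : G := cu x y * y * (cu x y)⁻¹ * y⁻¹
/-- `b = [u, x]` -/
def cb (x y : G) : G := cu x y * x * (cu x y)⁻¹ * x⁻¹

theorem mul_pow_class_three' (x y : G) (ha : ∀ g, Commute (ca x y) g)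
    (hb : ∀ g, Commute (cb x y) g) (n : ℕ) :
    (x * y) ^ n = x ^ n * y ^ n * (cu x y) ^ (n.choose 2) *
      (ca x y) ^ (n.choose 2 + 2 * n.choose 3) * (cb x y) ^ (n.choose 3) :=
  mul_pow_class_three x y ha hb n

theorem pow_eq_one_of_dvd' {g : G} {p m : ℕ} (hg : g ^ p = 1) (h : p ∣ m) : g ^ m = 1 := by
  obtain ⟨k, rfl⟩ := h
  rw [pow_mul, hg, one_pow]

/-- if `x^p = y^p = 1` then `u^p = a^p = b^p = 1` -/
theorem cu_pow_eq_one {p : ℕ} (hp : p.Prime) (hodd : p ≠ 2) (x y : G)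
    (ha : ∀ g, Commute (ca x y) g) (hb : ∀ g, Commute (cb x y) g)
    (hx : x ^ p = 1) (hy : y ^ p = 1) :
    cu x y ^ p = 1 ∧ ca x y ^ p = 1 ∧ cb x y ^ p = 1 := by
  have h2 : p ∣ p.choose 2 := hp.dvd_choose_self (by norm_num)
    (lt_of_le_of_ne hp.two_le (Ne.symm hodd))
  have hap : ca x y ^ p = 1 := by
    have h := mul_pow_comm_central (cu x y) y ha p
    rw [hy, mul_one, one_mul] at h
    exact (mul_eq_left.mp h.symm)
  have hbp : cb x y ^ p = 1 := by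
    have h := mul_pow_comm_central (cu x y) x hb p
    rw [hx, mul_one, one_mul] at h
    exact (mul_eq_left.mp h.symm)
  refine ⟨?_, hap, hbp⟩
  have h := pow_mul_class_three x y ha p
  rw [hy, one_mul, one_mul] at h
  have h3 : (cu x y * y * (cu x y)⁻¹ * y⁻¹) ^ p.choose 2 = 1 := pow_eq_one_of_dvd' hap h2
  have h4 : (y⁻¹ * x⁻¹ * y * x * y * (y⁻¹ * x⁻¹ * y * x)⁻¹ * y⁻¹) ^ p.choose 2 = 1 := h3
  rw [h4, mul_one] at h
  exact (mul_eq_left.mp h.symm)

/-- the power formula at `p` when `u^p = a^p = b^p = 1` -/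
theorem mul_pow_prime_class_three {p : ℕ} (hp : p.Prime) (hodd : p ≠ 2) (x y : G)
    (ha : ∀ g, Commute (ca x y) g) (hb : ∀ g, Commute (cb x y) g)
    (hdiv : (p ∣ p.choose 2 + 2 * p.choose 3 ∧ p ∣ p.choose 3) ∨ (ca x y = 1 ∧ cb x y = 1))
    (hu : cu x y ^ p = 1) (hap : ca x y ^ p = 1) (hbp : cb x y ^ p = 1) :
    (x * y) ^ p = x ^ p * y ^ p := by
  have h2 : p ∣ p.choose 2 := hp.dvd_choose_self (by norm_num)
    (lt_of_le_of_ne hp.two_le (Ne.symm hodd))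
  rw [mul_pow_class_three' x y ha hb p, pow_eq_one_of_dvd' hu h2, mul_one]
  rcases hdiv with ⟨h3, h4⟩ | ⟨h3, h4⟩
  · rw [pow_eq_one_of_dvd' hap h3, pow_eq_one_of_dvd' hbp h4, mul_one, mul_one]
  · rw [h3, h4, one_pow, one_pow, mul_one, mul_one]

/-- `Ω₁` has exponent `p` -/
theorem pow_eq_one_of_mem_closure_class_three {p : ℕ} (hp : p.Prime) (hodd : p ≠ 2)
    (hcen : ∀ x y : G, (∀ g, Commute (ca x y) g) ∧ (∀ g, Commute (cb x y) g))
    (hdiv : (p ∣ p.choose 2 + 2 * p.choose 3 ∧ p ∣ p.choose 3) ∨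
      (∀ x y : G, ca x y = 1 ∧ cb x y = 1))
    (g : G) (hg : g ∈ Subgroup.closure {x : G | x ^ p = 1}) : g ^ p = 1 := by
  induction hg using Subgroup.closure_induction with
  | mem x hx => exact hx
  | one => exact one_pow p
  | mul x y _ _ hx hy =>
    obtain ⟨hu, hap, hbp⟩ := cu_pow_eq_one hp hodd x y (hcen x y).1 (hcen x y).2 hx hy
    have hdiv' : (p ∣ p.choose 2 + 2 * p.choose 3 ∧ p ∣ p.choose 3) ∨ (ca x y = 1 ∧ cb x y = 1) := by
      rcases hdiv with h | h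
      · exact Or.inl h
      · exact Or.inr (h x y)
    rw [mul_pow_prime_class_three hp hodd x y (hcen x y).1 (hcen x y).2 hdiv' hu hap hbp, hx, hy,
      one_mul]
  | inv x _ hx => rw [inv_pow, hx, inv_one]

/-- divisibility facts for `p > 3` -/
theorem prime_dvd_choose_three_facts {p : ℕ} (hp : p.Prime) (h3 : 3 < p) :
    p ∣ p.choose 2 + 2 * p.choose 3 ∧ p ∣ p.choose 3 := by
  have h2 : p ∣ p.choose 2 := hp.dvd_choose_self (by norm_num) (by omega)
  have h3' : p ∣ p.choose 3 := hp.dvd_choose_self (by norm_num) h3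
  exact ⟨dvd_add h2 (dvd_mul_of_dvd_right h3' 2), h3'⟩

/-- class at most three: `a`, `b` are central -/
theorem central_of_class_three
    (hcl : ⁅⁅commutator G, (⊤ : Subgroup G)⁆, (⊤ : Subgroup G)⁆ = ⊥) (x y : G) :
    (∀ g, Commute (ca x y) g) ∧ (∀ g, Commute (cb x y) g) := by
  have hu : cu x y ∈ commutator G := by
    rw [commutator_def]
    have : cu x y = ⁅y⁻¹, x⁻¹⁆ := by
      rw [commutatorElement_def, cu]; group
    rw [this]
    exact Subgroup.commutator_mem_commutator (Subgroup.mem_top _) (Subgroup.mem_top _)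
  have key : ∀ t : G, ∀ g : G, Commute (cu x y * t * (cu x y)⁻¹ * t⁻¹) g := by
    intro t g
    have h1 : cu x y * t * (cu x y)⁻¹ * t⁻¹ ∈ ⁅commutator G, (⊤ : Subgroup G)⁆ :=
      Subgroup.commutator_mem_commutator hu (Subgroup.mem_top t)
    have h2 : ⁅cu x y * t * (cu x y)⁻¹ * t⁻¹, g⁆ ∈ ⁅⁅commutator G, (⊤ : Subgroup G)⁆, (⊤ : Subgroup G)⁆ :=
      Subgroup.commutator_mem_commutator h1 (Subgroup.mem_top g)
    rw [hcl, Subgroup.mem_bot, commutatorElement_eq_one_iff_commute] at h2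
    exact h2
  exact ⟨key y, key x⟩

/-- class at most two: `a = b = 1` -/
theorem trivial_of_class_two
    (hcl : ⁅commutator G, (⊤ : Subgroup G)⁆ = ⊥) (x y : G) :
    ca x y = 1 ∧ cb x y = 1 := by
  have hu : cu x y ∈ commutator G := by
    rw [commutator_def]
    have : cu x y = ⁅y⁻¹, x⁻¹⁆ := by
      rw [commutatorElement_def, cu]; group
    rw [this]
    exact Subgroup.commutator_mem_commutator (Subgroup.mem_top _) (Subgroup.mem_top _)
  have key : ∀ t : G, cu x y * t * (cu x y)⁻¹ * t⁻¹ = 1 := by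
    intro t
    have h1 : cu x y * t * (cu x y)⁻¹ * t⁻¹ ∈ ⁅commutator G, (⊤ : Subgroup G)⁆ :=
      Subgroup.commutator_mem_commutator hu (Subgroup.mem_top t)
    rw [hcl, Subgroup.mem_bot] at h1
    exact h1
  exact ⟨key y, key x⟩

theorem cu_mem_commutator (x y : G) : cu x y ∈ commutator G := by
  rw [commutator_def]
  have : cu x y = ⁅y⁻¹, x⁻¹⁆ := by
    rw [commutatorElement_def, cu]; group
  rw [this]
  exact Subgroup.commutator_mem_commutator (Subgroup.mem_top _) (Subgroup.mem_top _)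

theorem ca_mem_commutator (x y : G) : ca x y ∈ commutator G := by
  rw [commutator_def]
  exact Subgroup.commutator_mem_commutator (Subgroup.mem_top (cu x y)) (Subgroup.mem_top y)

theorem cb_mem_commutator (x y : G) : cb x y ∈ commutator G := by
  rw [commutator_def]
  exact Subgroup.commutator_mem_commutator (Subgroup.mem_top (cu x y)) (Subgroup.mem_top x)

end Cfsg.Agent.Helper35
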