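import Mathlib

set_option autoImplicit false

/-!
The set of element orders of the alternating group of degree 10.
-/

namespace Cfsg.Agent.Helper35.IsoA10

/-- the spectrum of `A₁₀` -/
def specSet : Finset ℕ := {1, 2, 3, 4, 5, 6, 7, 8, 9, 10, 12, 15, 21}

/-- `reach fuel r`: pairs (lcm, is an even permutation) of multisets with at most `fuel`
parts, all at least 2, with sum at most `r`. -/
def reach : ℕ → ℕ → Finset (ℕ × Bool)
  | 0, _ => {(1, true)}
  | (fuel + 1), r =>
      insert (1, true) ((Finset.Icc 2 r).biUnion fun a =>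
        (reach fuel (r - a)).image fun lp => (Nat.lcm a lp.1, xor lp.2 (decide (a % 2 = 0))))

/-- parity flag of a cycle type: `true` iff the number of even parts is even -/
def evenPar (m : Multiset ℕ) : Bool := decide ((m.countP (fun a => a % 2 = 0)) % 2 = 0)

theorem one_true_mem_reach (fuel r : ℕ) : ((1 : ℕ), true) ∈ reach fuel r := by
  cases fuel with
  | zero => simp [reach]
  | succ n => simp [reach]

theorem mem_reach (m : Multiset ℕ) : ∀ (fuel r : ℕ), (∀ a ∈ m, 2 ≤ a) → m.sum ≤ r →
    Multiset.card m ≤ fuel → (m.lcm, evenPar m) ∈ reach fuel r := by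
  induction m using Multiset.induction_on with
  | empty =>
    intro fuel r _ _ _
    simpa [evenPar] using one_true_mem_reach fuel r
  | cons a m ih =>
    intro fuel r h2 hsum hcard
    rw [Multiset.card_cons] at hcard
    obtain ⟨fuel', rfl⟩ : ∃ f', fuel = f' + 1 := ⟨fuel - 1, by omega⟩
    rw [Multiset.sum_cons] at hsum
    have ha2 : 2 ≤ a := h2 a (Multiset.mem_cons_self a m)
    have ih' := ih fuel' (r - a) (fun b hb => h2 b (Multiset.mem_cons_of_mem hb)) (by omega)
      (by omega)
    rw [reach]
    apply Finset.mem_insert_of_mem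
    rw [Finset.mem_biUnion]
    refine ⟨a, Finset.mem_Icc.mpr ⟨ha2, by omega⟩, ?_⟩
    rw [Finset.mem_image]
    refine ⟨(m.lcm, evenPar m), ih', ?_⟩
    rw [Multiset.lcm_cons]
    refine Prod.ext rfl ?_
    simp only [evenPar, Multiset.countP_cons]
    by_cases hpa : a % 2 = 0
    · simp only [hpa, if_true, decide_true, Bool.xor_true]
      by_cases hq : Multiset.countP (fun a => a % 2 = 0) m % 2 = 0
      · have : ¬ (Multiset.countP (fun a => a % 2 = 0) m + 1) % 2 = 0 := by omega
        simp [hq, this]
      · have : (Multiset.countP (fun a => a % 2 = 0) m + 1) % 2 = 0 := by omega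
        simp [hq, this]
    · simp [hpa]

theorem sum_add_card_mod (m : Multiset ℕ) :
    (m.sum + Multiset.card m) % 2 = (m.countP (fun a => a % 2 = 0)) % 2 := by
  induction m using Multiset.induction_on with
  | empty => simp
  | cons a m ih =>
    rw [Multiset.sum_cons, Multiset.card_cons, Multiset.countP_cons]
    by_cases hpa : a % 2 = 0
    · simp only [hpa, if_true]; omega
    · simp only [hpa, if_false]; omega

theorem sign_prod_eq (m : Multiset ℕ) :
    ((-1 : ℤˣ)) ^ (m.sum + Multiset.card m) = if evenPar m = true then 1 else -1 := by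
  have h := sum_add_card_mod m
  by_cases hq : Multiset.countP (fun a => a % 2 = 0) m % 2 = 0
  · have hev : Even (m.sum + Multiset.card m) := Nat.even_iff.mpr (by omega)
    simp [evenPar, hq, hev.neg_one_pow]
  · have hodd : Odd (m.sum + Multiset.card m) := Nat.odd_iff.mpr (by omega)
    simp [evenPar, hq, hodd.neg_one_pow]

theorem reach_check : ∀ lp ∈ reach 5 10, lp.2 = true → lp.1 ∈ specSet := by decide +kernel

theorem orderOf_mem_specSet (σ : alternatingGroup (Fin 10)) : orderOf σ ∈ specSet := by
  have hs : Equiv.Perm.sign (σ : Equiv.Perm (Fin 10)) = 1 := Equiv.Perm.mem_alternatingGroup.mp σ.2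
  rw [Equiv.Perm.sign_of_cycleType, sign_prod_eq] at hs
  have hpar : evenPar (σ : Equiv.Perm (Fin 10)).cycleType = true := by
    by_contra h
    rw [if_neg h] at hs
    exact absurd hs (by decide)
  have hsum : (σ : Equiv.Perm (Fin 10)).cycleType.sum ≤ 10 := by
    rw [Equiv.Perm.sum_cycleType]
    exact (Finset.card_le_univ _).trans (by simp)
  have h2 : ∀ a ∈ (σ : Equiv.Perm (Fin 10)).cycleType, 2 ≤ a :=
    fun a ha => Equiv.Perm.two_le_of_mem_cycleType ha
  have hcard : Multiset.card (σ : Equiv.Perm (Fin 10)).cycleType ≤ 5 := by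
    have h := Multiset.card_nsmul_le_sum h2
    simp only [smul_eq_mul] at h
    omega
  have hm := mem_reach _ 5 10 h2 hsum hcard
  have := reach_check _ hm hpar
  rw [Equiv.Perm.lcm_cycleType] at this
  rwa [Subgroup.orderOf_coe] at this

/-- a permutation of order 1 -/
def wit1 : Equiv.Perm (Fin 10) := 1

set_option maxRecDepth 100000 in
theorem wit1_mem : wit1 ∈ alternatingGroup (Fin 10) := by
  rw [Equiv.Perm.mem_alternatingGroup]; decide +kernel

theorem wit1_order : orderOf wit1 = 1 := by simp [wit1]

/-- a permutation of order 2 -/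
def wit2 : Equiv.Perm (Fin 10) := List.formPerm [0,1] * List.formPerm [2,3]

set_option maxRecDepth 100000 in
theorem wit2_mem : wit2 ∈ alternatingGroup (Fin 10) := by
  rw [Equiv.Perm.mem_alternatingGroup]; decide +kernel

set_option maxRecDepth 100000 in
theorem wit2_order : orderOf wit2 = 2 := by
  rw [orderOf_eq_iff (by norm_num)]
  decide +kernel

/-- a permutation of order 3 -/
def wit3 : Equiv.Perm (Fin 10) := List.formPerm [0,1,2]

set_option maxRecDepth 100000 in
theorem wit3_mem : wit3 ∈ alternatingGroup (Fin 10) := by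
  rw [Equiv.Perm.mem_alternatingGroup]; decide +kernel

set_option maxRecDepth 100000 in
theorem wit3_order : orderOf wit3 = 3 := by
  rw [orderOf_eq_iff (by norm_num)]
  decide +kernel

/-- a permutation of order 4 -/
def wit4 : Equiv.Perm (Fin 10) := List.formPerm [0,1,2,3] * List.formPerm [4,5]

set_option maxRecDepth 100000 in
theorem wit4_mem : wit4 ∈ alternatingGroup (Fin 10) := by
  rw [Equiv.Perm.mem_alternatingGroup]; decide +kernel

set_option maxRecDepth 100000 in
theorem wit4_order : orderOf wit4 = 4 := by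
  rw [orderOf_eq_iff (by norm_num)]
  decide +kernel

/-- a permutation of order 5 -/
def wit5 : Equiv.Perm (Fin 10) := List.formPerm [0,1,2,3,4]

set_option maxRecDepth 100000 in
theorem wit5_mem : wit5 ∈ alternatingGroup (Fin 10) := by
  rw [Equiv.Perm.mem_alternatingGroup]; decide +kernel

set_option maxRecDepth 100000 in
theorem wit5_order : orderOf wit5 = 5 := by
  rw [orderOf_eq_iff (by norm_num)]
  decide +kernel

/-- a permutation of order 6 -/
def wit6 : Equiv.Perm (Fin 10) := List.formPerm [0,1,2] * List.formPerm [3,4] * List.formPerm [5,6]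

set_option maxRecDepth 100000 in
theorem wit6_mem : wit6 ∈ alternatingGroup (Fin 10) := by
  rw [Equiv.Perm.mem_alternatingGroup]; decide +kernel

set_option maxRecDepth 100000 in
theorem wit6_order : orderOf wit6 = 6 := by
  rw [orderOf_eq_iff (by norm_num)]
  decide +kernel

/-- a permutation of order 7 -/
def wit7 : Equiv.Perm (Fin 10) := List.formPerm [0,1,2,3,4,5,6]

set_option maxRecDepth 100000 in
theorem wit7_mem : wit7 ∈ alternatingGroup (Fin 10) := by
  rw [Equiv.Perm.mem_alternatingGroup]; decide +kernel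

set_option maxRecDepth 100000 in
theorem wit7_order : orderOf wit7 = 7 := by
  rw [orderOf_eq_iff (by norm_num)]
  decide +kernel

/-- a permutation of order 8 -/
def wit8 : Equiv.Perm (Fin 10) := List.formPerm [0,1,2,3,4,5,6,7] * List.formPerm [8,9]

set_option maxRecDepth 100000 in
theorem wit8_mem : wit8 ∈ alternatingGroup (Fin 10) := by
  rw [Equiv.Perm.mem_alternatingGroup]; decide +kernel

set_option maxRecDepth 100000 in
theorem wit8_order : orderOf wit8 = 8 := by
  rw [orderOf_eq_iff (by norm_num)]
  decide +kernel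

/-- a permutation of order 9 -/
def wit9 : Equiv.Perm (Fin 10) := List.formPerm [0,1,2,3,4,5,6,7,8]

set_option maxRecDepth 100000 in
theorem wit9_mem : wit9 ∈ alternatingGroup (Fin 10) := by
  rw [Equiv.Perm.mem_alternatingGroup]; decide +kernel

set_option maxRecDepth 100000 in
theorem wit9_order : orderOf wit9 = 9 := by
  rw [orderOf_eq_iff (by norm_num)]
  decide +kernel

/-- a permutation of order 10 -/
def wit10 : Equiv.Perm (Fin 10) := List.formPerm [0,1,2,3,4] * List.formPerm [5,6] * List.formPerm [7,8]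

set_option maxRecDepth 100000 in
theorem wit10_mem : wit10 ∈ alternatingGroup (Fin 10) := by
  rw [Equiv.Perm.mem_alternatingGroup]; decide +kernel

set_option maxRecDepth 100000 in
theorem wit10_order : orderOf wit10 = 10 := by
  rw [orderOf_eq_iff (by norm_num)]
  decide +kernel

/-- a permutation of order 12 -/
def wit12 : Equiv.Perm (Fin 10) := List.formPerm [0,1,2,3] * List.formPerm [4,5,6] * List.formPerm [7,8]

set_option maxRecDepth 100000 in
theorem wit12_mem : wit12 ∈ alternatingGroup (Fin 10) := by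
  rw [Equiv.Perm.mem_alternatingGroup]; decide +kernel

set_option maxRecDepth 100000 in
theorem wit12_order : orderOf wit12 = 12 := by
  rw [orderOf_eq_iff (by norm_num)]
  decide +kernel

/-- a permutation of order 15 -/
def wit15 : Equiv.Perm (Fin 10) := List.formPerm [0,1,2,3,4] * List.formPerm [5,6,7]

set_option maxRecDepth 100000 in
theorem wit15_mem : wit15 ∈ alternatingGroup (Fin 10) := by
  rw [Equiv.Perm.mem_alternatingGroup]; decide +kernel

set_option maxRecDepth 100000 in
theorem wit15_order : orderOf wit15 = 15 := by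
  rw [orderOf_eq_iff (by norm_num)]
  decide +kernel

/-- a permutation of order 21 -/
def wit21 : Equiv.Perm (Fin 10) := List.formPerm [0,1,2,3,4,5,6] * List.formPerm [7,8,9]

set_option maxRecDepth 100000 in
theorem wit21_mem : wit21 ∈ alternatingGroup (Fin 10) := by
  rw [Equiv.Perm.mem_alternatingGroup]; decide +kernel

set_option maxRecDepth 100000 in
theorem wit21_order : orderOf wit21 = 21 := by
  rw [orderOf_eq_iff (by norm_num)]
  decide +kernel

theorem exists_of_mem_specSet {m : ℕ} (hm : m ∈ specSet) :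
    ∃ σ : alternatingGroup (Fin 10), orderOf σ = m := by
  simp only [specSet, Finset.mem_insert, Finset.mem_singleton] at hm
  rcases hm with rfl | rfl | rfl | rfl | rfl | rfl | rfl | rfl | rfl | rfl | rfl | rfl | rfl
  · exact ⟨⟨wit1, wit1_mem⟩, by rw [← Subgroup.orderOf_coe]; exact wit1_order⟩
  · exact ⟨⟨wit2, wit2_mem⟩, by rw [← Subgroup.orderOf_coe]; exact wit2_order⟩
  · exact ⟨⟨wit3, wit3_mem⟩, by rw [← Subgroup.orderOf_coe]; exact wit3_order⟩
  · exact ⟨⟨wit4, wit4_mem⟩, by rw [← Subgroup.orderOf_coe]; exact wit4_order⟩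
  · exact ⟨⟨wit5, wit5_mem⟩, by rw [← Subgroup.orderOf_coe]; exact wit5_order⟩
  · exact ⟨⟨wit6, wit6_mem⟩, by rw [← Subgroup.orderOf_coe]; exact wit6_order⟩
  · exact ⟨⟨wit7, wit7_mem⟩, by rw [← Subgroup.orderOf_coe]; exact wit7_order⟩
  · exact ⟨⟨wit8, wit8_mem⟩, by rw [← Subgroup.orderOf_coe]; exact wit8_order⟩
  · exact ⟨⟨wit9, wit9_mem⟩, by rw [← Subgroup.orderOf_coe]; exact wit9_order⟩
  · exact ⟨⟨wit10, wit10_mem⟩, by rw [← Subgroup.orderOf_coe]; exact wit10_order⟩
  · exact ⟨⟨wit12, wit12_mem⟩, by rw [← Subgroup.orderOf_coe]; exact wit12_order⟩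
  · exact ⟨⟨wit15, wit15_mem⟩, by rw [← Subgroup.orderOf_coe]; exact wit15_order⟩
  · exact ⟨⟨wit21, wit21_mem⟩, by rw [← Subgroup.orderOf_coe]; exact wit21_order⟩

/-- The spectrum of `A₁₀`. -/
theorem range_orderOf_alt10 :
    Set.range (orderOf : alternatingGroup (Fin 10) → ℕ) = (specSet : Set ℕ) := by
  ext m
  constructor
  · rintro ⟨σ, rfl⟩
    exact orderOf_mem_specSet σ
  · intro hm
    obtain ⟨σ, hσ⟩ := exists_of_mem_specSet (Finset.mem_coe.mp hm)
    exact ⟨σ, hσ⟩

end Cfsg.Agent.Helper35.IsoA10
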