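import Mathlib

/-!
# Pure lemmas for piece (F) of S1356 (helper35)

* `comm_of_stab_chain`: an element of order prime to `q` acting on a `q`-group `Q` and centralizing both
  `Q₀` and `Q / Q₀` (i.e. `[d, v] ∈ Q₀ ≤ C(d)`) centralizes `Q`;
* `commutator_le_of_factor`: if every element of `A` is a product `q d` with `q ∈ Q ≤ W`, `d ∈ D`,
  `⁅D, D⁆ ≤ W ≤ A` and `A` normalizes `W`, then `⁅A, A⁆ ≤ W`;
* `isNilpotent_sup_of_commute`: the join of two elementwise commuting nilpotent subgroups is nilpotent.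
-/

set_option autoImplicit false

namespace Cfsg.Agent.Helper35.BG153

open Subgroup
open scoped commutatorElement

variable {G : Type*} [Group G]

theorem comm_of_stab_chain [Finite G] {q : ℕ} [hq : Fact q.Prime] {Q : Subgroup G}
    (hQ : IsPGroup q Q) {d v : G} (hv : v ∈ Q) (hz : d * v * d⁻¹ * v⁻¹ ∈ Q)
    (hdz : d * (d * v * d⁻¹ * v⁻¹) = (d * v * d⁻¹ * v⁻¹) * d) (hcop : (orderOf d).Coprime q) :
    d * v = v * d := by
  set z : G := d * v * d⁻¹ * v⁻¹ with hzdef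
  have hconj : d * v * d⁻¹ = z * v := by rw [hzdef]; group
  have hcz : Commute d z := hdz
  have hpow : ∀ n : ℕ, d ^ n * v * (d ^ n)⁻¹ = z ^ n * v := by
    intro n
    induction n with
    | zero => simp
    | succ n ih =>
      calc d ^ (n + 1) * v * (d ^ (n + 1))⁻¹ = d * (d ^ n * v * (d ^ n)⁻¹) * d⁻¹ := by
            rw [pow_succ']; group
        _ = d * (z ^ n * v) * d⁻¹ := by rw [ih]
        _ = (d * z ^ n * d⁻¹) * (d * v * d⁻¹) := by group
        _ = z ^ n * (z * v) := by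
            rw [hconj]
            have : d * z ^ n * d⁻¹ = z ^ n := by
              have h1 : Commute d (z ^ n) := hcz.pow_right n
              calc d * z ^ n * d⁻¹ = z ^ n * d * d⁻¹ := by rw [h1.eq]
                _ = z ^ n := by group
            rw [this]
        _ = z ^ (n + 1) * v := by rw [pow_succ]; group
  have h1 := hpow (orderOf d)
  rw [pow_orderOf_eq_one] at h1
  have hz1 : z ^ orderOf d = 1 := by
    have : v = z ^ orderOf d * v := by simpa using h1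
    have h2 : z ^ orderOf d * v = 1 * v := by rw [one_mul]; exact this.symm
    exact mul_right_cancel h2
  obtain ⟨k, hk⟩ := hQ ⟨z, hz⟩
  have hzk : z ^ q ^ k = 1 := by
    have := congrArg Subtype.val hk
    simpa using this
  have ho1 : orderOf z ∣ orderOf d := orderOf_dvd_of_pow_eq_one hz1
  have ho2 : orderOf z ∣ q ^ k := orderOf_dvd_of_pow_eq_one hzk
  have hcop' : (orderOf d).Coprime (q ^ k) := Nat.Coprime.pow_right k hcop
  have ho : orderOf z = 1 := Nat.eq_one_of_dvd_coprimes hcop' ho1 ho2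
  have hz0 : z = 1 := orderOf_eq_one_iff.mp ho
  have : d * v = z * (v * d) := by rw [hzdef]; group
  rw [this, hz0, one_mul]

theorem commutator_le_of_factor {A Q D W : Subgroup G} (hWA : W ≤ A)
    (hAW : A ≤ normalizer (W : Set G)) (hQW : Q ≤ W) (hDA : D ≤ A) (hDW : ⁅D, D⁆ ≤ W)
    (hfac : ∀ m ∈ A, ∃ a ∈ Q, ∃ b ∈ D, m = a * b) : ⁅A, A⁆ ≤ W := by
  haveI hn : (W.subgroupOf A).Normal := Subgroup.normal_subgroupOf_of_le_normalizer hAW
  set φ : ↥A →* ↥A ⧸ W.subgroupOf A := QuotientGroup.mk' (W.subgroupOf A) with hφ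
  have hφ1 : ∀ z : ↥A, φ z = 1 ↔ (z : G) ∈ W := by
    intro z
    rw [hφ, QuotientGroup.mk'_apply, QuotientGroup.eq_one_iff, mem_subgroupOf]
  rw [commutator_le]
  intro x hx y hy
  obtain ⟨a₁, ha₁, b₁, hb₁, rfl⟩ := hfac x hx
  obtain ⟨a₂, ha₂, b₂, hb₂, rfl⟩ := hfac y hy
  have hQA : Q ≤ A := hQW.trans hWA
  have e1 : φ ⟨a₁ * b₁, hx⟩ = φ ⟨b₁, hDA hb₁⟩ := by
    have : (⟨a₁ * b₁, hx⟩ : ↥A) = ⟨a₁, hQA ha₁⟩ * ⟨b₁, hDA hb₁⟩ := rfl
    rw [this, map_mul, (hφ1 _).mpr (hQW ha₁), one_mul]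
  have e2 : φ ⟨a₂ * b₂, hy⟩ = φ ⟨b₂, hDA hb₂⟩ := by
    have : (⟨a₂ * b₂, hy⟩ : ↥A) = ⟨a₂, hQA ha₂⟩ * ⟨b₂, hDA hb₂⟩ := rfl
    rw [this, map_mul, (hφ1 _).mpr (hQW ha₂), one_mul]
  have hb : (⁅b₁, b₂⁆ : G) ∈ W := hDW (commutator_mem_commutator hb₁ hb₂)
  have e3 : φ ⁅(⟨a₁ * b₁, hx⟩ : ↥A), ⟨a₂ * b₂, hy⟩⁆ = 1 := by
    rw [map_commutatorElement, e1, e2, ← map_commutatorElement, hφ1]
    exact hb
  have h4 := (hφ1 _).mp e3
  have h5 : ((⁅(⟨a₁ * b₁, hx⟩ : ↥A), ⟨a₂ * b₂, hy⟩⁆ : ↥A) : G) = ⁅a₁ * b₁, a₂ * b₂⁆ := by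
    simp [commutatorElement_def]
  rwa [h5] at h4

theorem isNilpotent_sup_of_commute {A B : Subgroup G} (hA : Group.IsNilpotent ↥A)
    (hB : Group.IsNilpotent ↥B) (hcomm : ∀ a ∈ A, ∀ b ∈ B, a * b = b * a) :
    Group.IsNilpotent ↥(A ⊔ B) := by
  have hc : ∀ (a : ↥A) (b : ↥B), Commute (A.subtype a) (B.subtype b) :=
    fun a b => hcomm a a.2 b b.2
  set ψ : ↥A × ↥B →* G := MonoidHom.noncommCoprod A.subtype B.subtype hc with hψ
  have hrange : ψ.range = A ⊔ B := by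
    rw [hψ, MonoidHom.noncommCoprod_range, Subgroup.range_subtype, Subgroup.range_subtype]
  have h1 : Group.IsNilpotent ↥ψ.range :=
    Group.nilpotent_of_surjective ψ.rangeRestrict ψ.rangeRestrict_surjective
  rw [hrange] at h1
  exact h1

/-- a `q`-subgroup of `H` lies in every subgroup `Q` normalized by `H` whose index in `H` is prime to `q`. -/
theorem le_of_isPGroup_of_not_dvd_relIndex [Finite G] {q : ℕ} (hq : q.Prime) {Q A H : Subgroup G}
    (hHn : H ≤ normalizer (Q : Set G)) (hAH : A ≤ H) (hA : IsPGroup q A)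
    (hidx : ¬ q ∣ Q.relIndex H) : A ≤ Q := by
  haveI hn : (Q.subgroupOf H).Normal := Subgroup.normal_subgroupOf_of_le_normalizer hHn
  intro x hx
  obtain ⟨k, hk⟩ := hA ⟨x, hx⟩
  have hxk : x ^ q ^ k = 1 := by
    have := congrArg Subtype.val hk
    simpa using this
  set y : ↥H := ⟨x, hAH hx⟩ with hy
  have hyk : y ^ q ^ k = 1 := Subtype.ext (by simpa using hxk)
  have hq1 : ((QuotientGroup.mk' (Q.subgroupOf H)) y) ^ q ^ k = 1 := by
    rw [← map_pow, hyk, map_one]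
  have ho1 : orderOf ((QuotientGroup.mk' (Q.subgroupOf H)) y) ∣ q ^ k := orderOf_dvd_of_pow_eq_one hq1
  have ho2 : orderOf ((QuotientGroup.mk' (Q.subgroupOf H)) y) ∣ (Q.subgroupOf H).index := by
    rw [Subgroup.index_eq_card]; exact orderOf_dvd_natCard _
  have hcop : (q ^ k).Coprime (Q.subgroupOf H).index := by
    apply Nat.Coprime.pow_left
    exact (Nat.Prime.coprime_iff_not_dvd hq).mpr hidx
  have ho : orderOf ((QuotientGroup.mk' (Q.subgroupOf H)) y) = 1 :=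
    Nat.eq_one_of_dvd_coprimes hcop ho1 ho2
  have hyN : y ∈ Q.subgroupOf H := by
    have := orderOf_eq_one_iff.mp ho
    exact (QuotientGroup.eq_one_iff y).mp this
  exact mem_subgroupOf.mp hyN

/-- the normalizer of `H` normalizes `⁅H, H⁆`. -/
theorem normalizer_le_normalizer_commutator (H : Subgroup G) :
    normalizer (H : Set G) ≤ normalizer ((⁅H, H⁆ : Subgroup G) : Set G) := by
  intro g hg
  rw [mem_normalizer_iff_map_conj_eq] at hg ⊢
  have hg' : map (MulAut.conj g).toMonoidHom H = H := hg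
  have h := Subgroup.map_commutator H H (MulAut.conj g).toMonoidHom
  rw [hg'] at h
  exact h

/-- a subgroup of a nilpotent subgroup is nilpotent. -/
theorem isNilpotent_of_le {A B : Subgroup G} (hB : Group.IsNilpotent ↥B) (hAB : A ≤ B) :
    Group.IsNilpotent ↥A := by
  have h1 : Group.IsNilpotent ↥(A.subgroupOf B) := inferInstance
  exact (Group.isNilpotent_congr (Subgroup.subgroupOfEquivOfLe hAB)).mp h1

end Cfsg.Agent.Helper35.BG153
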