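import Mathlib
import Cfsg.Prelude.Def_OddOrderLocal
import Cfsg.Agent.Lib.Helper73.BG161Defs
import Cfsg.Agent.Lib.Helper35.BG153Defs
import Cfsg.Agent.Lib.Helper35.BG153Fa
import Cfsg.Agent.Lib.Helper55.BG153A
import Cfsg.Agent.Lib.Helper55.BGDecomp
import Cfsg.Agent.Lib.Helper55.BGDecomp2
import Cfsg.Agent.Lib.Helper52.CoprimeHall
import Cfsg.Agent.Lib.Helper60.BG144b
import Cfsg.Agent.Lib.Helper95.BG15.FitSigma
import Cfsg.Agent.Lib.Helper34.BG10a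

/-!
# Piece (F) of S1356 (helper35): `M'' ≤ F(M)` in the case `M_F ≠ M_σ`

`M' = M_σ = Q ⋊ D` with `D` a `K`-invariant (nilpotent) complement; the Frobenius group `D K` acts on
`Q / Q₀`, `Q₀ = C_Q(D)`, and the third conclusion of S1446 (`frob_section3`) shows that `D'` centralizes
`Q / Q₀`; as `D'` centralizes `Q₀` and acts coprimely, `D'` centralizes `Q`.  So `M'' ≤ Q × D'` is nilpotent.
-/

set_option autoImplicit false
set_option linter.unusedVariables false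

namespace Cfsg.Agent.Helper35.BG153

open Subgroup Cfsg
open Cfsg.Agent.Helper73.BG161 (T1350 T1352 T1365 T1420 T1430 T1437)

variable {G : Type*} [Group G] [Finite G]

theorem case_ne_der (hG : IsMinSimpleOddOrder G)
    (h1350 : T1350 G) (h1351 : T1351 G) (h1352 : T1352 G) (h1430 : T1430 G) (h1437 : T1437 G)
    (M : Subgroup G) (hM : IsCoatom M) (hne : Cfsg.fittingHallOf M ≠ Cfsg.sigmaCore M) :
    ⁅⁅M, M⁆, ⁅M, M⁆⁆ ≤ Cfsg.fittingOf M := by
  classical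
  have hHall := (h1350 M hM).1
  obtain ⟨⟨K, hK⟩, hKcyc⟩ := h1351 M hM
  obtain ⟨⟨U, hKU⟩, -⟩ := h1352 M hM K (hKcyc K hK) hK
  obtain ⟨hU, hσM', hKpr, hqpr, -, -, Q, hQF, hMQ, hQq, hqidx, hD⟩ := h1437 M hM K U hKU hne
  set q : ℕ := Nat.card ↥(Cfsg.sigmaCore M ⊓ centralizer (K : Set G)) with hqdef
  haveI := Fact.mk hqpr
  have hK1 : K ≠ ⊥ := by
    intro h
    rw [h, Subgroup.card_bot] at hKpr
    exact Nat.not_prime_one hKpr
  have hσM : Cfsg.sigmaCore M ≤ M := Cfsg.Agent.Helper55.BGB.sigmaCore_le M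
  have hKM : K ≤ M := hK.1
  have hMσn := Cfsg.Agent.Helper55.BGB.le_normalizer_sigmaCore M
  have hQσ : Q ≤ Cfsg.sigmaCore M :=
    hQF.trans (Cfsg.Agent.Helper60.BG144.fittingHallOf_le_sigmaCore hG hM)
  have hsolvM : Group.IsSolvable ↥M := Cfsg.Agent.Helper34.BG.solvable_of_ne_top hG hM.1
  have hσsolv : Group.IsSolvable ↥(Cfsg.sigmaCore M) :=
    solvable_of_solvable_injective (Subgroup.inclusion_injective hσM)
  have hKσcop : (Nat.card K).Coprime (Nat.card ↥(Cfsg.sigmaCore M)) := by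
    apply Nat.coprime_of_dvd
    intro p hp h1 h2
    exact Cfsg.Agent.Helper55.BGB.not_mem_sigma_of_mem_kappa (hK.2.1 p hp h1)
      (Cfsg.Agent.Helper55.BGB.isPi_sigmaCore M p hp h2)
  -- the `K`-invariant complement `D` of `Q` in `M_σ`
  have hmn : Nat.card ↥(Cfsg.sigmaCore M) = Q.relIndex (Cfsg.sigmaCore M) * Nat.card Q := by
    rw [mul_comm]
    exact (Cfsg.Agent.Helper55.BGB.card_mul_relIndex hQσ).symm
  obtain ⟨k, hk⟩ := IsPGroup.iff_card.mp hQq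
  have hqm : q.Coprime (Q.relIndex (Cfsg.sigmaCore M)) :=
    (Nat.Prime.coprime_iff_not_dvd hqpr).mpr hqidx
  have hcopmn : (Q.relIndex (Cfsg.sigmaCore M)).Coprime (Nat.card Q) := by
    rw [hk]
    exact Nat.Coprime.pow_right k hqm.symm
  obtain ⟨D, hDσ, hDcard, hKD⟩ := Cfsg.Agent.Helper52.exists_invariant_hall K (Cfsg.sigmaCore M)
    (hKM.trans hMσn) hKσcop hσsolv (Q.relIndex (Cfsg.sigmaCore M)) (Nat.card Q) hmn hcopmn
  have hQD : Q ⊓ D = ⊥ :=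
    (Subgroup.disjoint_of_coprime_natCard (by rw [hDcard]; exact hcopmn.symm)).eq_bot
  have hcompl : Cfsg.IsComplIn Q D (Cfsg.sigmaCore M) :=
    Cfsg.Agent.Helper55.BGB.isComplIn_of_card hQσ hDσ hQD (by rw [hDcard, mul_comm]; exact hmn.symm)
  obtain ⟨hDnil, hMQ0, hQ0lt, -, -, -⟩ := hD D hcompl
  have hDM : D ≤ M := hDσ.trans hσM
  have hQM : Q ≤ M := hQσ.trans hσM
  -- `K* = C_{M_σ}(K)` is cyclic of order `q` and lies in `Q`
  have hKscyc : IsCyclic ↥(Cfsg.sigmaCore M ⊓ centralizer (K : Set G)) :=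
    isCyclic_of_prime_card hqdef.symm
  have hKsq : IsPGroup q ↥(Cfsg.sigmaCore M ⊓ centralizer (K : Set G)) :=
    IsPGroup.of_card (n := 1) (by rw [pow_one])
  have hKsQ : Cfsg.sigmaCore M ⊓ centralizer (K : Set G) ≤ Q :=
    le_of_isPGroup_of_not_dvd_relIndex hqpr (hσM.trans hMQ) inf_le_left hKsq hqidx
  -- hypotheses of `frob_section3`
  have hD1 : D ≠ ⊥ := by
    intro h
    apply not_le_of_gt hQ0lt
    intro x hx
    refine ⟨hx, ?_⟩
    show x ∈ centralizer (D : Set G)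
    rw [mem_centralizer_iff]
    intro d hd
    have hd' : d ∈ D := hd
    rw [h, mem_bot] at hd'
    rw [hd', one_mul, mul_one]
  have hDK : D ⊓ K = ⊥ := by
    rw [eq_bot_iff, ← Cfsg.Agent.Helper55.BGB.K_inf_sigmaCore hKU]
    intro x hx
    exact ⟨hx.2, hDσ hx.1⟩
  have hfrob : ∀ r ∈ K, r ≠ 1 → D ⊓ centralizer ({r} : Set G) = ⊥ := by
    intro r hr hr1
    rw [eq_bot_iff, ← hQD]
    intro x hx
    have h1 := (h1430 M hM K hK hK1).1 r hr hr1
    have hx' : x ∈ Cfsg.sigmaCore M ⊓ centralizer ({r} : Set G) := ⟨hDσ hx.1, hx.2⟩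
    rw [h1] at hx'
    exact ⟨hKsQ hx', hx.1⟩
  have hDKM : D ⊔ K ≤ M := sup_le hDM hKM
  have hsolv : Group.IsSolvable ↥(D ⊔ K) :=
    solvable_of_solvable_injective (Subgroup.inclusion_injective hDKM)
  have hodd : Odd (Nat.card ↥(D ⊔ K)) := Cfsg.Agent.Helper34.BG.odd_card_subgroup hG _
  have hcop : (Nat.card ↥(D ⊔ K)).Coprime (Nat.card Q) := by
    have h := Cfsg.Agent.Helper50.card_sup_mul_card_inf_of_le_normalizer D K hKD
    rw [hDK, Subgroup.card_bot, mul_one] at h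
    rw [h, hDcard]
    apply Nat.Coprime.mul_left hcopmn
    rw [hk]
    apply Nat.Coprime.pow_right
    -- `|K|` is prime to `q` since `q ∣ |M_σ|`
    have hqσ : q ∣ Nat.card ↥(Cfsg.sigmaCore M) := by
      rw [hqdef]
      exact Subgroup.card_dvd_of_le inf_le_left
    exact Nat.Coprime.coprime_dvd_right hqσ hKσcop
  have hpr : ∀ x ∈ K, x ≠ 1 → Q ⊓ centralizer ({x} : Set G) = Q ⊓ centralizer (K : Set G) := by
    intro x hx hx1
    have h1 := (h1430 M hM K hK hK1).1 x hx hx1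
    ext y
    constructor
    · rintro ⟨hyQ, hyc⟩
      have hy' : y ∈ Cfsg.sigmaCore M ⊓ centralizer ({x} : Set G) := ⟨hQσ hyQ, hyc⟩
      rw [h1] at hy'
      exact ⟨hyQ, hy'.2⟩
    · rintro ⟨hyQ, hyc⟩
      have hy' : y ∈ Cfsg.sigmaCore M ⊓ centralizer (K : Set G) := ⟨hQσ hyQ, hyc⟩
      rw [← h1] at hy'
      exact ⟨hyQ, hy'.2⟩
  have hcyc : IsCyclic ↥(Q ⊓ centralizer (K : Set G)) := by
    haveI := hKscyc
    exact Subgroup.isCyclic_of_le (inf_le_inf_right _ hQσ)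
  have h3 := Cfsg.Agent.Helper55.BG153.frob_section3 D K Q (Q ⊓ centralizer (D : Set G))
    hD1 hK1 hDK hKD hfrob hsolv hodd inf_le_left (hQM.trans hMQ0) hQq.isNilpotent
    (hDM.trans hMQ) (hKM.trans hMQ) (hDM.trans hMQ0) (hKM.trans hMQ0) hcop le_rfl hpr
    (not_le_of_gt hQ0lt) hcyc
  -- `D'` centralizes `Q`
  have hD'D : ⁅D, D⁆ ≤ D :=
    commutator_le.mpr (fun a ha b hb => D.mul_mem (D.mul_mem (D.mul_mem ha hb) (D.inv_mem ha))
      (D.inv_mem hb))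
  have hcomm : ∀ v ∈ Q, ∀ d ∈ ⁅D, D⁆, v * d = d * v := by
    intro v hv d hd
    have hz := h3 d hd v hv
    have hdD : d ∈ D := hD'D hd
    have hdz : d * (d * v * d⁻¹ * v⁻¹) = (d * v * d⁻¹ * v⁻¹) * d :=
      mem_centralizer_iff.mp hz.2 d hdD
    have hod : (orderOf d).Coprime q := by
      have h1 : orderOf d ∣ Nat.card D := Subgroup.orderOf_dvd_natCard D hdD
      rw [hDcard] at h1
      exact Nat.Coprime.coprime_dvd_left h1 hqm.symm
    exact (comm_of_stab_chain hQq hv hz.1 hdz hod).symm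
  -- `W = Q D'` is nilpotent and contains `M''`
  have hD'nil : Group.IsNilpotent ↥⁅D, D⁆ :=
    isNilpotent_of_le hDnil hD'D
  have hWnil : Group.IsNilpotent ↥(Q ⊔ ⁅D, D⁆) :=
    isNilpotent_sup_of_commute hQq.isNilpotent hD'nil hcomm
  have hWσ : Q ⊔ ⁅D, D⁆ ≤ Cfsg.sigmaCore M := sup_le hQσ (hD'D.trans hDσ)
  have hDW : D ≤ normalizer ((Q ⊔ ⁅D, D⁆ : Subgroup G) : Set G) :=
    Cfsg.Agent.Helper55.BGFrob.le_normalizer_sup' (hDM.trans hMQ)
      (Cfsg.Agent.Helper55.BGB.le_normalizer_commutator D)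
  have hσW : Cfsg.sigmaCore M ≤ normalizer ((Q ⊔ ⁅D, D⁆ : Subgroup G) : Set G) := by
    intro m hm
    obtain ⟨a, ha, b, hb, rfl⟩ := hcompl.2.2.2 m hm
    exact (normalizer ((Q ⊔ ⁅D, D⁆ : Subgroup G) : Set G)).mul_mem
      (le_normalizer (le_sup_left (a := Q) (b := ⁅D, D⁆) ha)) (hDW hb)
  have hM2 : ⁅Cfsg.sigmaCore M, Cfsg.sigmaCore M⁆ ≤ Q ⊔ ⁅D, D⁆ :=
    commutator_le_of_factor hWσ hσW le_sup_left hDσ le_sup_right hcompl.2.2.2
  have hM2nil : Group.IsNilpotent ↥⁅Cfsg.sigmaCore M, Cfsg.sigmaCore M⁆ :=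
    isNilpotent_of_le hWnil hM2
  rw [← hσM']
  exact Cfsg.Agent.Helper95.BG15.FitSigma.le_fittingOf_of_normal (H := M) (X := Cfsg.sigmaCore M)
    (N := ⁅Cfsg.sigmaCore M, Cfsg.sigmaCore M⁆) hσM hMσn
    (commutator_le.mpr (fun a ha b hb => (Cfsg.sigmaCore M).mul_mem
      ((Cfsg.sigmaCore M).mul_mem ((Cfsg.sigmaCore M).mul_mem ha hb) ((Cfsg.sigmaCore M).inv_mem ha))
      ((Cfsg.sigmaCore M).inv_mem hb)))
    (Cfsg.Agent.Helper55.BGB.le_normalizer_commutator (Cfsg.sigmaCore M)) hM2nil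

/-- `M_F ≤ F(M)`. -/
theorem fittingHallOf_le_fittingOf (M : Subgroup G) : Cfsg.fittingHallOf M ≤ Cfsg.fittingOf M := by
  have hnil : Group.IsNilpotent ↥(Cfsg.fittingHallOf M) :=
    Cfsg.Agent.Helper95.BG15.FitSigma.isNilpotent_map_subtype _
      (Cfsg.Agent.Helper45.FH.fittingHall_nilpotent (G := ↥M))
  exact Cfsg.Agent.Helper95.BG15.FitSigma.le_fittingOf_of_normal (H := M)
    (X := Cfsg.fittingHallOf M) (N := Cfsg.fittingHallOf M)
    (Cfsg.Agent.Helper55.BGB.fittingHallOf_le M)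
    (Cfsg.Agent.Helper55.BGB.le_normalizer_fittingHallOf M) le_rfl le_normalizer hnil

end Cfsg.Agent.Helper35.BG153
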