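import Mathlib
import Cfsg.Agent.Lib.Helper35.CyclicMax

set_option autoImplicit false

namespace Cfsg.Agent.Helper35

/-- the exponent of conjugation by an element whose `p`-th power lies in `⟨a⟩` -/
theorem conj_exponent {R : Type*} [Group R] {p : ℕ} (hp : p.Prime) (hodd : p ≠ 2)
    (a b : R) (m : ℕ) (hm : 1 ≤ m) (ha : orderOf a = p ^ m) (k : ℤ)
    (hk' : b * a * b⁻¹ = a ^ k) (hbp : b ^ p ∈ Subgroup.zpowers a) :
    (p : ℤ) ∣ k - 1 ∧ (p : ℤ) ^ (m - 1) ∣ k - 1 := by
  have hcommp : b ^ p * a * (b ^ p)⁻¹ = a := by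
    obtain ⟨i, hi⟩ := Subgroup.mem_zpowers_iff.mp hbp
    rw [← hi]
    have : a ^ i * a = a * a ^ i := (Commute.zpow_self a i).eq
    rw [this, mul_inv_cancel_right]
  have h1 := conj_pow_zpow a b k hk' p
  rw [hcommp] at h1
  have h2 : a ^ (k ^ p - 1) = 1 := by
    rw [zpow_sub, zpow_one, ← h1, mul_inv_cancel]
  have h3 : ((p : ℤ) ^ m) ∣ k ^ p - 1 := by
    have := (orderOf_dvd_iff_zpow_eq_one).mpr h2
    rw [ha] at this
    exact_mod_cast this
  exact nt_key hp hodd m hm k h3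

/-- zpow equality from congruence of exponents modulo the order -/
theorem zpow_eq_of_dvd_sub {R : Type*} [Group R] (a : R) (x y : ℤ)
    (h : (orderOf a : ℤ) ∣ x - y) : a ^ x = a ^ y := by
  have := (orderOf_dvd_iff_zpow_eq_one).mp h
  rw [zpow_sub] at this
  exact mul_inv_eq_one.mp this

end Cfsg.Agent.Helper35
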