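import Mathlib

/-!
# Generalized dihedral groups and sets of element orders of direct products

`GD A` is the generalized dihedral group `A ⋊ {±1}` of an additive commutative group `A`
(the maps `x ↦ s • x + a`).  If `A` is nontrivial of prime exponent `p` its set of element orders is `{1, 2, p}`.
-/

set_option autoImplicit false

namespace Cfsg.Agent.Helper35.GenDih

/-- The generalized dihedral group of `A`: pairs `(a, s)`, `s = ±1`, standing for `x ↦ s • x + a`. -/
@[ext] structure GD (A : Type) [AddCommGroup A] where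
  /-- translation part -/
  a : A
  /-- sign -/
  s : ℤˣ

namespace GD

variable {A : Type} [AddCommGroup A]

instance : Mul (GD A) := ⟨fun x y => ⟨x.a + x.s • y.a, x.s * y.s⟩⟩
instance : One (GD A) := ⟨⟨0, 1⟩⟩
instance : Inv (GD A) := ⟨fun x => ⟨-(x.s • x.a), x.s⟩⟩

@[simp] theorem mul_a (x y : GD A) : (x * y).a = x.a + x.s • y.a := rfl
@[simp] theorem mul_s (x y : GD A) : (x * y).s = x.s * y.s := rfl
@[simp] theorem one_a : (1 : GD A).a = 0 := rfl
@[simp] theorem one_s : (1 : GD A).s = 1 := rfl
@[simp] theorem inv_a (x : GD A) : (x⁻¹).a = -(x.s • x.a) := rfl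
@[simp] theorem inv_s (x : GD A) : (x⁻¹).s = x.s := rfl

instance : Group (GD A) :=
  Group.ofLeftAxioms
    (fun x y z => by
      ext
      · simp only [mul_a, mul_s, smul_add, mul_smul, add_assoc]
      · simp only [mul_s, mul_assoc])
    (fun x => by
      ext
      · simp only [mul_a, one_a, one_s, one_smul, zero_add]
      · simp only [mul_s, one_s, one_mul])
    (fun x => by
      ext
      · simp only [mul_a, inv_a, inv_s, one_a, neg_add_cancel]
      · simp only [mul_s, inv_s, one_s, Int.units_mul_self])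

/-- `GD A ≃ A × ℤˣ`. -/
def equivProd : GD A ≃ A × ℤˣ where
  toFun x := (x.a, x.s)
  invFun p := ⟨p.1, p.2⟩
  left_inv _ := rfl
  right_inv _ := rfl

instance [Fintype A] : Fintype (GD A) := Fintype.ofEquiv _ equivProd.symm

theorem pow_of_s_one (x : GD A) (hx : x.s = 1) (n : ℕ) : x ^ n = ⟨n • x.a, 1⟩ := by
  induction n with
  | zero => simp only [pow_zero, zero_smul]; rfl
  | succ n ih =>
    rw [pow_succ, ih]
    ext
    · simp only [mul_a, one_smul, succ_nsmul]
    · simp only [mul_s, hx, mul_one]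

theorem neg_one_units_ne_one : (-1 : ℤˣ) ≠ 1 := by decide

theorem sq_of_s_ne_one (x : GD A) (hx : x.s ≠ 1) : x ^ 2 = 1 := by
  have hs : x.s = -1 := (Int.units_eq_one_or x.s).resolve_left hx
  rw [pow_two]
  ext
  · rw [mul_a, one_a, hs, Units.smul_def, Units.val_neg, Units.val_one, neg_smul, one_smul,
      add_neg_cancel]
  · simp only [mul_s, one_s, Int.units_mul_self]

/-- The set of element orders of `GD A` for `A` nontrivial of prime exponent `p`. -/
theorem range_orderOf (p : ℕ) (hp : p.Prime) [Nontrivial A] (hA : ∀ a : A, p • a = 0) :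
    Set.range (orderOf : GD A → ℕ) = {n | n ∈ [1, 2, p]} := by
  ext n
  constructor
  · rintro ⟨x, rfl⟩
    show orderOf x ∈ [1, 2, p]
    simp only [List.mem_cons, List.not_mem_nil, or_false]
    by_cases hx : x.s = 1
    · have h1 : x ^ p = 1 := by
        rw [pow_of_s_one x hx, hA]; rfl
      have h2 : orderOf x ∣ p := orderOf_dvd_of_pow_eq_one h1
      rcases (Nat.dvd_prime hp).1 h2 with h | h
      · left; exact h
      · right; right; exact h
    · right; left
      have : Fact (Nat.Prime 2) := ⟨Nat.prime_two⟩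
      apply orderOf_eq_prime (sq_of_s_ne_one x hx)
      intro h
      apply hx
      rw [h]; rfl
  · intro hn
    have hn' : n ∈ [1, 2, p] := hn
    simp only [List.mem_cons, List.not_mem_nil, or_false] at hn'
    rcases hn' with h | h | h
    · exact ⟨1, by rw [h]; exact orderOf_one⟩
    · refine ⟨⟨0, -1⟩, ?_⟩
      rw [h]
      have : Fact (Nat.Prime 2) := ⟨Nat.prime_two⟩
      apply orderOf_eq_prime (sq_of_s_ne_one _ neg_one_units_ne_one)
      intro h
      have : (-1 : ℤˣ) = 1 := congrArg GD.s h
      exact neg_one_units_ne_one this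
    · obtain ⟨a, ha⟩ := exists_ne (0 : A)
      refine ⟨⟨a, 1⟩, ?_⟩
      rw [h]
      have : Fact p.Prime := ⟨hp⟩
      apply orderOf_eq_prime
      · rw [pow_of_s_one _ rfl, hA]; rfl
      · intro h
        exact ha (congrArg GD.a h)

/-- The embedding `A → GD A`. -/
theorem mk_one_injective : Function.Injective (fun a : A => (⟨a, 1⟩ : GD A)) := by
  intro a b h
  exact congrArg GD.a h

end GD

/-! ### element orders of direct products -/

/-- All `lcm a b`, `a ∈ L`, `b ∈ M`. -/
def lcmList (L M : List ℕ) : List ℕ := L.flatMap fun a => M.map fun b => Nat.lcm a b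

theorem mem_lcmList {L M : List ℕ} {n : ℕ} :
    n ∈ lcmList L M ↔ ∃ a ∈ L, ∃ b ∈ M, Nat.lcm a b = n := by
  simp only [lcmList, List.mem_flatMap, List.mem_map]

theorem range_orderOf_prod {G H : Type*} [Monoid G] [Monoid H] {L M : List ℕ}
    (hG : Set.range (orderOf : G → ℕ) = {n | n ∈ L})
    (hH : Set.range (orderOf : H → ℕ) = {n | n ∈ M}) :
    Set.range (orderOf : G × H → ℕ) = {n | n ∈ lcmList L M} := by
  ext n
  constructor
  · rintro ⟨⟨g, h⟩, rfl⟩
    have h1 : orderOf g ∈ {n | n ∈ L} := hG ▸ Set.mem_range_self g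
    have h2 : orderOf h ∈ {n | n ∈ M} := hH ▸ Set.mem_range_self h
    exact mem_lcmList.2 ⟨_, h1, _, h2, (Prod.orderOf_mk).symm⟩
  · intro hn
    obtain ⟨a, ha, b, hb, rfl⟩ := mem_lcmList.1 hn
    have h1 : a ∈ Set.range (orderOf : G → ℕ) := hG ▸ ha
    have h2 : b ∈ Set.range (orderOf : H → ℕ) := hH ▸ hb
    obtain ⟨g, rfl⟩ := h1
    obtain ⟨h, rfl⟩ := h2
    exact ⟨(g, h), Prod.orderOf_mk⟩

/-- `lcmList` without repetitions. -/
def lcmListD (L M : List ℕ) : List ℕ := (lcmList L M).dedup

theorem range_orderOf_prodD {G H : Type*} [Monoid G] [Monoid H] {L M : List ℕ}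
    (hG : Set.range (orderOf : G → ℕ) = {n | n ∈ L})
    (hH : Set.range (orderOf : H → ℕ) = {n | n ∈ M}) :
    Set.range (orderOf : G × H → ℕ) = {n | n ∈ lcmListD L M} := by
  rw [range_orderOf_prod hG hH]
  ext n
  exact (List.mem_dedup (a := n) (l := lcmList L M)).symm

end Cfsg.Agent.Helper35.GenDih
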