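import Cfsg.Agent.Lib.Helper35.IsoA10H
import Cfsg.Agent.Lib.Helper35.A10Spec

set_option autoImplicit false

/-!
The group `G = (V₃ × V₇) ⋊ H` isospectral to `A₁₀`.
-/

namespace Cfsg.Agent.Helper35.IsoA10

/-- the central involution of `H` -/
def zH : ↥H := ⟨-1, neg_one_mem⟩

theorem zH_mul_self : zH * zH = 1 := Subtype.ext (by simp [zH])

theorem neg_one_ne_one_M4 : (-1 : M4) ≠ 1 := by decide +kernel

theorem zH_ne_one : zH ≠ 1 := by
  intro h
  have h1 : ((zH : M4ˣ) : M4) = ((1 : ↥H) : M4ˣ) := by rw [h]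
  simp [zH] at h1
  exact neg_one_ne_one_M4 h1

theorem zH_comm (h : ↥H) : zH * h = h * zH := Subtype.ext (by simp [zH])

theorem zH_inv : zH⁻¹ = zH := inv_eq_of_mul_eq_one_left zH_mul_self

/-- the module `V₃`: functions `f` on `H` with `f (h z) = - f h` -/
def V3 : AddSubgroup (↥H → ZMod 3) where
  carrier := {f | ∀ h, f (h * zH) = - f h}
  zero_mem' := by intro h; simp
  add_mem' := by
    intro f g hf hg h
    simp only [Pi.add_apply, hf h, hg h]; ring
  neg_mem' := by
    intro f hf h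
    simp only [Pi.neg_apply, hf h]

theorem V3_prop (f : ↥V3) (h : ↥H) : (f : ↥H → ZMod 3) (h * zH) = - (f : ↥H → ZMod 3) h := f.2 h

instance instSMulV3 : SMul ↥H ↥V3 :=
  ⟨fun x f => ⟨fun h => (f : ↥H → ZMod 3) (x⁻¹ * h), by
    intro h
    show (f : ↥H → ZMod 3) (x⁻¹ * (h * zH)) = - (f : ↥H → ZMod 3) (x⁻¹ * h)
    rw [← mul_assoc]; exact V3_prop f _⟩⟩

@[simp] theorem smulV3_apply (x : ↥H) (f : ↥V3) (h : ↥H) :
    ((x • f : ↥V3) : ↥H → ZMod 3) h = (f : ↥H → ZMod 3) (x⁻¹ * h) := rfl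

instance instDMAV3 : DistribMulAction ↥H ↥V3 where
  one_smul f := by ext h; simp
  mul_smul x y f := by ext h; simp [mul_assoc]
  smul_zero x := by ext h; simp
  smul_add x f g := by ext h; simp

/-- the module `V₇` -/
abbrev V7 := Fin 4 → ZMod 7

instance instSMulV7 : SMul ↥H V7 := ⟨fun x v => ((x : M4ˣ) : M4).mulVec v⟩

theorem smulV7_def (x : ↥H) (v : V7) : x • v = ((x : M4ˣ) : M4).mulVec v := rfl

instance instDMAV7 : DistribMulAction ↥H V7 where
  one_smul v := by simp [smulV7_def]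
  mul_smul x y v := by simp [smulV7_def, Matrix.mulVec_mulVec]
  smul_zero x := by simp
  smul_add x v w := by simp [smulV7_def]

/-- the abelian normal subgroup, additively -/
abbrev W := ↥V3 × V7

theorem zH_smul (w : W) : zH • w = -w := by
  ext
  · rename_i h
    show ((zH • w.1 : ↥V3) : ↥H → ZMod 3) h = _
    rw [smulV3_apply, zH_inv, zH_comm, V3_prop]
    rfl
  · rename_i i
    show (zH • w.2) i = _
    rw [smulV7_def]
    simp [zH, Matrix.neg_mulVec]

/-- the action as a homomorphism to automorphisms -/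
def phi : ↥H →* MulAut (Multiplicative W) where
  toFun x := AddEquiv.toMultiplicative (DistribMulAction.toAddEquiv W x)
  map_one' := by
    ext w
    · simp
    · simp
  map_mul' x y := by
    ext w
    · simp [mul_smul]
    · simp [mul_smul]

theorem phi_apply (x : ↥H) (w : W) :
    phi x (Multiplicative.ofAdd w) = Multiplicative.ofAdd (x • w) := rfl

/-- the group isospectral to `A₁₀` -/
abbrev G := Multiplicative W ⋊[phi] ↥H

/-- constructor -/
def mk (w : W) (x : ↥H) : G := ⟨Multiplicative.ofAdd w, x⟩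

theorem mk_mul (w w' : W) (x x' : ↥H) : mk w x * mk w' x' = mk (w + x • w') (x * x') := by
  apply SemidirectProduct.ext
  · simp only [mk, SemidirectProduct.mul_left, phi_apply]; rfl
  · simp [mk]

theorem mk_one : mk 0 1 = (1 : G) := by
  apply SemidirectProduct.ext <;> simp [mk]

theorem eq_mk (g : G) : g = mk (Multiplicative.toAdd g.left) g.right := by
  apply SemidirectProduct.ext <;> simp [mk]

theorem mk_inj {w w' : W} {x x' : ↥H} (h : mk w x = mk w' x') : w = w' ∧ x = x' := by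
  have h1 := congrArg SemidirectProduct.left h
  have h2 := congrArg SemidirectProduct.right h
  simp only [mk] at h1 h2
  exact ⟨Multiplicative.ofAdd.injective h1, h2⟩

/-- the norm-like sum -/
def nrm (x : ↥H) (k : ℕ) (w : W) : W := ∑ i ∈ Finset.range k, x ^ i • w

theorem mk_pow (w : W) (x : ↥H) (k : ℕ) : mk w x ^ k = mk (nrm x k w) (x ^ k) := by
  induction k with
  | zero => simp [nrm, mk_one]
  | succ n ih =>
    rw [pow_succ, ih, mk_mul, nrm, nrm, Finset.sum_range_succ, pow_succ]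

theorem mk_eq_one_iff {w : W} {x : ↥H} : mk w x = 1 ↔ w = 0 ∧ x = 1 := by
  rw [← mk_one]
  constructor
  · exact mk_inj
  · rintro ⟨rfl, rfl⟩; rfl

theorem coe_pow_H (x : ↥H) (k : ℕ) : (((x ^ k : ↥H) : M4ˣ) : M4) = ((x : M4ˣ) : M4) ^ k := by
  simp

theorem ext_H {x y : ↥H} (h : ((x : M4ˣ) : M4) = ((y : M4ˣ) : M4)) : x = y :=
  Subtype.ext (Units.ext h)

theorem coe_zH : ((zH : M4ˣ) : M4) = -1 := by simp [zH]

theorem pow_eq_zH {x : ↥H} {k : ℕ} (h : ((x : M4ˣ) : M4) ^ k = -1) : x ^ k = zH := by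
  apply ext_H
  rw [coe_pow_H, h, coe_zH]

theorem pow_eq_one_H {x : ↥H} {k : ℕ} (h : ((x : M4ˣ) : M4) ^ k = 1) : x ^ k = 1 := by
  apply ext_H
  rw [coe_pow_H, h]; simp

/-- (A) -/
theorem pow_two_mul_eq_one {w : W} {x : ↥H} {k : ℕ} (hx : x ^ k = zH) :
    mk w x ^ (2 * k) = 1 := by
  rw [mul_comm, pow_mul, mk_pow, hx, pow_two, mk_mul, zH_smul, add_neg_cancel, zH_mul_self,
    mk_one]

theorem pow_ne_one_of_z {w : W} {x : ↥H} {k : ℕ} (hx : x ^ k = zH) : mk w x ^ k ≠ 1 := by
  rw [mk_pow, hx]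
  intro h
  exact zH_ne_one (mk_eq_one_iff.mp h).2

theorem nrm_snd (x : ↥H) (k : ℕ) (w : W) :
    (nrm x k w).2 = (∑ i ∈ Finset.range k, ((x : M4ˣ) : M4) ^ i).mulVec w.2 := by
  unfold nrm
  rw [Prod.snd_sum, Matrix.sum_mulVec]
  refine Finset.sum_congr rfl (fun i _ => ?_)
  show (x ^ i • w.2) = _
  rw [smulV7_def, coe_pow_H]

theorem nrm_one (k : ℕ) (w : W) : nrm 1 k w = k • w := by
  simp [nrm]

theorem three_nsmul_V3 (f : ↥V3) : 3 • f = 0 := by
  ext h
  have h3 : ∀ a : ZMod 3, 3 • a = 0 := by decide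
  simpa using h3 _

theorem seven_nsmul_V7 (v : V7) : 7 • v = 0 := by
  ext i
  have h7 : ∀ a : ZMod 7, 7 • a = 0 := by decide
  simpa using h7 _

theorem twentyone_nsmul_W (w : W) : 21 • w = 0 := by
  ext
  · rename_i h
    have h3 : ∀ a : ZMod 3, 21 • a = 0 := by decide
    simpa using h3 _
  · rename_i i
    have h7 : ∀ a : ZMod 7, 21 • a = 0 := by decide
    simpa using h7 _

/-- (D) -/
theorem pow_twentyone (w : W) : mk w 1 ^ 21 = 1 := by
  rw [mk_pow, nrm_one, twentyone_nsmul_W, one_pow, mk_one]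

theorem cube_of_snd_zero {w : W} (h : w.2 = 0) : mk w 1 ^ 3 = 1 := by
  rw [mk_pow, nrm_one, one_pow]
  have : 3 • w = 0 := by
    ext
    · rename_i a
      have := three_nsmul_V3 w.1
      show ((3 • w.1 : ↥V3) : ↥H → ZMod 3) a = _
      rw [this]; rfl
    · rename_i i
      show (3 • w.2) i = _
      rw [h]; simp
  rw [this, mk_one]

/-- (B), (C) -/
theorem pow_three_mul {w : W} {x : ↥H} {k : ℕ} (hx : x ^ k = 1)
    (hs : ∑ i ∈ Finset.range k, ((x : M4ˣ) : M4) ^ i = 0) : mk w x ^ (k * 3) = 1 := by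
  rw [pow_mul, mk_pow, hx]
  apply cube_of_snd_zero
  rw [nrm_snd, hs, Matrix.zero_mulVec]

theorem spec_aux : ∀ k ∈ Finset.Icc 1 6, ∀ d ∈ (2 * k).divisors, ¬ d ∣ k → d ∈ specSet := by
  decide

theorem spec_aux2 : ∀ e ∈ ({9, 15, 21} : Finset ℕ), ∀ d ∈ e.divisors, d ∈ specSet := by
  decide

theorem mem_of_dvd {g : G} {e : ℕ} (he : e ∈ ({9, 15, 21} : Finset ℕ)) (h : g ^ e = 1) :
    orderOf g ∈ specSet := by
  apply spec_aux2 e he
  rw [Nat.mem_divisors]
  refine ⟨orderOf_dvd_of_pow_eq_one h, ?_⟩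
  simp only [Finset.mem_insert, Finset.mem_singleton] at he
  rcases he with rfl | rfl | rfl <;> norm_num

theorem mem_of_z {w : W} {x : ↥H} {k : ℕ} (hk : k ∈ Finset.Icc 1 6)
    (h : ((x : M4ˣ) : M4) ^ k = -1) : orderOf (mk w x) ∈ specSet := by
  have hx := pow_eq_zH h
  apply spec_aux k hk
  · rw [Nat.mem_divisors]
    refine ⟨orderOf_dvd_of_pow_eq_one (pow_two_mul_eq_one hx), ?_⟩
    rw [Finset.mem_Icc] at hk
    omega
  · intro hd
    exact pow_ne_one_of_z (w := w) hx (orderOf_dvd_iff_pow_eq_one.mp hd)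

/-- every element order of `G` lies in the spectrum of `A₁₀` -/
theorem orderOf_mem (g : G) : orderOf g ∈ specSet := by
  rw [eq_mk g]
  generalize Multiplicative.toAdd g.left = w
  generalize g.right = x
  have hg := good_of_mem x.2
  rcases hg with h1 | hneg | ⟨h3, hs3⟩ | ⟨h5, hs5⟩
  · have hx : x = 1 := ext_H (by rw [h1]; simp)
    rw [hx]
    exact mem_of_dvd (e := 21) (by decide) (pow_twentyone w)
  · rcases hneg with h | h | h | h | h | h
    · exact mem_of_z (k := 1) (by decide) (by rw [pow_one]; exact h)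
    · exact mem_of_z (k := 2) (by decide) h
    · exact mem_of_z (k := 3) (by decide) h
    · exact mem_of_z (k := 4) (by decide) h
    · exact mem_of_z (k := 5) (by decide) h
    · exact mem_of_z (k := 6) (by decide) h
  · refine mem_of_dvd (e := 9) (by decide) ?_
    refine pow_three_mul (k := 3) (pow_eq_one_H h3) ?_
    rw [Finset.sum_range_succ, Finset.sum_range_succ, Finset.sum_range_one, pow_zero, pow_one]
    exact hs3
  · refine mem_of_dvd (e := 15) (by decide) ?_
    refine pow_three_mul (k := 5) (pow_eq_one_H h5) ?_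
    rw [Finset.sum_range_succ, Finset.sum_range_succ, Finset.sum_range_succ,
      Finset.sum_range_succ, Finset.sum_range_one, pow_zero, pow_one]
    exact hs5

end Cfsg.Agent.Helper35.IsoA10
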