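import Cfsg.Agent.Lib.Helper35.IsoA10Data

set_option autoImplicit false

/-!
The subgroup `H ≤ GL₄(𝔽₇)` generated by `mA`, `mB`: every element is `good`.
-/

namespace Cfsg.Agent.Helper35.IsoA10

set_option maxRecDepth 100000 in
/-- first generator as a unit -/
def gA : M4ˣ := ⟨mA, mAi, by decide +kernel, by decide +kernel⟩

set_option maxRecDepth 100000 in
/-- second generator as a unit -/
def gB : M4ˣ := ⟨mB, mBi, by decide +kernel, by decide +kernel⟩

/-- the group `H` of order 240 -/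
def H : Subgroup M4ˣ := Subgroup.closure {gA, gB}

theorem gA_mem : gA ∈ H := Subgroup.subset_closure (by simp)
theorem gB_mem : gB ∈ H := Subgroup.subset_closure (by simp)

set_option maxRecDepth 100000 in
theorem mA_pow_four : mA ^ 4 = -1 := by decide +kernel

set_option maxRecDepth 100000 in
theorem mB_pow_five : mB ^ 5 = -1 := by decide +kernel

theorem gA_pow_four : gA ^ 4 = -1 := by
  apply Units.ext
  rw [Units.val_pow_eq_pow_val]
  exact mA_pow_four

theorem gB_pow_five : gB ^ 5 = -1 := by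
  apply Units.ext
  rw [Units.val_pow_eq_pow_val]
  exact mB_pow_five

theorem gA_inv : gA⁻¹ = gA ^ 7 := by
  have h : gA ^ 7 * gA = 1 := by
    rw [← pow_succ]
    have : gA ^ 8 = (gA ^ 4) ^ 2 := by rw [← pow_mul]
    rw [this, gA_pow_four]; simp
  exact (eq_inv_of_mul_eq_one_left h).symm

theorem gB_inv : gB⁻¹ = gB ^ 9 := by
  have h : gB ^ 9 * gB = 1 := by
    rw [← pow_succ]
    have : gB ^ 10 = (gB ^ 5) ^ 2 := by rw [← pow_mul]
    rw [this, gB_pow_five]; simp
  exact (eq_inv_of_mul_eq_one_left h).symm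

/-- the enumeration predicate -/
def Enum (x : M4ˣ) : Prop := ∃ i : Fin 240, (x : M4) = el i

theorem enum_mul_A {x : M4ˣ} (h : Enum x) : Enum (x * gA) := by
  obtain ⟨i, hi⟩ := h
  obtain ⟨hlt, heq⟩ := closedA i
  refine ⟨⟨_, hlt⟩, ?_⟩
  rw [Units.val_mul, hi]
  exact heq

theorem enum_mul_B {x : M4ˣ} (h : Enum x) : Enum (x * gB) := by
  obtain ⟨i, hi⟩ := h
  obtain ⟨hlt, heq⟩ := closedB i
  refine ⟨⟨_, hlt⟩, ?_⟩
  rw [Units.val_mul, hi]
  exact heq

theorem enum_mul_A_pow {x : M4ˣ} (h : Enum x) (k : ℕ) : Enum (x * gA ^ k) := by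
  induction k with
  | zero => simpa using h
  | succ n ih => rw [pow_succ, ← mul_assoc]; exact enum_mul_A ih

theorem enum_mul_B_pow {x : M4ˣ} (h : Enum x) (k : ℕ) : Enum (x * gB ^ k) := by
  induction k with
  | zero => simpa using h
  | succ n ih => rw [pow_succ, ← mul_assoc]; exact enum_mul_B ih

theorem enum_of_mem {x : M4ˣ} (hx : x ∈ H) : Enum x := by
  unfold H at hx
  induction hx using Subgroup.closure_induction_right with
  | one => exact ⟨⟨0, by norm_num⟩, by rw [Units.val_one]; exact el_zero.symm⟩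
  | mul_right x _ y hy ih =>
    rcases hy with rfl | rfl
    · exact enum_mul_A ih
    · exact enum_mul_B ih
  | mul_inv_cancel x _ y hy ih =>
    rcases hy with rfl | rfl
    · rw [gA_inv]; exact enum_mul_A_pow ih 7
    · rw [gB_inv]; exact enum_mul_B_pow ih 9

theorem good_of_mem {x : M4ˣ} (hx : x ∈ H) : good (x : M4) := by
  obtain ⟨i, hi⟩ := enum_of_mem hx
  rw [hi]
  exact allGood i

theorem neg_one_mem : (-1 : M4ˣ) ∈ H := by
  rw [← gA_pow_four]
  exact pow_mem gA_mem 4

end Cfsg.Agent.Helper35.IsoA10
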