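import Cfsg.Agent.Lib.Helper35.IsoA10G

set_option autoImplicit false

/-!
Witnesses: every number in the spectrum of `A₁₀` is an element order of `G`.
-/

namespace Cfsg.Agent.Helper35.IsoA10

open Classical in
/-- a nonzero vector of `V₃` -/
noncomputable def f0fun : ↥H → ZMod 3 := fun h => if h = 1 then 1 else if h = zH then -1 else 0

theorem f0fun_mem : f0fun ∈ V3 := by
  intro h
  unfold f0fun
  by_cases h1 : h = 1
  · subst h1
    simp [zH_ne_one]
  · by_cases h2 : h = zH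
    · subst h2
      simp [zH_mul_self, zH_ne_one]
    · have h3 : h * zH ≠ 1 := by
        intro h3
        apply h2
        have := eq_inv_of_mul_eq_one_left h3
        rw [this, zH_inv]
      have h4 : h * zH ≠ zH := by
        intro h4
        apply h1
        simpa using h4
      simp [h1, h2, h3, h4]

/-- a nonzero vector of `V₃` -/
noncomputable def f0 : ↥V3 := ⟨f0fun, f0fun_mem⟩

theorem f0_one : (f0 : ↥H → ZMod 3) 1 = 1 := by
  show f0fun 1 = 1
  simp [f0fun]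

theorem f0_of_ne {h : ↥H} (h1 : h ≠ 1) (h2 : h ≠ zH) : (f0 : ↥H → ZMod 3) h = 0 := by
  show f0fun h = 0
  simp [f0fun, h1, h2]

theorem nrm_fst (y : ↥H) (k : ℕ) (w : W) (h : ↥H) :
    ((nrm y k w).1 : ↥H → ZMod 3) h = ∑ i ∈ Finset.range k, (w.1 : ↥H → ZMod 3) ((y ^ i)⁻¹ * h) := by
  unfold nrm
  rw [Prod.fst_sum, AddSubmonoidClass.coe_finsetSum, Finset.sum_apply]
  rfl

theorem nrm_f0_one (y : ↥H) (k : ℕ) (hk0 : 0 < k) (hk : y ^ k = 1)
    (hne : ∀ i, 0 < i → i < k → y ^ i ≠ 1 ∧ y ^ i ≠ zH) :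
    ((nrm y k (f0, 0)).1 : ↥H → ZMod 3) 1 = 1 := by
  rw [nrm_fst, Finset.sum_eq_single 0]
  · simp [f0_one]
  · intro i hi hi0
    rw [Finset.mem_range] at hi
    have hinv : (y ^ i)⁻¹ = y ^ (k - i) := by
      apply inv_eq_of_mul_eq_one_right
      rw [← pow_add, Nat.add_sub_cancel' hi.le, hk]
    rw [mul_one, hinv]
    obtain ⟨h1, h2⟩ := hne (k - i) (by omega) (by omega)
    exact f0_of_ne h1 h2
  · intro h0
    exact absurd (Finset.mem_range.mpr hk0) h0

/-- elements of `H` embed with the same order -/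
theorem orderOf_mk_zero (x : ↥H) : orderOf (mk 0 x) = orderOf ((x : M4ˣ) : M4) := by
  have h1 : mk 0 x = (SemidirectProduct.inr x : G) := by
    apply SemidirectProduct.ext <;> simp [mk]
  rw [h1, orderOf_injective _ SemidirectProduct.inr_injective, orderOf_units,
    Subgroup.orderOf_coe]

/-- generator of order 8 -/
def hA : ↥H := ⟨gA, gA_mem⟩
/-- generator of order 10 -/
def hB : ↥H := ⟨gB, gB_mem⟩

theorem coe_hA : ((hA : M4ˣ) : M4) = mA := rfl
theorem coe_hB : ((hB : M4ˣ) : M4) = mB := rfl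

set_option maxRecDepth 100000 in
theorem ord_h8 : mA ^ 8 = 1 ∧ ∀ m < 8, 0 < m → mA ^ m ≠ 1 := by decide +kernel

set_option maxRecDepth 100000 in
theorem ord_h4 : (mA ^ 2) ^ 4 = 1 ∧ ∀ m < 4, 0 < m → (mA ^ 2) ^ m ≠ 1 := by decide +kernel

set_option maxRecDepth 100000 in
theorem ord_h2 : (mA ^ 4) ^ 2 = 1 ∧ ∀ m < 2, 0 < m → (mA ^ 4) ^ m ≠ 1 := by decide +kernel

set_option maxRecDepth 100000 in
theorem ord_h10 : mB ^ 10 = 1 ∧ ∀ m < 10, 0 < m → mB ^ m ≠ 1 := by decide +kernel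

set_option maxRecDepth 100000 in
theorem ord_h5 : (mB ^ 2) ^ 5 = 1 ∧ ∀ m < 5, 0 < m → (mB ^ 2) ^ m ≠ 1 := by decide +kernel

set_option maxRecDepth 100000 in
theorem ord_h12 : (mA * mB) ^ 12 = 1 ∧ ∀ m < 12, 0 < m → (mA * mB) ^ m ≠ 1 := by decide +kernel

set_option maxRecDepth 100000 in
theorem ord_h6 : ((mA * mB) ^ 2) ^ 6 = 1 ∧ ∀ m < 6, 0 < m → ((mA * mB) ^ 2) ^ m ≠ 1 := by decide +kernel

set_option maxRecDepth 100000 in
theorem ord_h3 : ((mA * mB) ^ 4) ^ 3 = 1 ∧ ∀ m < 3, 0 < m → ((mA * mB) ^ 4) ^ m ≠ 1 := by decide +kernel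

theorem exists_orderOf_H : ∀ n ∈ ({2, 3, 4, 5, 6, 8, 10, 12} : Finset ℕ), ∃ g : G, orderOf g = n := by
  intro n hn
  simp only [Finset.mem_insert, Finset.mem_singleton] at hn
  rcases hn with rfl | rfl | rfl | rfl | rfl | rfl | rfl | rfl
  · refine ⟨mk 0 (hA ^ 4), ?_⟩
    rw [orderOf_mk_zero, coe_pow_H, coe_hA, orderOf_eq_iff (by norm_num)]
    exact ord_h2
  · refine ⟨mk 0 ((hA * hB) ^ 4), ?_⟩
    rw [orderOf_mk_zero, coe_pow_H, orderOf_eq_iff (by norm_num)]
    exact ord_h3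
  · refine ⟨mk 0 (hA ^ 2), ?_⟩
    rw [orderOf_mk_zero, coe_pow_H, coe_hA, orderOf_eq_iff (by norm_num)]
    exact ord_h4
  · refine ⟨mk 0 (hB ^ 2), ?_⟩
    rw [orderOf_mk_zero, coe_pow_H, coe_hB, orderOf_eq_iff (by norm_num)]
    exact ord_h5
  · refine ⟨mk 0 ((hA * hB) ^ 2), ?_⟩
    rw [orderOf_mk_zero, coe_pow_H, orderOf_eq_iff (by norm_num)]
    exact ord_h6
  · refine ⟨mk 0 hA, ?_⟩
    rw [orderOf_mk_zero, coe_hA, orderOf_eq_iff (by norm_num)]
    exact ord_h8
  · refine ⟨mk 0 hB, ?_⟩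
    rw [orderOf_mk_zero, coe_hB, orderOf_eq_iff (by norm_num)]
    exact ord_h10
  · refine ⟨mk 0 (hA * hB), ?_⟩
    rw [orderOf_mk_zero, orderOf_eq_iff (by norm_num)]
    exact ord_h12

/-- a nonzero vector of `V₇` -/
def e0 : V7 := Pi.single 0 1

theorem mk_one_pow (w : W) (k : ℕ) : mk w 1 ^ k = mk (k • w) 1 := by
  rw [mk_pow, nrm_one, one_pow]

theorem exists_orderOf_seven : ∃ g : G, orderOf g = 7 := by
  refine ⟨mk (0, e0) 1, ?_⟩
  have : Fact (Nat.Prime 7) := ⟨by norm_num⟩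
  apply orderOf_eq_prime
  · rw [mk_one_pow]
    have : 7 • ((0, e0) : W) = 0 := by
      ext
      · rename_i h; simp
      · rename_i i
        show (7 • e0) i = _
        rw [seven_nsmul_V7]; rfl
    rw [this, mk_one]
  · intro h
    have := (mk_eq_one_iff.mp h).1
    have h2 := congrArg (fun w : W => w.2 0) this
    simp [e0] at h2

theorem dvd_aux21 : ∀ d ∈ (21 : ℕ).divisors, ¬ d ∣ 3 → ¬ d ∣ 7 → d = 21 := by decide
theorem dvd_aux15 : ∀ d ∈ (15 : ℕ).divisors, ¬ d ∣ 3 → ¬ d ∣ 5 → d = 15 := by decide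

theorem exists_orderOf_twentyone : ∃ g : G, orderOf g = 21 := by
  refine ⟨mk (f0, e0) 1, ?_⟩
  apply dvd_aux21
  · rw [Nat.mem_divisors]
    exact ⟨orderOf_dvd_of_pow_eq_one (pow_twentyone _), by norm_num⟩
  · intro hd
    have h := orderOf_dvd_iff_pow_eq_one.mp hd
    rw [mk_one_pow] at h
    have := (mk_eq_one_iff.mp h).1
    have h2 := congrArg (fun w : W => w.2 0) this
    have h3 : (3 • ((f0, e0) : W)).2 0 = 3 := by
      show (3 • e0) 0 = 3
      simp [e0]
    simp only [h3] at h2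
    exact absurd h2 (by decide)
  · intro hd
    have h := orderOf_dvd_iff_pow_eq_one.mp hd
    rw [mk_one_pow] at h
    have := (mk_eq_one_iff.mp h).1
    have h2 := congrArg (fun w : W => (w.1 : ↥H → ZMod 3) 1) this
    have h3 : ((7 • ((f0, e0) : W)).1 : ↥H → ZMod 3) 1 = 1 := by
      show ((7 • f0 : ↥V3) : ↥H → ZMod 3) 1 = 1
      rw [AddSubgroup.coe_nsmul, Pi.smul_apply, f0_one]
      decide
    simp only [h3] at h2
    exact absurd h2 (by decide)

/-- the element of order 3 of `H` -/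
def x3 : ↥H := (hA * hB) ^ 4
/-- the element of order 5 of `H` -/
def x5 : ↥H := hB ^ 2

theorem coe_x3 : ((x3 : M4ˣ) : M4) = (mA * mB) ^ 4 := by
  rw [x3, coe_pow_H]; rfl
theorem coe_x5 : ((x5 : M4ˣ) : M4) = mB ^ 2 := by
  rw [x5, coe_pow_H]; rfl

set_option maxRecDepth 100000 in
theorem x3_checks : ∑ i ∈ Finset.range 3, ((mA * mB) ^ 4) ^ i = 0 ∧
    ∀ i < 3, 0 < i → ((mA * mB) ^ 4) ^ i ≠ 1 ∧ ((mA * mB) ^ 4) ^ i ≠ -1 := by decide +kernel

set_option maxRecDepth 100000 in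
theorem x5_checks : ∑ i ∈ Finset.range 5, (mB ^ 2) ^ i = 0 ∧
    ∀ i < 5, 0 < i → (mB ^ 2) ^ i ≠ 1 ∧ (mB ^ 2) ^ i ≠ -1 := by decide +kernel

theorem ne_of_coe_ne {x y : ↥H} (h : ((x : M4ˣ) : M4) ≠ ((y : M4ˣ) : M4)) : x ≠ y := by
  intro hxy; exact h (by rw [hxy])

theorem x3_pow_three : x3 ^ 3 = 1 := pow_eq_one_H (by rw [coe_x3]; exact ord_h3.1)
theorem x5_pow_five : x5 ^ 5 = 1 := pow_eq_one_H (by rw [coe_x5]; exact ord_h5.1)

theorem x3_ne (i : ℕ) (h0 : 0 < i) (hi : i < 3) : x3 ^ i ≠ 1 ∧ x3 ^ i ≠ zH := by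
  obtain ⟨h1, h2⟩ := x3_checks.2 i hi h0
  constructor
  · apply ne_of_coe_ne
    rw [coe_pow_H, coe_x3]; simpa using h1
  · apply ne_of_coe_ne
    rw [coe_pow_H, coe_x3, coe_zH]; exact h2

theorem x5_ne (i : ℕ) (h0 : 0 < i) (hi : i < 5) : x5 ^ i ≠ 1 ∧ x5 ^ i ≠ zH := by
  obtain ⟨h1, h2⟩ := x5_checks.2 i hi h0
  constructor
  · apply ne_of_coe_ne
    rw [coe_pow_H, coe_x5]; simpa using h1
  · apply ne_of_coe_ne
    rw [coe_pow_H, coe_x5, coe_zH]; exact h2

theorem exists_orderOf_nine : ∃ g : G, orderOf g = 9 := by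
  refine ⟨mk (f0, 0) x3, ?_⟩
  have : Fact (Nat.Prime 3) := ⟨by norm_num⟩
  have h9 : mk (f0, 0) x3 ^ (3 * 3) = 1 :=
    pow_three_mul (k := 3) x3_pow_three (by rw [coe_x3]; exact x3_checks.1)
  have h3 : ¬ mk (f0, 0) x3 ^ 3 = 1 := by
    intro h
    rw [mk_pow] at h
    have := (mk_eq_one_iff.mp h).1
    have h2 := congrArg (fun w : W => (w.1 : ↥H → ZMod 3) 1) this
    simp only [nrm_f0_one x3 3 (by norm_num) x3_pow_three x3_ne] at h2
    exact absurd h2 (by decide)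
  exact orderOf_eq_prime_pow (p := 3) (n := 1) (by simpa using h3) (by simpa using h9)

theorem exists_orderOf_fifteen : ∃ g : G, orderOf g = 15 := by
  refine ⟨mk (f0, 0) x5, ?_⟩
  have h15 : mk (f0, 0) x5 ^ (5 * 3) = 1 :=
    pow_three_mul (k := 5) x5_pow_five (by rw [coe_x5]; exact x5_checks.1)
  apply dvd_aux15
  · rw [Nat.mem_divisors]
    exact ⟨orderOf_dvd_of_pow_eq_one h15, by norm_num⟩
  · intro hd
    have h := orderOf_dvd_iff_pow_eq_one.mp hd
    rw [mk_pow] at h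
    exact (x5_ne 3 (by norm_num) (by norm_num)).1 (mk_eq_one_iff.mp h).2
  · intro hd
    have h := orderOf_dvd_iff_pow_eq_one.mp hd
    rw [mk_pow] at h
    have := (mk_eq_one_iff.mp h).1
    have h2 := congrArg (fun w : W => (w.1 : ↥H → ZMod 3) 1) this
    simp only [nrm_f0_one x5 5 (by norm_num) x5_pow_five x5_ne] at h2
    exact absurd h2 (by decide)

/-- the spectrum of `G` -/
theorem range_orderOf_G : Set.range (orderOf : G → ℕ) = (specSet : Set ℕ) := by
  ext m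
  constructor
  · rintro ⟨g, rfl⟩
    exact orderOf_mem g
  · intro hm
    have hm' : m ∈ specSet := Finset.mem_coe.mp hm
    simp only [specSet, Finset.mem_insert, Finset.mem_singleton] at hm'
    rcases hm' with rfl | rfl | rfl | rfl | rfl | rfl | rfl | rfl | rfl | rfl | rfl | rfl | rfl
    · exact ⟨1, orderOf_one⟩
    · exact exists_orderOf_H 2 (by decide)
    · exact exists_orderOf_H 3 (by decide)
    · exact exists_orderOf_H 4 (by decide)
    · exact exists_orderOf_H 5 (by decide)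
    · exact exists_orderOf_H 6 (by decide)
    · exact exists_orderOf_seven
    · exact exists_orderOf_H 8 (by decide)
    · exact exists_orderOf_nine
    · exact exists_orderOf_H 10 (by decide)
    · exact exists_orderOf_H 12 (by decide)
    · exact exists_orderOf_fifteen
    · exact exists_orderOf_twentyone

/-- the abelian normal subgroup -/
def KG : Subgroup G := (SemidirectProduct.rightHom : G →* ↥H).ker

instance : KG.Normal := by unfold KG; infer_instance

theorem KG_ne_bot : KG ≠ ⊥ := by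
  intro h
  have hmem : mk (0, e0) 1 ∈ KG := by
    unfold KG
    rw [MonoidHom.mem_ker]
    simp [mk]
  rw [h, Subgroup.mem_bot] at hmem
  have := (mk_eq_one_iff.mp hmem).1
  have h2 := congrArg (fun w : W => w.2 0) this
  simp only [e0, Pi.single_eq_same, Prod.snd_zero, Pi.zero_apply] at h2
  exact absurd h2 (by decide)

theorem KG_solvable : Group.IsSolvable KG := by
  apply Group.isSolvable_of_comm
  intro a b
  apply Subtype.ext
  have ha : (a : G).right = 1 := by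
    have := a.2; unfold KG at this; rwa [MonoidHom.mem_ker] at this
  have hb : (b : G).right = 1 := by
    have := b.2; unfold KG at this; rwa [MonoidHom.mem_ker] at this
  show (a : G) * (b : G) = (b : G) * (a : G)
  apply SemidirectProduct.ext
  · simp only [SemidirectProduct.mul_left, ha, hb, map_one, MulAut.one_apply]
    exact mul_comm _ _
  · simp [ha, hb]

instance : Finite G := Finite.of_equiv _ SemidirectProduct.equivProd.symm

end Cfsg.Agent.Helper35.IsoA10
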