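import Cfsg.Agent.Lib.Helper35.J1SpecData
import Cfsg.Agent.Lib.Helper72.J1Elts

/-!
# The set of element orders of the Janko group `J₁ = ⟨X, Y⟩ ≤ GL₇(11)`

`Set.range (orderOf : ↥Cfsg.Spor.J1 → ℕ) = {1, 2, 3, 5, 6, 7, 10, 11, 15, 19}`.
-/

set_option autoImplicit false

namespace Cfsg.Agent.Helper35.J1Spec

open Cfsg.Agent.Helper72.J1 Cfsg.Spor

/-- The list of element orders of `J₁`. -/
def specList : List ℕ := [1, 2, 3, 5, 6, 7, 10, 11, 15, 19]

theorem dec_eq_one_of_beq {e : ℕ} (h : (e == idE) = true) : dec e = 1 := by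
  rw [beq_iff_eq] at h
  rw [h, dec_idE]

/-- Soundness of the order test. -/
theorem ordOK_sound (e : ℕ) (h : ordOK e = true) : ∃ o ∈ specList, dec e ^ o = 1 := by
  unfold ordOK at h
  simp only [Bool.or_eq_true] at h
  have key : ∀ (o : ℕ), o ∈ specList → ∀ c : ℕ, (c == idE) = true → dec c = dec e ^ o →
      ∃ o ∈ specList, dec e ^ o = 1 := by
    intro o ho c hc hco
    exact ⟨o, ho, by rw [← hco]; exact dec_eq_one_of_beq hc⟩
  have p2 : dec (mulE e e) = dec e ^ 2 := by rw [dec_mulE, pow_two]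
  have p3 : dec (mulE (mulE e e) e) = dec e ^ 3 := by rw [dec_mulE, p2, ← pow_succ]
  have p5 : dec (mulE (mulE (mulE e e) e) (mulE e e)) = dec e ^ 5 := by
    rw [dec_mulE, p3, p2, ← pow_add]
  have p6 : dec (mulE (mulE (mulE e e) e) (mulE (mulE e e) e)) = dec e ^ 6 := by
    rw [dec_mulE, p3, ← pow_add]
  have p7 : dec (mulE (mulE (mulE (mulE e e) e) (mulE e e)) (mulE e e)) = dec e ^ 7 := by
    rw [dec_mulE, p5, p2, ← pow_add]
  have p10 : dec (mulE (mulE (mulE (mulE e e) e) (mulE e e)) (mulE (mulE (mulE e e) e) (mulE e e)))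
      = dec e ^ 10 := by
    rw [dec_mulE, p5, ← pow_add]
  have p11 : dec (mulE (mulE (mulE (mulE (mulE e e) e) (mulE e e))
      (mulE (mulE (mulE e e) e) (mulE e e))) e) = dec e ^ 11 := by
    rw [dec_mulE, p10, ← pow_succ]
  have p15 : dec (mulE (mulE (mulE (mulE (mulE e e) e) (mulE e e))
      (mulE (mulE (mulE e e) e) (mulE e e))) (mulE (mulE (mulE e e) e) (mulE e e))) = dec e ^ 15 := by
    rw [dec_mulE, p10, p5, ← pow_add]
  have p19 : dec (mulE (mulE (mulE (mulE (mulE (mulE (mulE e e) e) (mulE e e))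
      (mulE (mulE (mulE e e) e) (mulE e e))) (mulE (mulE (mulE e e) e) (mulE e e)))
      (mulE (mulE e e) e)) e) = dec e ^ 19 := by
    rw [dec_mulE, dec_mulE, p15, p3, ← pow_add, ← pow_succ]
  rcases h with h | h
  · exact key 1 (by decide) e h (by rw [pow_one])
  rcases h with h | h
  · exact key 2 (by decide) _ h p2
  rcases h with h | h
  · exact key 3 (by decide) _ h p3
  rcases h with ((h | h) | h) | h
  · exact key 5 (by decide) _ h p5
  · exact key 6 (by decide) _ h p6
  · exact key 7 (by decide) _ h p7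
  rcases h with (h | h) | h
  · exact key 10 (by decide) _ h p10
  · exact key 11 (by decide) _ h p11
  rcases h with h | h
  · exact key 15 (by decide) _ h p15
  · exact key 19 (by decide) _ h p19

theorem l2E_mem {a m : ℕ} (ha : a < 12) (hm : m < 55) : dec (l2E a m) ∈ L2 := by
  unfold l2E
  rw [dec_mulE]
  exact L2.mul_mem (T2_mem _ ha) (L3_le_L2 (T3_mem _ hm))

theorem L2_eq_l2E : ∀ g ∈ L2, ∃ a < 12, ∃ m < 55, g = dec (l2E a m) := by
  intro g hg
  obtain ⟨a, ha, l, hl, rfl⟩ := L2_cover g hg
  obtain ⟨m, hm, rfl⟩ := L3_eq_T3 l hl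
  exact ⟨a, ha, m, hm, by unfold l2E; rw [dec_mulE]⟩

theorem chkOrd_all {r : ℕ} (hr : r ∈ REPS) : chkOrd r = true := by
  simp only [REPS, List.mem_cons, List.not_mem_nil, or_false] at hr
  rcases hr with rfl | rfl | rfl | rfl | rfl
  · exact allOrd0
  · exact allOrd1
  · exact allOrd2
  · exact allOrd8
  · exact allOrd31

theorem ordOK_rep {r a m : ℕ} (hr : r ∈ REPS) (ha : a < 12) (hm : m < 55) :
    ordOK (mulE (T1.getD r 0) (l2E a m)) = true := by
  have h := chkOrd_all hr
  unfold chkOrd at h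
  rw [List.all_eq_true] at h
  have h1 := h a (List.mem_range.2 ha)
  rw [List.all_eq_true] at h1
  exact h1 m (List.mem_range.2 hm)

/-- Every matrix of `L1` is `h₁ * (T1[r] * h)` with `h₁, h ∈ L2` and `r` a double coset representative. -/
theorem L1_dc : ∀ g ∈ L1, ∃ r ∈ REPS, ∃ h1 ∈ L2, ∃ h ∈ L2, g = h1 * (dec (T1.getD r 0) * h) := by
  intro g hg
  obtain ⟨k, hk, l, hl, rfl⟩ := L1_cover g hg
  have hc := allDC
  rw [List.all_eq_true] at hc
  have hck := hc k (List.mem_range.2 hk)
  unfold chkDC at hck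
  simp only [Bool.and_eq_true, decide_eq_true_eq, beq_iff_eq] at hck
  obtain ⟨hi, heq⟩ := hck
  set c := DC.getD k 0 with hcdef
  have hr : REPS.getD (c / 435600) 0 ∈ REPS := by
    have : c / 435600 < REPS.length := by simpa [REPS] using hi
    rw [List.getD_eq_getElem _ _ this]
    exact List.getElem_mem this
  refine ⟨_, hr, dec (l2E (c / 36300 % 12) (c / 660 % 55)),
    l2E_mem (Nat.mod_lt _ (by norm_num)) (Nat.mod_lt _ (by norm_num)),
    dec (l2E (c / 55 % 12) (c % 55)) * l,
    L2.mul_mem (l2E_mem (Nat.mod_lt _ (by norm_num)) (Nat.mod_lt _ (by norm_num))) hl, ?_⟩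
  rw [← heq, dec_mulE, dec_mulE]
  simp only [mul_assoc]

/-- Every element of `G = J₁` satisfies `g ^ o = 1` for some `o` in the list. -/
theorem exists_pow_eq_one (g : GL (Fin 7) (ZMod 11)) (hg : g ∈ G) : ∃ o ∈ specList, g ^ o = 1 := by
  obtain ⟨r, hr, h1, hh1, h, hh, hgeq⟩ := L1_dc _ (val_mem_L1 g hg)
  -- `B * A` with `A = h1`, `B = T1[r] * h`
  obtain ⟨a, ha, m, hm, hl⟩ := L2_eq_l2E (h * h1) (L2.mul_mem hh hh1)
  have hBA : dec (T1.getD r 0) * h * h1 = dec (mulE (T1.getD r 0) (l2E a m)) := by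
    rw [dec_mulE, ← hl, mul_assoc]
  obtain ⟨o, ho, hpow⟩ := ordOK_sound _ (ordOK_rep hr ha hm)
  rw [← hBA] at hpow
  refine ⟨o, ho, ?_⟩
  -- `(A * B) ^ (o + 1) = A * (B * A) ^ o * B = A * B`
  have h2 : ((g : GL (Fin 7) (ZMod 11)) : Mat) ^ (o + 1) = ((g : GL (Fin 7) (ZMod 11)) : Mat) := by
    rw [hgeq]
    have : ∀ n : ℕ, (h1 * (dec (T1.getD r 0) * h)) ^ (n + 1) =
        h1 * (dec (T1.getD r 0) * h * h1) ^ n * (dec (T1.getD r 0) * h) := by
      intro n
      induction n with
      | zero => simp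
      | succ n ih =>
        rw [pow_succ, ih, pow_succ]
        simp only [mul_assoc]
    rw [this, hpow, mul_one]
  have h3 : g ^ (o + 1) = g := by
    apply Units.ext
    rw [Units.val_pow_eq_pow_val]
    exact h2
  have h4 : g ^ o * g = 1 * g := by rw [one_mul, ← pow_succ]; exact h3
  exact mul_right_cancel h4

theorem specList_dvd_closed : ∀ o ∈ specList, ∀ d : ℕ, d ∣ o → d ∈ specList := by
  intro o ho d hd
  have hle : d ≤ o := Nat.le_of_dvd (by
    simp only [specList, List.mem_cons, List.not_mem_nil, or_false] at ho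
    rcases ho with rfl | rfl | rfl | rfl | rfl | rfl | rfl | rfl | rfl | rfl <;> norm_num) hd
  simp only [specList, List.mem_cons, List.not_mem_nil, or_false] at ho
  rcases ho with rfl | rfl | rfl | rfl | rfl | rfl | rfl | rfl | rfl | rfl <;>
    interval_cases d <;> first | (exfalso; revert hd; decide) | decide

/-- The order of every element of `J₁` lies in the list. -/
theorem orderOf_mem (g : ↥Cfsg.Spor.J1) : orderOf g ∈ specList := by
  obtain ⟨o, ho, hpow⟩ := exists_pow_eq_one g.1 g.2
  have h1 : orderOf (g : GL (Fin 7) (ZMod 11)) ∣ o := orderOf_dvd_of_pow_eq_one hpow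
  rw [Subgroup.orderOf_coe] at h1
  exact specList_dvd_closed o ho _ h1

end Cfsg.Agent.Helper35.J1Spec

namespace Cfsg.Agent.Helper35.J1Spec

open Cfsg.Agent.Helper72.J1 Cfsg.Spor

/-- `Rep g a` with `g ^ n = 1` and `g ^ (n / p) ≠ 1` for the primes `p ∣ n`, checked on codes. -/
theorem orderOf_of_rep {g : GL (Fin 7) (ZMod 11)} {a : ℕ} (hg : Rep g a) (n : ℕ) (hn : 0 < n)
    (h1 : powE a n = idE)
    (h2 : ∀ p : ℕ, p.Prime → p ∣ n → neqE (powE a (n / p)) idE = true) :
    ∃ z : ↥Cfsg.Spor.J1, orderOf z = n := by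
  refine ⟨⟨g, hg.1⟩, ?_⟩
  rw [← Subgroup.orderOf_coe]
  apply orderOf_eq_of_pow_and_pow_div_prime hn
  · exact (hg.pow n).eq (rep_one.congr h1.symm)
  · intro p hp hpn
    exact (hg.pow (n / p)).ne rep_one (h2 p hp hpn)

theorem prime_dvd_cases {n : ℕ} {ps : List ℕ} (P : ℕ → Prop)
    (hps : ∀ p : ℕ, p.Prime → p ∣ n → p ∈ ps) (h : ∀ p ∈ ps, P p) :
    ∀ p : ℕ, p.Prime → p ∣ n → P p := fun p hp hpn => h p (hps p hp hpn)

end Cfsg.Agent.Helper35.J1Spec

namespace Cfsg.Agent.Helper35.J1Spec

open Cfsg.Agent.Helper72.J1 Cfsg.Spor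

theorem exists_order_two : ∃ z : ↥Cfsg.Spor.J1, orderOf z = 2 := by
  refine orderOf_of_rep rep_a1 2 (by norm_num) (by decide +kernel) ?_
  intro p hp hpn
  have hle : p ≤ 2 := Nat.le_of_dvd (by norm_num) hpn
  interval_cases p
  · exact absurd hp (by decide)
  · exact absurd hp (by decide)
  · decide +kernel

theorem exists_order_three : ∃ z : ↥Cfsg.Spor.J1, orderOf z = 3 := by
  refine orderOf_of_rep rep_d 3 (by norm_num) (by decide +kernel) ?_
  intro p hp hpn
  have hle : p ≤ 3 := Nat.le_of_dvd (by norm_num) hpn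
  interval_cases p
  · exact absurd hp (by decide)
  · exact absurd hp (by decide)
  · exact absurd hpn (by decide)
  · decide +kernel

theorem exists_order_five : ∃ z : ↥Cfsg.Spor.J1, orderOf z = 5 := by
  refine orderOf_of_rep rep_y 5 (by norm_num) (by decide +kernel) ?_
  intro p hp hpn
  have hle : p ≤ 5 := Nat.le_of_dvd (by norm_num) hpn
  interval_cases p
  · exact absurd hp (by decide)
  · exact absurd hp (by decide)
  · exact absurd hpn (by decide)
  · exact absurd hpn (by decide)
  · exact absurd hpn (by decide)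
  · decide +kernel

theorem exists_order_six : ∃ z : ↥Cfsg.Spor.J1, orderOf z = 6 := by
  refine orderOf_of_rep (rep_x.mul (rep_y.pow 3)) 6 (by norm_num) (by decide +kernel) ?_
  intro p hp hpn
  have hle : p ≤ 6 := Nat.le_of_dvd (by norm_num) hpn
  interval_cases p
  · exact absurd hp (by decide)
  · exact absurd hp (by decide)
  · decide +kernel
  · decide +kernel
  · exact absurd hpn (by decide)
  · exact absurd hpn (by decide)
  · exact absurd hp (by decide)

theorem exists_order_seven : ∃ z : ↥Cfsg.Spor.J1, orderOf z = 7 := by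
  refine orderOf_of_rep rep_x 7 (by norm_num) (by decide +kernel) ?_
  intro p hp hpn
  rcases (Nat.dvd_prime (by norm_num : Nat.Prime 7)).1 hpn with rfl | rfl
  · exact absurd hp (by decide)
  · decide +kernel

theorem exists_order_ten : ∃ z : ↥Cfsg.Spor.J1, orderOf z = 10 := by
  refine orderOf_of_rep (rep_x.mul rep_y) 10 (by norm_num) (by decide +kernel) ?_
  intro p hp hpn
  have hle : p ≤ 10 := Nat.le_of_dvd (by norm_num) hpn
  interval_cases p
  · exact absurd hp (by decide)
  · exact absurd hp (by decide)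
  · decide +kernel
  · exact absurd hpn (by decide)
  · exact absurd hpn (by decide)
  · decide +kernel
  · exact absurd hpn (by decide)
  · exact absurd hpn (by decide)
  · exact absurd hpn (by decide)
  · exact absurd hpn (by decide)
  · exact absurd hp (by decide)

theorem exists_order_eleven : ∃ z : ↥Cfsg.Spor.J1, orderOf z = 11 := by
  refine orderOf_of_rep rep_w11 11 (by norm_num) (by decide +kernel) ?_
  intro p hp hpn
  rcases (Nat.dvd_prime (by norm_num : Nat.Prime 11)).1 hpn with rfl | rfl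
  · exact absurd hp (by decide)
  · decide +kernel

/-- The word `x x y y x y x y y` of order `15`. -/
theorem rep_w15 : Rep (jankoX * jankoX * jankoY * jankoY * jankoX * jankoY * jankoX * jankoY * jankoY)
    (mulE (mulE (mulE (mulE (mulE (mulE (mulE (mulE xE xE) yE) yE) xE) yE) xE) yE) yE) :=
  (((((((rep_x.mul rep_x).mul rep_y).mul rep_y).mul rep_x).mul rep_y).mul rep_x).mul rep_y).mul rep_y

theorem exists_order_fifteen : ∃ z : ↥Cfsg.Spor.J1, orderOf z = 15 := by
  refine orderOf_of_rep rep_w15 15 (by norm_num) (by decide +kernel) ?_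
  intro p hp hpn
  have hle : p ≤ 15 := Nat.le_of_dvd (by norm_num) hpn
  interval_cases p
  · exact absurd hp (by decide)
  · exact absurd hp (by decide)
  · exact absurd hpn (by decide)
  · decide +kernel
  · exact absurd hpn (by decide)
  · decide +kernel
  · exact absurd hpn (by decide)
  · exact absurd hpn (by decide)
  · exact absurd hpn (by decide)
  · exact absurd hpn (by decide)
  · exact absurd hpn (by decide)
  · exact absurd hpn (by decide)
  · exact absurd hpn (by decide)
  · exact absurd hpn (by decide)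
  · exact absurd hpn (by decide)
  · exact absurd hp (by decide)

theorem exists_order_nineteen : ∃ z : ↥Cfsg.Spor.J1, orderOf z = 19 := by
  refine orderOf_of_rep rep_w19 19 (by norm_num) (by decide +kernel) ?_
  intro p hp hpn
  rcases (Nat.dvd_prime (by norm_num : Nat.Prime 19)).1 hpn with rfl | rfl
  · exact absurd hp (by decide)
  · decide +kernel

/-- **The spectrum of `J₁`.** -/
theorem range_orderOf :
    Set.range (orderOf : ↥Cfsg.Spor.J1 → ℕ) = {n | n ∈ specList} := by
  ext n
  constructor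
  · rintro ⟨g, rfl⟩
    exact orderOf_mem g
  · intro hn
    have hn : n ∈ specList := hn
    simp only [specList, List.mem_cons, List.not_mem_nil, or_false] at hn
    rcases hn with rfl | rfl | rfl | rfl | rfl | rfl | rfl | rfl | rfl | rfl
    · exact ⟨1, orderOf_one⟩
    · exact exists_order_two
    · exact exists_order_three
    · exact exists_order_five
    · exact exists_order_six
    · exact exists_order_seven
    · exact exists_order_ten
    · exact exists_order_eleven
    · exact exists_order_fifteen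
    · exact exists_order_nineteen

end Cfsg.Agent.Helper35.J1Spec
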