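import Cfsg.Agent.Lib.Helper72.J1Order

/-!
# Data for the element orders of the Janko group `J₁ = ⟨X, Y⟩ ≤ GL₇(11)`

Built on helper72's encoded arithmetic (`mulE`, `dec`) and transversals `T1`, `T2`, `T3`
(`G = T1 · T2 · T3`, `L2 = T2 · T3` of order `660`).

* `DC`: for every `k < 266` a certificate `T1[k] = h₁ * T1[r] * h₂` with `h₁, h₂ ∈ L2` and `r` one of the five
  double coset representatives `0, 1, 2, 8, 31`.
* `ordOK`: some power `e ^ o`, `o ∈ {1, 2, 3, 5, 6, 7, 10, 11, 15, 19}`, of the encoded matrix is the identity;
  checked for the `5 * 660` elements `T1[r] * l`, `l ∈ L2`.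
-/

set_option autoImplicit false

namespace Cfsg.Agent.Helper35.J1Spec

open Cfsg.Agent.Helper72.J1

/-- The five double coset representatives (indices into `T1`). -/
def REPS : List ℕ := [0, 1, 2, 8, 31]

/-- Double coset certificates: `(((i * 12 + a₁) * 55 + m₁) * 12 + a₂) * 55 + m₂`. -/
def DC : List ℕ := [
  0, 435600, 871200, 534601, 1189765, 957736, 617215, 1036547, 1306800, 917193, 893106, 464384, 927514, 470580,
  1113129, 900413, 1298348, 449393, 894670, 940482, 436260, 498301, 1343278, 860473, 949768, 938838, 871860, 921436,
  508848, 946285, 911448, 1742400, 643501, 983087, 1061625, 754947, 897658, 996132, 958660, 1294892, 910585, 1040283,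
  1111935, 502429, 572105, 1743675, 1598887, 977257, 467024, 439900, 690059, 679509, 1145447, 1289352, 1177605, 444670,
  1146792, 909030, 1307460, 1140035, 1011744, 1815556, 1049090, 472526, 1089516, 962663, 1033895, 501715, 1128815, 1225300,
  926529, 877926, 889749, 1526490, 1226408, 913506, 561706, 460424, 1707738, 825296, 1049617, 883136, 1383501, 465264,
  1135021, 488815, 766753, 874778, 995215, 880402, 994088, 1097706, 1780351, 1925660, 885397, 452575, 1779066, 599714,
  1216763, 952725, 453745, 1131264, 1058967, 928310, 976782, 888418, 447446, 437016, 1380947, 653670, 922360, 891344,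
  784182, 711964, 786346, 1035238, 1851867, 1144200, 1200031, 1123389, 886100, 1241454, 1000626, 1002598, 664373, 493969,
  495906, 1055182, 1122663, 1744338, 1237475, 924984, 564384, 491533, 844113, 825732, 476007, 1816873, 669888, 1103170,
  899515, 978404, 459667, 788701, 706780, 497310, 1235611, 1282511, 881051, 1745735, 1303464, 713894, 1236330, 500836,
  912059, 693073, 1178540, 998894, 490784, 1298973, 1287277, 454374, 542102, 919470, 898329, 1299913, 526835, 481795,
  1171341, 1012935, 1022455, 1080100, 1095274, 607085, 934733, 1180195, 1268673, 451634, 1882469, 828374, 1308582, 1453498,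
  718525, 521908, 644508, 733619, 1310562, 802929, 1144897, 951731, 564071, 607436, 1255030, 563339, 558651, 1185521,
  853767, 875522, 1251943, 553714, 492167, 1168171, 1344500, 641264, 462086, 573210, 463239, 1276559, 708223, 465961,
  1242892, 1033016, 819393, 467408, 1181732, 445165, 537025, 1153462, 637877, 967665, 1142309, 465751, 907847, 1291342,
  454840, 504265, 1167061, 443555, 485879, 575312, 889651, 819981, 873141, 473764, 971170, 991994, 1087102, 594955,
  439529, 986319, 1270153, 1061184, 1179314, 450988, 449470, 499109, 468031, 1081967, 1044366, 758960, 470089, 1019148,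
  456760, 863457, 662428, 944414, 662742, 609258, 976049, 610839, 460935, 560313, 1097568, 841990, 459351, 493244]

/-- The element `T2[a] * T3[m]` of `L2`, encoded. -/
def l2E (a m : ℕ) : ℕ := mulE (T2.getD a 0) (T3.getD m 0)

/-- Check of the `k`-th double coset certificate. -/
def chkDC (k : ℕ) : Bool :=
  (fun c =>
    decide (c / 435600 < 5) &&
      (mulE (mulE (l2E (c / 36300 % 12) (c / 660 % 55)) (T1.getD (REPS.getD (c / 435600) 0) 0))
        (l2E (c / 55 % 12) (c % 55)) == T1.getD k 0)) (DC.getD k 0)

set_option maxHeartbeats 0 in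
set_option maxRecDepth 100000 in
theorem allDC : (List.range 266).all chkDC = true := by decide +kernel

/-- Order test: some power `e ^ o`, `o ∈ {1, 2, 3, 5, 6, 7, 10, 11, 15, 19}`, is the identity. -/
def ordOK (e : ℕ) : Bool :=
  (e == idE) ||
  (fun e2 => (e2 == idE) ||
    (fun e3 => (e3 == idE) ||
      (fun e5 => (e5 == idE) || (mulE e3 e3 == idE) || (mulE e5 e2 == idE) ||
        (fun e10 => (e10 == idE) || (mulE e10 e == idE) ||
          (fun e15 => (e15 == idE) || (mulE (mulE e15 e3) e == idE)) (mulE e10 e5)) (mulE e5 e5))
      (mulE e3 e2)) (mulE e2 e)) (mulE e e)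

/-- All elements `T1[r] * l`, `l ∈ L2`, pass the order test. -/
def chkOrd (r : ℕ) : Bool :=
  (List.range 12).all fun a => (List.range 55).all fun m =>
    ordOK (mulE (T1.getD r 0) (l2E a m))

set_option maxHeartbeats 0 in
set_option maxRecDepth 100000 in
theorem allOrd0 : chkOrd 0 = true := by decide +kernel

set_option maxHeartbeats 0 in
set_option maxRecDepth 100000 in
theorem allOrd1 : chkOrd 1 = true := by decide +kernel

set_option maxHeartbeats 0 in
set_option maxRecDepth 100000 in
theorem allOrd2 : chkOrd 2 = true := by decide +kernel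

set_option maxHeartbeats 0 in
set_option maxRecDepth 100000 in
theorem allOrd8 : chkOrd 8 = true := by decide +kernel

set_option maxHeartbeats 0 in
set_option maxRecDepth 100000 in
theorem allOrd31 : chkOrd 31 = true := by decide +kernel

end Cfsg.Agent.Helper35.J1Spec
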