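import Mathlib
import Cfsg.Agent.Lib.Helper79.JPCE0
import Cfsg.Agent.Lib.Helper41.JPCCS
import Cfsg.Agent.Lib.Helper70.JPCE1
import Cfsg.Agent.Lib.Helper70.JPCE2
import Cfsg.Agent.Lib.Helper79.JPCGEN
import Cfsg.Agent.Lib.Helper79.JPCM6
import Cfsg.Agent.Lib.Helper79.JPCT13
import Cfsg.Agent.Lib.Helper77.JPCT7

set_option autoImplicit false

/-!
# S4150: the engine

Let `p < q` be primes with `m ≤ 2p`, `q ≤ m`.  For `x, y ∈ A_m` of orders `p, q`: `y` is a `q`-cycle,
`x` is a `p`-cycle or (`m = 2p`) a product of two `p`-cycles.  Restricting to `supp x ∪ supp y`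
(`d` points) the group `⟨x, y⟩` contains `A_d` by Jordan's prime-cycle theorem (pieces of the JPC
lemma server, see `tools/jpc_sigs_helper35.lean.txt`), except in a few small twin-prime cases
treated separately (degrees 7 and 13, and `m = 6`).
-/

namespace Cfsg.Agent.Helper35.JPC

open Equiv Equiv.Perm MulAction Subgroup

theorem isCycle_of_cycleType_singleton {β : Type*} [Fintype β] [DecidableEq β] {σ : Perm β} {n : ℕ}
    (h : σ.cycleType = {n}) : σ.IsCycle ∧ σ.support.card = n := by
  constructor
  · rw [← card_cycleType_eq_one, h]; rfl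
  · rw [← sum_cycleType, h]; simp

theorem mem_alt_of_cycleType_eq {α β : Type*} [Fintype α] [DecidableEq α] [Fintype β]
    [DecidableEq β] {σ : Perm α} {τ : Perm β} (h : τ.cycleType = σ.cycleType)
    (hσ : σ ∈ alternatingGroup α) : τ ∈ alternatingGroup β := by
  rw [mem_alternatingGroup] at hσ ⊢
  rw [sign_of_cycleType] at hσ ⊢
  rw [h]; exact hσ

theorem engine (m p q : ℕ) (hm : 5 ≤ m) (hp : p.Prime) (hq : q.Prime) (hm2p : m ≤ 2 * p)
    (hpq : p < q) (hqm : q ≤ m)
    (h1 : p = 3 ∨ p + 4 ≤ q ∨ (p = 5 ∧ q = 7) ∨ (p = 11 ∧ q = 13))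
    (h2 : m = 2 * p → q + 3 ≤ m ∨ m = 6)
    (x y : alternatingGroup (Fin m)) (hx : orderOf x = p) (hy : orderOf y = q) :
    ∃ d : ℕ, 5 ≤ d ∧ Nonempty (closure ({x, y} : Set (alternatingGroup (Fin m))) ≃*
      alternatingGroup (Fin d)) := by
  have hp3 : 3 ≤ p := by omega
  have hq5 : 5 ≤ q := by
    have h4 : 4 ≤ q := by omega
    rcases Nat.lt_or_ge q 5 with h | h
    · have : q = 4 := by omega
      subst this
      exact absurd hq (by norm_num)
    · exact h
  set X : Perm (Fin m) := (x : Perm (Fin m)) with hXdef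
  set Y : Perm (Fin m) := (y : Perm (Fin m)) with hYdef
  have hXo : orderOf X = p := by rw [hXdef, Subgroup.orderOf_coe]; exact hx
  have hYo : orderOf Y = q := by rw [hYdef, Subgroup.orderOf_coe]; exact hy
  have hXalt : X ∈ alternatingGroup (Fin m) := x.2
  have hYalt : Y ∈ alternatingGroup (Fin m) := y.2
  obtain ⟨e0⟩ := Cfsg.Agent.Helper79.JPC.closure_alt_equiv x y
  have hcardm : Fintype.card (Fin m) = m := Fintype.card_fin m
  -- cycle type of Y
  have hYct : Y.cycleType = {q} := by
    rcases Cfsg.Agent.Helper41.JPC.cycleType_of_prime_order hq hYo (by rw [hcardm]; omega)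
      with h | ⟨h, _⟩
    · exact h
    · rw [hcardm] at h; omega
  obtain ⟨hYc, hYs⟩ := isCycle_of_cycleType_singleton hYct
  obtain ⟨X', Y', hX'ct, hY'ct, hun, hdisj, ⟨e1⟩⟩ := Cfsg.Agent.Helper70.JPC.restrict_pair X Y
  have hY'ct' : Y'.cycleType = {q} := by rw [hY'ct, hYct]
  obtain ⟨hY'c, hY's⟩ := isCycle_of_cycleType_singleton hY'ct'
  have hX'alt : X' ∈ alternatingGroup _ := mem_alt_of_cycleType_eq hX'ct hXalt
  have hY'alt : Y' ∈ alternatingGroup _ := mem_alt_of_cycleType_eq hY'ct hYalt
  have hdcard : Fintype.card {a // a ∈ X.support ∪ Y.support} = (X.support ∪ Y.support).card :=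
    Fintype.card_coe _
  have hdle : (X.support ∪ Y.support).card ≤ m := by
    have := Finset.card_le_univ (X.support ∪ Y.support)
    rwa [hcardm] at this
  have hqd : q ≤ (X.support ∪ Y.support).card := by
    rw [← hYs]; exact Finset.card_le_card Finset.subset_union_right
  -- finishing lemma
  have finish : alternatingGroup {a // a ∈ X.support ∪ Y.support} ≤
      closure ({X', Y'} : Set (Perm _)) →
      ∃ d : ℕ, 5 ≤ d ∧ Nonempty (closure ({x, y} : Set (alternatingGroup (Fin m))) ≃*
        alternatingGroup (Fin d)) := by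
    intro hle
    obtain ⟨e2⟩ := Cfsg.Agent.Helper70.JPC.equiv_alt_of_alt_le hX'alt hY'alt hle
    exact ⟨_, by rw [hdcard]; omega, ⟨(e0.trans e1).trans e2⟩⟩
  rcases Cfsg.Agent.Helper41.JPC.cycleType_of_prime_order hp hXo (by rw [hcardm]; exact hm2p)
    with hXct | ⟨hm2, hXct⟩
  · -- Case 1: X is a p-cycle
    obtain ⟨hXc, hXs⟩ := isCycle_of_cycleType_singleton hXct
    have hX'ct' : X'.cycleType = {p} := by rw [hX'ct, hXct]
    obtain ⟨hX'c, hX's⟩ := isCycle_of_cycleType_singleton hX'ct'
    have hmeet : ¬ Disjoint X'.support Y'.support := by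
      intro hd
      have hd' := hdisj hd
      have := Finset.card_union_of_disjoint hd'
      rw [hXs, hYs] at this
      omega
    have hlt : Fintype.card {a // a ∈ X.support ∪ Y.support} < 2 * q := by
      rw [hdcard]; omega
    apply finish
    rcases h1 with h | h | ⟨h5, h7⟩ | ⟨h11, h13⟩
    · exact Cfsg.Agent.Helper79.JPC.alt_le_closure_of_cycles hp hq hX'c hX's hY'c hY's hun hmeet
        hlt (Or.inl h)
    · exact Cfsg.Agent.Helper79.JPC.alt_le_closure_of_cycles hp hq hX'c hX's hY'c hY's hun hmeet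
        hlt (Or.inr (by rw [hdcard]; omega))
    · subst h5; subst h7
      rcases Nat.lt_or_ge (X.support ∪ Y.support).card 8 with h8 | h8
      · have h7 : Fintype.card {a // a ∈ X.support ∪ Y.support} = 7 := by rw [hdcard]; omega
        exact Cfsg.Agent.Helper77.JPC.alt_le_closure_seven h7 hX'c hX's hY'c hY's
      · exact Cfsg.Agent.Helper79.JPC.alt_le_closure_of_cycles hp hq hX'c hX's hY'c hY's hun
          hmeet hlt (Or.inr (by rw [hdcard]; omega))
    · subst h11; subst h13
      rcases Nat.lt_or_ge (X.support ∪ Y.support).card 14 with h14 | h14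
      · have h13 : Fintype.card {a // a ∈ X.support ∪ Y.support} = 13 := by rw [hdcard]; omega
        exact Cfsg.Agent.Helper79.JPC.alt_le_closure_thirteen h13 hX'c hX's hY'c hY's
      · exact Cfsg.Agent.Helper79.JPC.alt_le_closure_of_cycles hp hq hX'c hX's hY'c hY's hun
          hmeet hlt (Or.inr (by rw [hdcard]; omega))
  · -- Case 2: m = 2p, X is a product of two p-cycles
    rw [hcardm] at hm2
    have hX'ct' : X'.cycleType = {p, p} := by rw [hX'ct, hXct]
    have hXsupp : X.support.card = m := by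
      rw [← sum_cycleType, hXct]
      simp only [Multiset.insert_eq_cons, Multiset.sum_cons, Multiset.sum_singleton]
      omega
    have hcardβ : Fintype.card {a // a ∈ X.support ∪ Y.support} = 2 * p := by
      rw [hdcard]
      have : X.support.card ≤ (X.support ∪ Y.support).card :=
        Finset.card_le_card Finset.subset_union_left
      omega
    rcases h2 hm2 with h | h
    · apply finish
      exact Cfsg.Agent.Helper79.JPC.alt_le_closure_of_double hp hq hX'ct' hcardβ hY'c hY's hpq
        (by omega)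
    · -- m = 6
      have hp3' : p = 3 := by omega
      subst hp3'
      have hq5' : q = 5 := by
        have : q ≤ 6 := by omega
        interval_cases q
        · rfl
        · exact absurd hq (by norm_num)
      subst hq5'
      have h6 : Fintype.card {a // a ∈ X.support ∪ Y.support} = 6 := by rw [hcardβ]
      rcases Cfsg.Agent.Helper79.JPC.closure_six h6 hX'ct' hY'c hY's with ⟨⟨e2⟩⟩ | ⟨⟨e2⟩⟩
      · exact ⟨5, le_refl _, ⟨(e0.trans e1).trans e2⟩⟩
      · exact ⟨6, by norm_num, ⟨(e0.trans e1).trans e2⟩⟩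

end Cfsg.Agent.Helper35.JPC
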