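import Mathlib

set_option autoImplicit false
open Finset

namespace Cfsg.Agent.Helper35.NormPair

variable {F : Type*} [Field F] [Fintype F] [DecidableEq F]

/-- the set of `n`-th roots of unity -/
def rootsU (F : Type*) [Field F] [Fintype F] [DecidableEq F] (n : ℕ) : Finset F :=
  univ.filter (fun x : F => x ^ n = 1)

theorem mem_rootsU {n : ℕ} {x : F} : x ∈ rootsU F n ↔ x ^ n = 1 := by
  simp [rootsU]

theorem rootsU_ne_zero {n : ℕ} (hn : n ≠ 0) {x : F} (hx : x ∈ rootsU F n) : x ≠ 0 := by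
  rintro rfl
  rw [mem_rootsU, zero_pow hn] at hx
  exact zero_ne_one hx

theorem rootsU_mul {n : ℕ} {x y : F} (hx : x ∈ rootsU F n) (hy : y ∈ rootsU F n) :
    x * y ∈ rootsU F n := by
  rw [mem_rootsU] at *
  rw [mul_pow, hx, hy, one_mul]

theorem rootsU_inv {n : ℕ} {x : F} (hx : x ∈ rootsU F n) : x⁻¹ ∈ rootsU F n := by
  rw [mem_rootsU] at *
  rw [inv_pow, hx, inv_one]

/-- the character sum over `U` -/
noncomputable def cs (ψ : AddChar F ℂ) (n : ℕ) (y : F) : ℂ := ∑ u ∈ rootsU F n, ψ (y * u)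

theorem cs_zero (ψ : AddChar F ℂ) (n : ℕ) : cs ψ n 0 = ((rootsU F n).card : ℂ) := by
  simp [cs]

theorem cs_mul (ψ : AddChar F ℂ) {n : ℕ} (hn : n ≠ 0) (y : F) {w : F} (hw : w ∈ rootsU F n) :
    cs ψ n (y * w) = cs ψ n y := by
  unfold cs
  refine Finset.sum_nbij' (fun u => w * u) (fun u => w⁻¹ * u) ?_ ?_ ?_ ?_ ?_
  · intro u hu; exact rootsU_mul hw hu
  · intro u hu; exact rootsU_mul (rootsU_inv hw) hu
  · intro u _; field_simp [rootsU_ne_zero hn hw]
  · intro u _; field_simp [rootsU_ne_zero hn hw]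
  · intro u _; rw [mul_assoc]

/-- number of representations `a + b = c` with `a, b ∈ U`. -/
def reps (F : Type*) [Field F] [Fintype F] [DecidableEq F] (n : ℕ) (c : F) : ℕ :=
  (((rootsU F n) ×ˢ (rootsU F n)).filter (fun ab => ab.1 + ab.2 = c)).card

theorem sum_cs_sq {ψ : AddChar F ℂ} (hψ : ψ.IsPrimitive) (n : ℕ) (c : F) :
    ∑ y, cs ψ n y * cs ψ n y * ψ (-(y * c)) = (Fintype.card F : ℂ) * (reps F n c : ℂ) := by
  unfold cs reps
  have h1 : ∀ y : F, (∑ u ∈ rootsU F n, ψ (y * u)) * (∑ u ∈ rootsU F n, ψ (y * u)) * ψ (-(y * c))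
      = ∑ ab ∈ (rootsU F n) ×ˢ (rootsU F n), ψ (y * (ab.1 + ab.2 - c)) := by
    intro y
    rw [Finset.sum_mul_sum, Finset.sum_product, Finset.sum_mul]
    refine Finset.sum_congr rfl fun a _ => ?_
    rw [Finset.sum_mul]
    refine Finset.sum_congr rfl fun b _ => ?_
    rw [← AddChar.map_add_eq_mul, ← AddChar.map_add_eq_mul]
    congr 1; ring
  simp_rw [h1]
  rw [Finset.sum_comm]
  have h2 : ∀ ab : F × F, ∑ y, ψ (y * (ab.1 + ab.2 - c)) =
      if ab.1 + ab.2 = c then (Fintype.card F : ℂ) else 0 := by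
    intro ab
    rw [AddChar.sum_mulShift _ hψ]
    simp only [sub_eq_zero]
    split_ifs <;> simp
  simp_rw [h2]
  rw [Finset.sum_ite, Finset.sum_const_zero, add_zero, Finset.sum_const, nsmul_eq_mul, mul_comm]

theorem sum_normSq {ψ : AddChar F ℂ} (hψ : ψ.IsPrimitive) (n : ℕ) :
    ∑ y, ‖cs ψ n y‖ ^ 2 = (Fintype.card F : ℝ) * ((rootsU F n).card : ℝ) := by
  have h0 : ∀ y : F, ((‖cs ψ n y‖ ^ 2 : ℝ) : ℂ) = cs ψ n y * (starRingEnd ℂ) (cs ψ n y) := by
    intro y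
    rw [Complex.mul_conj, Complex.normSq_eq_norm_sq]
  apply Complex.ofReal_injective
  rw [Complex.ofReal_sum]
  simp_rw [h0]
  rw [Complex.ofReal_mul, Complex.ofReal_natCast, Complex.ofReal_natCast]
  unfold cs
  have h1 : ∀ y : F, (∑ u ∈ rootsU F n, ψ (y * u)) * (starRingEnd ℂ) (∑ u ∈ rootsU F n, ψ (y * u))
      = ∑ ab ∈ (rootsU F n) ×ˢ (rootsU F n), ψ (y * (ab.1 - ab.2)) := by
    intro y
    rw [map_sum, Finset.sum_mul_sum, Finset.sum_product]
    refine Finset.sum_congr rfl fun a _ => ?_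
    refine Finset.sum_congr rfl fun b _ => ?_
    rw [← AddChar.map_neg_eq_conj, ← AddChar.map_add_eq_mul]
    congr 1; ring
  simp_rw [h1]
  rw [Finset.sum_comm]
  have h2 : ∀ ab : F × F, ∑ y, ψ (y * (ab.1 - ab.2)) =
      if ab.1 = ab.2 then (Fintype.card F : ℂ) else 0 := by
    intro ab
    rw [AddChar.sum_mulShift _ hψ]
    simp only [sub_eq_zero]
    split_ifs <;> simp
  simp_rw [h2]
  rw [Finset.sum_ite, Finset.sum_const_zero, add_zero, Finset.sum_const, nsmul_eq_mul, mul_comm]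
  congr 2
  -- card of diagonal
  rw [show ((rootsU F n) ×ˢ (rootsU F n)).filter (fun ab => ab.1 = ab.2) = (rootsU F n).image (fun a => (a, a)) from ?_]
  · rw [Finset.card_image_of_injective]
    intro a b h
    exact (Prod.mk.inj h).1
  · ext ⟨a, b⟩
    simp only [mem_filter, mem_product, mem_image, Prod.mk.injEq]
    constructor
    · rintro ⟨⟨ha, _⟩, rfl⟩
      exact ⟨a, ha, rfl, rfl⟩
    · rintro ⟨x, hx, rfl, rfl⟩
      exact ⟨⟨hx, hx⟩, rfl⟩

end Cfsg.Agent.Helper35.NormPair
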