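import Mathlib
import Cfsg.Agent.Lib.Helper35.NormPairA

set_option autoImplicit false
open Finset

namespace Cfsg.Agent.Helper35.NormPair

variable {F : Type*} [Field F] [Fintype F] [DecidableEq F]

theorem cs_norm_bound {ψ : AddChar F ℂ} (hψ : ψ.IsPrimitive) {n : ℕ} (hn : n ≠ 0) {y0 : F}
    (hy0 : y0 ≠ 0) :
    ((rootsU F n).card : ℝ) * ‖cs ψ n y0‖ ^ 2 + ((rootsU F n).card : ℝ) ^ 2 ≤
      (Fintype.card F : ℝ) * ((rootsU F n).card : ℝ) := by
  rw [← sum_normSq hψ n]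
  have hsub : insert (0:F) ((rootsU F n).image (fun u => y0 * u)) ⊆ (univ : Finset F) :=
    subset_univ _
  refine le_trans ?_ (Finset.sum_le_sum_of_subset_of_nonneg hsub (fun y _ _ => by positivity))
  rw [Finset.sum_insert, Finset.sum_image]
  · rw [cs_zero]
    have : ∀ u ∈ rootsU F n, ‖cs ψ n (y0 * u)‖ ^ 2 = ‖cs ψ n y0‖ ^ 2 := by
      intro u hu; rw [cs_mul ψ hn y0 hu]
    rw [Finset.sum_congr rfl this, Finset.sum_const, nsmul_eq_mul, Complex.norm_natCast]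
    linarith
  · intro a _ b _ h; exact mul_left_cancel₀ hy0 h
  · simp only [mem_image, not_exists, not_and]
    intro u hu h
    exact (mul_ne_zero hy0 (rootsU_ne_zero hn hu)) h

/-- the sum over nonzero frequencies -/
noncomputable def T (ψ : AddChar F ℂ) (n : ℕ) (c : F) : ℂ :=
  ∑ y ∈ (univ : Finset F).erase 0, cs ψ n y * cs ψ n y * ψ (-(y * c))

theorem T_eq {ψ : AddChar F ℂ} (hψ : ψ.IsPrimitive) (n : ℕ) (c : F) :
    T ψ n c = (Fintype.card F : ℂ) * (reps F n c : ℂ) - ((rootsU F n).card : ℂ) ^ 2 := by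
  unfold T
  rw [← sum_cs_sq hψ n c, ← Finset.add_sum_erase univ _ (mem_univ (0:F))]
  rw [cs_zero]
  simp
  ring

theorem card_mul_T (ψ : AddChar F ℂ) {n : ℕ} (hn : n ≠ 0) (c : F) :
    ((rootsU F n).card : ℂ) * T ψ n c =
      ∑ y ∈ (univ : Finset F).erase 0, cs ψ n y * cs ψ n y * cs ψ n (-(y * c)) := by
  have h1 : ∀ w ∈ rootsU F n, T ψ n c =
      ∑ y ∈ (univ : Finset F).erase 0, cs ψ n y * cs ψ n y * ψ (-(y * c) * w) := by
    intro w hw
    unfold T
    have hw0 := rootsU_ne_zero hn hw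
    symm
    refine Finset.sum_nbij' (fun y => y * w) (fun y => y * w⁻¹) ?_ ?_ ?_ ?_ ?_
    · intro y hy
      simp only [mem_erase, mem_univ, and_true, ne_eq] at hy ⊢
      exact mul_ne_zero hy hw0
    · intro y hy
      simp only [mem_erase, mem_univ, and_true, ne_eq] at hy ⊢
      exact mul_ne_zero hy (inv_ne_zero hw0)
    · intro y _; field_simp
    · intro y _; field_simp
    · intro y _
      rw [cs_mul ψ hn y hw]
      congr 2; ring
  calc ((rootsU F n).card : ℂ) * T ψ n c = ∑ w ∈ rootsU F n, T ψ n c := by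
        rw [Finset.sum_const, nsmul_eq_mul]
    _ = ∑ w ∈ rootsU F n, ∑ y ∈ (univ : Finset F).erase 0,
          cs ψ n y * cs ψ n y * ψ (-(y * c) * w) :=
        Finset.sum_congr rfl h1
    _ = _ := by
        rw [Finset.sum_comm]
        refine Finset.sum_congr rfl fun y _ => ?_
        rw [← Finset.mul_sum]
        rfl

theorem main_bound {ψ : AddChar F ℂ} (hψ : ψ.IsPrimitive) {n : ℕ} (hn : n ≠ 0) {c : F}
    (hc : c ≠ 0) :
    ((Fintype.card F : ℝ) * (reps F n c : ℝ) - ((rootsU F n).card : ℝ) ^ 2) ^ 2 ≤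
      ((Fintype.card F : ℝ) - ((rootsU F n).card : ℝ)) ^ 3 := by
  set N : ℝ := ((rootsU F n).card : ℝ) with hN
  set Q : ℝ := (Fintype.card F : ℝ) with hQ
  have hNpos : 0 < N := by
    rw [hN]; exact_mod_cast Finset.card_pos.mpr ⟨1, mem_rootsU.mpr (one_pow n)⟩
  have hb : ∀ y : F, y ≠ 0 → ‖cs ψ n y‖ ^ 2 ≤ Q - N := by
    intro y hy
    have := cs_norm_bound hψ hn hy
    rw [← hN, ← hQ] at this
    have h2 : N * ‖cs ψ n y‖ ^ 2 ≤ N * (Q - N) := by nlinarith
    exact le_of_mul_le_mul_left h2 hNpos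
  have hQN : 0 ≤ Q - N := le_trans (by positivity) (hb 1 one_ne_zero)
  set B : ℝ := Real.sqrt (Q - N) with hB
  have hb' : ∀ y : F, y ≠ 0 → ‖cs ψ n y‖ ≤ B := by
    intro y hy
    exact Real.le_sqrt_of_sq_le (hb y hy)
  have hsum : ∑ y ∈ (univ : Finset F).erase 0, ‖cs ψ n y‖ ^ 2 = Q * N - N ^ 2 := by
    have := sum_normSq hψ n
    rw [← Finset.add_sum_erase univ _ (mem_univ (0:F)), cs_zero, Complex.norm_natCast] at this
    rw [← hN, ← hQ] at this
    linarith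
  have hT : ‖((rootsU F n).card : ℂ) * T ψ n c‖ ≤ B * (Q * N - N ^ 2) := by
    rw [card_mul_T ψ hn c, ← hsum, Finset.mul_sum]
    refine le_trans (norm_sum_le _ _) (Finset.sum_le_sum fun y hy => ?_)
    have hy0 : y ≠ 0 := (Finset.mem_erase.mp hy).1
    rw [norm_mul, norm_mul, ← sq, mul_comm]
    exact mul_le_mul_of_nonneg_right (hb' _ (neg_ne_zero.mpr (mul_ne_zero hy0 hc)))
      (by positivity)
  have hTr : T ψ n c = ((Q * (reps F n c : ℝ) - N ^ 2 : ℝ) : ℂ) := by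
    rw [T_eq hψ]; push_cast; rfl
  rw [hTr, norm_mul, Complex.norm_natCast, Complex.norm_real, Real.norm_eq_abs] at hT
  have h3 : |Q * (reps F n c : ℝ) - N ^ 2| ≤ B * (Q - N) := by
    have : N * |Q * (reps F n c : ℝ) - N ^ 2| ≤ N * (B * (Q - N)) := by
      calc _ ≤ B * (Q * N - N ^ 2) := hT
        _ = N * (B * (Q - N)) := by ring
    exact le_of_mul_le_mul_left this hNpos
  have hB2 : B ^ 2 = Q - N := Real.sq_sqrt hQN
  calc (Q * (reps F n c : ℝ) - N ^ 2) ^ 2 = |Q * (reps F n c : ℝ) - N ^ 2| ^ 2 := (sq_abs _).symm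
    _ ≤ (B * (Q - N)) ^ 2 := pow_le_pow_left₀ (abs_nonneg _) h3 2
    _ = (Q - N) ^ 3 := by rw [mul_pow, hB2]; ring

end Cfsg.Agent.Helper35.NormPair
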