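import Mathlib
import Cfsg.Agent.Lib.Helper35.NormPairB

set_option autoImplicit false
open Finset

namespace Cfsg.Agent.Helper35.NormPair

theorem exists_primitive (p : ℕ) [Fact p.Prime] (F : Type*) [Field F] [Fintype F]
    [Algebra (ZMod p) F] : ∃ ψ : AddChar F ℂ, ψ.IsPrimitive := by
  let ψ' : AddChar F ℂ :=
    (ZMod.stdAddChar (N := p)).compAddMonoidHom (Algebra.trace (ZMod p) F).toAddMonoidHom
  refine ⟨ψ', AddChar.IsPrimitive.of_ne_one ?_⟩
  obtain ⟨a, ha⟩ := Algebra.trace_surjective (ZMod p) F 1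
  rw [AddChar.ne_one_iff]
  refine ⟨a, ?_⟩
  show ZMod.stdAddChar (Algebra.trace (ZMod p) F a) ≠ 1
  rw [ha]
  intro h
  have h2 : (ZMod.stdAddChar (N := p)) 1 = ZMod.stdAddChar (0 : ZMod p) := by
    rw [h, AddChar.map_zero_eq_one]
  exact one_ne_zero (ZMod.injective_stdAddChar h2)

variable {F : Type*} [Field F] [Fintype F] [DecidableEq F]

theorem card_rootsU_ge (p q : ℕ) [Fact p.Prime] (hF : Fintype.card F = p ^ q) :
    p ^ q - 1 ≤ (p - 1) * (rootsU F ((p ^ q - 1) / (p - 1))).card := by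
  have hdvd : p - 1 ∣ p ^ q - 1 := by
    have := Nat.sub_dvd_pow_sub_pow p 1 q
    rwa [one_pow] at this
  have hcard : ((univ : Finset F).erase 0).card = p ^ q - 1 := by
    rw [Finset.card_erase_of_mem (mem_univ _), Finset.card_univ, hF]
  have hp1 : 0 < p - 1 := by
    have := (Fact.out : p.Prime).two_le; omega
  refine le_of_eq_of_le hcard.symm <| le_trans (Finset.card_le_mul_card_image (f := fun x : F => x ^ (p - 1)) _ (p - 1) ?_) ?_
  · intro a _
    have hsub : ((univ : Finset F).erase 0).filter (fun x => x ^ (p - 1) = a) ⊆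
        (Polynomial.nthRoots (p - 1) a).toFinset := by
      intro x hx
      rw [Multiset.mem_toFinset, Polynomial.mem_nthRoots hp1]
      exact (Finset.mem_filter.mp hx).2
    exact le_trans (Finset.card_le_card hsub)
      (le_trans (Multiset.toFinset_card_le _) (Polynomial.card_nthRoots _ _))
  · refine Nat.mul_le_mul_left _ (Finset.card_le_card ?_)
    intro y hy
    obtain ⟨x, hx, rfl⟩ := Finset.mem_image.mp hy
    have hx0 : x ≠ 0 := (Finset.mem_erase.mp hx).1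
    rw [mem_rootsU, ← pow_mul, Nat.mul_div_cancel' hdvd, ← hF]
    exact FiniteField.pow_card_sub_one_eq_one x hx0


theorem exists_pair_of_five_le (p q : ℕ) [Fact p.Prime] (hp : 3 ≤ p) (hq : 5 ≤ q)
    [Algebra (ZMod p) F] (hF : Fintype.card F = p ^ q) :
    ∃ a : F, a ≠ 1 ∧ a ^ ((p ^ q - 1) / (p - 1)) = 1 ∧
      (2 - a) ^ ((p ^ q - 1) / (p - 1)) = 1 := by
  set n := (p ^ q - 1) / (p - 1) with hn_def
  by_contra hcon
  push Not at hcon
  obtain ⟨ψ, hψ⟩ := exists_primitive p F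
  have hp0 : 0 < p := by omega
  have hdvd : p - 1 ∣ p ^ q - 1 := by
    have := Nat.sub_dvd_pow_sub_pow p 1 q
    rwa [one_pow] at this
  have hpq : p ≤ p ^ q := by
    calc p = p ^ 1 := (pow_one p).symm
      _ ≤ p ^ q := Nat.pow_le_pow_right hp0 (by omega)
  have hn : n ≠ 0 := by
    rw [hn_def]
    intro h
    rw [Nat.div_eq_zero_iff] at h
    omega
  haveI : CharP F p := charP_of_injective_algebraMap (algebraMap (ZMod p) F).injective p
  have h2 : (2 : F) ≠ 0 := by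
    intro h
    have h' : ((2 : ℕ) : F) = 0 := by exact_mod_cast h
    rw [CharP.cast_eq_zero_iff F p] at h'
    have := Nat.le_of_dvd (by norm_num) h'
    omega
  have key : ∀ a b : F, a ∈ rootsU F n → b ∈ rootsU F n → a + b = 2 → a = 1 ∧ b = 1 := by
    intro a b ha hb hab
    have hb' : b = 2 - a := by rw [← hab]; ring
    by_contra hne
    have ha1 : a ≠ 1 := by
      intro h; apply hne; refine ⟨h, ?_⟩; rw [hb', h]; norm_num
    have := hcon a ha1 (mem_rootsU.mp ha)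
    rw [hb'] at hb
    exact this (mem_rootsU.mp hb)
  have hreps : reps F n 2 ≤ 1 := by
    unfold reps
    rw [Finset.card_le_one]
    rintro ⟨a, b⟩ hab ⟨a', b'⟩ hab'
    rw [Finset.mem_filter, Finset.mem_product] at hab hab'
    obtain ⟨h1, h2'⟩ := key a b hab.1.1 hab.1.2 hab.2
    obtain ⟨h3, h4⟩ := key a' b' hab'.1.1 hab'.1.2 hab'.2
    rw [h1, h2', h3, h4]
  have hmain := main_bound hψ hn h2
  have hN := card_rootsU_ge (F := F) p q hF
  rw [← hn_def] at hN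
  have hNle : (rootsU F n).card ≤ Fintype.card F := Finset.card_le_univ _
  -- numerics
  set N : ℕ := (rootsU F n).card with hNdef
  set r : ℕ := reps F n 2 with hrdef
  have hp1 : 1 ≤ p := by omega
  have e1 : ((p ^ q - 1 : ℕ) : ℝ) = (p:ℝ) ^ q - 1 := by
    rw [Nat.cast_sub (Nat.one_le_pow _ _ hp0)]; push_cast; ring
  have e2 : ((p - 1 : ℕ) : ℝ) = (p:ℝ) - 1 := by
    rw [Nat.cast_sub hp1]; simp
  have hN' : (p:ℝ) ^ q - 1 ≤ ((p:ℝ) - 1) * (N:ℝ) := by
    have := (Nat.cast_le (α := ℝ)).mpr hN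
    rw [Nat.cast_mul, e1, e2] at this
    exact this
  have hQ : (Fintype.card F : ℝ) = (p:ℝ) ^ q := by rw [hF]; push_cast; ring
  rw [hQ] at hmain
  have hNle' : (N:ℝ) ≤ (p:ℝ) ^ q := by
    rw [← hQ]; exact_mod_cast hNle
  have hr' : (r:ℝ) ≤ 1 := by exact_mod_cast hreps
  have hr0 : (0:ℝ) ≤ (r:ℝ) := Nat.cast_nonneg _
  have hP : (3:ℝ) ≤ (p:ℝ) := by exact_mod_cast hp
  set P : ℝ := (p:ℝ) with hPdef
  set S : ℝ := P ^ (q - 2) with hSdef
  have eq : P ^ q = P ^ 2 * S := by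
    rw [hSdef, ← pow_add]; congr 1; omega
  have hSP : P ^ 2 ≤ S := by
    rw [hSdef]
    exact pow_le_pow_right₀ (by linarith) (by omega)
  have hS1 : 1 ≤ S := le_trans (by nlinarith) hSP
  rw [eq] at hmain hN' hNle'
  set Nr : ℝ := (N:ℝ) with hNr
  have hNS : (P + 1) * S ≤ Nr := by
    have : (P - 1) * ((P + 1) * S) ≤ (P - 1) * Nr := by nlinarith
    exact le_of_mul_le_mul_left this (by linarith)
  have hNpos : 0 < Nr := lt_of_lt_of_le (by positivity) hNS
  have hX : P ^ 2 * S ^ 2 ≤ Nr ^ 2 - P ^ 2 * S * r := by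
    have h1 : ((P + 1) * S) ^ 2 ≤ Nr ^ 2 := pow_le_pow_left₀ (by positivity) hNS 2
    have h2 : P ^ 2 * S * r ≤ P ^ 2 * S := mul_le_of_le_one_right (by positivity) hr'
    have h3 : P ^ 2 * S ≤ S ^ 2 := by nlinarith
    have h4 : S ^ 2 ≤ (2 * P + 1) * S ^ 2 := by nlinarith [sq_nonneg S]
    nlinarith
  have hX2 : (P ^ 2 * S ^ 2) ^ 2 ≤ (Nr ^ 2 - P ^ 2 * S * r) ^ 2 :=
    pow_le_pow_left₀ (by positivity) hX 2
  have hQ3 : (P ^ 2 * S) ^ 3 ≤ (P ^ 2 * S ^ 2) ^ 2 := by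
    have : P ^ 4 * S ^ 3 * P ^ 2 ≤ P ^ 4 * S ^ 3 * S :=
      mul_le_mul_of_nonneg_left hSP (by positivity)
    calc (P ^ 2 * S) ^ 3 = P ^ 4 * S ^ 3 * P ^ 2 := by ring
      _ ≤ P ^ 4 * S ^ 3 * S := this
      _ = (P ^ 2 * S ^ 2) ^ 2 := by ring
  have hlt : (P ^ 2 * S - Nr) ^ 3 < (P ^ 2 * S) ^ 3 :=
    pow_lt_pow_left₀ (by linarith) (by linarith) (by norm_num)
  have hflip : (P ^ 2 * S * r - Nr ^ 2) ^ 2 = (Nr ^ 2 - P ^ 2 * S * r) ^ 2 := by ring
  linarith

end Cfsg.Agent.Helper35.NormPair
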