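import Mathlib

set_option autoImplicit false
open Finset Polynomial

namespace Cfsg.Agent.Helper35.NormPair

theorem exists_root_cubic (p : ℕ) [Fact p.Prime] (F : Type*) [Field F] [Fintype F]
    [Algebra (ZMod p) F] (hF : Fintype.card F = p ^ 3) (f : (ZMod p)[X]) (hf : Irreducible f)
    (hdeg : f.natDegree = 3) : ∃ e : F, Polynomial.aeval e f = 0 := by
  have : Fact (Irreducible f) := ⟨hf⟩
  have hfin : Module.finrank (ZMod p) (AdjoinRoot f) = 3 := by
    rw [← hdeg]; exact finrank_quotient_span_eq_natDegree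
  have : Module.Finite (ZMod p) (AdjoinRoot f) := Module.finite_of_finrank_pos (by omega)
  have : Finite (AdjoinRoot f) := Module.finite_of_finite (ZMod p)
  let : Fintype (AdjoinRoot f) := Fintype.ofFinite _
  have hcard : Fintype.card (AdjoinRoot f) = p ^ 3 := by
    rw [Fintype.card_eq_nat_card, Module.natCard_eq_pow_finrank (K := ZMod p), hfin, Nat.card_zmod]
  let φ := FiniteField.algEquivOfCardEq p (hcard.trans hF.symm)
  refine ⟨φ (AdjoinRoot.root f), ?_⟩
  show aeval ((φ : AdjoinRoot f →ₐ[ZMod p] F) (AdjoinRoot.root f)) f = 0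
  rw [Polynomial.aeval_algHom_apply, AdjoinRoot.aeval_eq, AdjoinRoot.mk_self, map_zero]

theorem exists_cubic_no_root (p : ℕ) [Fact p.Prime] :
    ∃ ν : ZMod p, ∀ x : ZMod p, x ^ 3 - x ≠ ν := by
  by_contra hcon
  push Not at hcon
  have hsurj : Function.Surjective (fun x : ZMod p => x ^ 3 - x) := hcon
  have hinj := Finite.injective_iff_surjective.mpr hsurj
  have : (0 : ZMod p) = 1 := hinj (by simp)
  exact zero_ne_one this


theorem cubic_irreducible (p : ℕ) [Fact p.Prime] (ν : ZMod p) (hν : ∀ x : ZMod p, x ^ 3 - x ≠ ν) :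
    Irreducible (X ^ 3 - X - C ν : (ZMod p)[X]) ∧ (X ^ 3 - X - C ν : (ZMod p)[X]).natDegree = 3 := by
  have hdeg : (X ^ 3 - X - C ν : (ZMod p)[X]).natDegree = 3 := by compute_degree!
  have hmonic : (X ^ 3 - X - C ν : (ZMod p)[X]).Monic := by monicity!
  refine ⟨?_, hdeg⟩
  rw [hmonic.irreducible_iff_roots_eq_zero_of_degree_le_three (by omega) (by omega)]
  rw [Multiset.eq_zero_iff_forall_notMem]
  intro x hx
  rw [mem_roots hmonic.ne_zero, IsRoot.def] at hx
  simp only [eval_sub, eval_pow, eval_X, eval_C] at hx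
  exact hν x (sub_eq_zero.mp hx)


theorem exists_pair_of_three (p : ℕ) [Fact p.Prime] {F : Type*} [Field F] [Fintype F]
    [Algebra (ZMod p) F] (hF : Fintype.card F = p ^ 3) :
    ∃ a : F, a ≠ 1 ∧ a ^ ((p ^ 3 - 1) / (p - 1)) = 1 ∧ (2 - a) ^ ((p ^ 3 - 1) / (p - 1)) = 1 := by
  have hp2 : 2 ≤ p := (Fact.out : p.Prime).two_le
  have hn : (p ^ 3 - 1) / (p - 1) = p ^ 2 + p + 1 := by
    apply Nat.div_eq_of_eq_mul_right (by omega)
    obtain ⟨k, rfl⟩ : ∃ k, p = k + 1 := ⟨p - 1, by omega⟩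
    simp only [Nat.add_sub_cancel]
    have : (k + 1) ^ 3 = k * ((k + 1) ^ 2 + (k + 1) + 1) + 1 := by ring
    omega
  rw [hn]
  have : CharP F p := charP_of_injective_algebraMap (algebraMap (ZMod p) F).injective p
  obtain ⟨ν, hν⟩ := exists_cubic_no_root p
  obtain ⟨hirr, hdeg⟩ := cubic_irreducible p ν hν
  obtain ⟨e, he⟩ := exists_root_cubic p F hF _ hirr hdeg
  simp only [map_sub, map_pow, aeval_X, aeval_C] at he
  set ν' : F := algebraMap (ZMod p) F ν with hν'
  have he : e ^ 3 - e = ν' := sub_eq_zero.mp he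
  have hν'p : ν' ^ p = ν' := by rw [hν', ← map_pow, ZMod.pow_card]
  have hν0 : ν' ≠ 0 := by
    rw [hν', Ne, map_eq_zero]
    rintro rfl
    exact hν 0 (by simp)
  -- no root has x^p = x
  have R : ∀ x : F, x ^ 3 - x = ν' → x ^ p ≠ x := by
    intro x hx hxp
    have hmem : x ∈ (⊥ : Subfield F) := (Subfield.mem_bot_iff_pow_eq_self F p).mpr hxp
    rw [mem_bot_iff_intCast p F] at hmem
    obtain ⟨m, rfl⟩ := hmem
    apply hν (m : ZMod p)
    apply (algebraMap (ZMod p) F).injective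
    rw [map_sub, map_pow, map_intCast]
    exact hx
  have Fr : ∀ x : F, x ^ 3 - x = ν' → (x ^ p) ^ 3 - x ^ p = ν' := by
    intro x hx
    have h : (x ^ 3 - x) ^ p = ν' ^ p := by rw [hx]
    rw [sub_pow_char, hν'p] at h
    rw [← h]; ring
  set e1 := e ^ p with he1
  set e2 := e1 ^ p with he2
  have h1 : e1 ^ 3 - e1 = ν' := Fr e he
  have h2 : e2 ^ 3 - e2 = ν' := Fr e1 h1
  have hcyc : e2 ^ p = e := by
    have h3 : p * (p * p) = Fintype.card F := by rw [hF]; ring
    rw [he2, he1, ← pow_mul, ← pow_mul, h3]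
    exact FiniteField.pow_card e
  have h01 : e ≠ e1 := fun h => R e he h.symm
  have h12 : e1 ≠ e2 := fun h => R e1 h1 h.symm
  have h02 : e ≠ e2 := by
    intro h
    have h' : e ^ p = e := by
      calc e ^ p = e2 ^ p := by rw [← h]
        _ = e := hcyc
    exact R e he h'
  -- Vieta
  have hs1 : e ^ 2 + e * e1 + e1 ^ 2 = 1 := by
    have : (e - e1) * (e ^ 2 + e * e1 + e1 ^ 2) = (e - e1) * 1 := by
      linear_combination he - h1
    exact mul_left_cancel₀ (sub_ne_zero.mpr h01) this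
  have hs2 : e ^ 2 + e * e2 + e2 ^ 2 = 1 := by
    have : (e - e2) * (e ^ 2 + e * e2 + e2 ^ 2) = (e - e2) * 1 := by
      linear_combination he - h2
    exact mul_left_cancel₀ (sub_ne_zero.mpr h02) this
  have hsum : e + e1 + e2 = 0 := by
    have : (e1 - e2) * (e + e1 + e2) = (e1 - e2) * 0 := by
      linear_combination hs1 - hs2
    exact mul_left_cancel₀ (sub_ne_zero.mpr h12) this
  have hprod : ∀ t : F, (e + t) * (e1 + t) * (e2 + t) = t ^ 3 - t + ν' := by
    intro t
    have he2' : e2 = -e - e1 := by linear_combination hsum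
    rw [he2']
    linear_combination (-(t + e)) * hs1 + he
  have hnorm : ∀ x : F, x ^ (p ^ 2 + p + 1) = (x ^ p) ^ p * x ^ p * x := by
    intro x
    rw [pow_add, pow_add, pow_one, sq, pow_mul]
  have hN0 : e ^ (p ^ 2 + p + 1) = ν' := by
    rw [hnorm, ← he1, ← he2]
    have := hprod 0
    simp only [add_zero] at this
    rw [mul_comm, mul_comm e2, ← mul_assoc, this]; ring
  have hN1 : (e + 1) ^ (p ^ 2 + p + 1) = ν' := by
    rw [hnorm, add_pow_char, one_pow, ← he1, add_pow_char, one_pow, ← he2]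
    have := hprod 1
    rw [mul_comm, mul_comm (e2 + 1), ← mul_assoc, this]; ring
  have hN2 : (e - 1) ^ (p ^ 2 + p + 1) = ν' := by
    rw [hnorm, sub_pow_char, one_pow, ← he1, sub_pow_char, one_pow, ← he2]
    have := hprod (-1)
    simp only [← sub_eq_add_neg] at this
    rw [mul_comm, mul_comm (e2 - 1), ← mul_assoc, this]; ring
  have he0 : e ≠ 0 := by
    rintro rfl
    rw [zero_pow (by positivity)] at hN0
    exact hν0 hN0.symm
  refine ⟨(e + 1) / e, ?_, ?_, ?_⟩
  · intro h
    rw [div_eq_one_iff_eq he0] at h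
    exact one_ne_zero (add_eq_left.mp h)
  · rw [div_pow, hN1, hN0, div_self hν0]
  · have : 2 - (e + 1) / e = (e - 1) / e := by field_simp; ring
    rw [this, div_pow, hN2, hN0, div_self hν0]

end Cfsg.Agent.Helper35.NormPair
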