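import Cfsg.Agent.Lib.Helper35.OTCert
import Cfsg.Agent.Lib.Helper3.CharBurnside

set_option autoImplicit false

namespace Cfsg.Agent.Helper35.OT

theorem fc_prod (A B : Type*) [Monoid A] [Monoid B] (d : ℕ) :
    fc (A × B) d = fc A d * fc B d := by
  unfold fc
  rw [← Nat.card_prod]
  refine Nat.card_congr ?_
  refine
    { toFun := fun x => (⟨x.1.1, congrArg Prod.fst x.2⟩, ⟨x.1.2, congrArg Prod.snd x.2⟩)
      invFun := fun y => ⟨(y.1.1, y.2.1), Prod.ext y.1.2 y.2.2⟩
      left_inv := fun x => rfl
      right_inv := fun y => rfl }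

theorem fc_pi (ι : Type*) [Fintype ι] (A : Type*) [Monoid A] (d : ℕ) :
    fc (ι → A) d = fc A d ^ Fintype.card ι := by
  unfold fc
  rw [← Nat.card_eq_fintype_card (α := ι), ← Nat.card_fun (α := ι)]
  · refine Nat.card_congr ?_
    refine
      { toFun := fun x i => ⟨x.1 i, congrFun x.2 i⟩
        invFun := fun y => ⟨fun i => (y i).1, funext fun i => (y i).2⟩
        left_inv := fun x => rfl
        right_inv := fun y => rfl }

theorem fc_congr {A B : Type*} [Monoid A] [Monoid B] (e : A ≃* B) (d : ℕ) : fc A d = fc B d := by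
  unfold fc
  refine Nat.card_congr (e.toEquiv.subtypeEquiv ?_)
  intro a
  constructor
  · intro h; simp only [MulEquiv.toEquiv_eq_coe, EquivLike.coe_coe]; rw [← map_pow, h, map_one]
  · intro h
    simp only [MulEquiv.toEquiv_eq_coe, EquivLike.coe_coe] at h
    rw [← map_pow] at h
    exact e.injective (h.trans (map_one e).symm)

theorem fc_gcd {A : Type*} [Group A] (E : ℕ) (h : ∀ x : A, x ^ E = 1) (d : ℕ) :
    fc A d = fc A (Nat.gcd d E) := by
  unfold fc
  refine Nat.card_congr (Equiv.subtypeEquivRight ?_)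
  intro x
  rw [← orderOf_dvd_iff_pow_eq_one, ← orderOf_dvd_iff_pow_eq_one, Nat.dvd_gcd_iff]
  exact ⟨fun hd => ⟨hd, orderOf_dvd_of_pow_eq_one (h x)⟩, fun hd => hd.1⟩

theorem fc_eq_card {A : Type*} [Group A] (E : ℕ) (h : ∀ x : A, x ^ E = 1) : fc A E = Nat.card A := by
  unfold fc
  exact Nat.card_congr (Equiv.subtypeUnivEquiv h)

/-- the number of elements of order `n` -/
noncomputable def oc (A : Type*) [Monoid A] (n : ℕ) : ℕ := Nat.card {x : A // orderOf x = n}

theorem fc_eq_sum_oc (A : Type*) [Group A] [Finite A] (n : ℕ) (hn : 0 < n) :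
    fc A n = ∑ m ∈ n.divisors, oc A m := by
  classical
  have := Fintype.ofFinite A
  unfold fc oc
  rw [Nat.card_eq_fintype_card, Fintype.card_subtype]
  rw [Finset.card_eq_sum_card_fiberwise (f := orderOf) (t := n.divisors)]
  · refine Finset.sum_congr rfl ?_
    intro m hm
    rw [Nat.card_eq_fintype_card, Fintype.card_subtype]
    congr 1
    ext x
    simp only [Finset.mem_filter, Finset.mem_univ, true_and]
    constructor
    · exact fun h => h.2
    · intro h
      refine ⟨?_, h⟩
      rw [← orderOf_dvd_iff_pow_eq_one, h]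
      exact Nat.dvd_of_mem_divisors hm
  · intro x hx
    simp only [Finset.coe_filter, Finset.mem_univ, true_and, Set.mem_setOf_eq] at hx
    simp only [Finset.mem_coe, Nat.mem_divisors]
    exact ⟨orderOf_dvd_of_pow_eq_one hx, hn.ne'⟩

theorem oc_eq_of_fc_eq {G H : Type*} [Group G] [Finite G] [Group H] [Finite H]
    (h : ∀ d, fc G d = fc H d) : ∀ n, oc G n = oc H n := by
  intro n
  induction n using Nat.strong_induction_on with
  | _ n ih =>
    rcases Nat.eq_zero_or_pos n with rfl | hn
    · unfold oc
      have h1 : IsEmpty {x : G // orderOf x = 0} :=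
        ⟨fun x => (orderOf_pos x.1).ne' x.2⟩
      have h2 : IsEmpty {x : H // orderOf x = 0} :=
        ⟨fun x => (orderOf_pos x.1).ne' x.2⟩
      rw [Nat.card_of_isEmpty, Nat.card_of_isEmpty]
    · have hG := fc_eq_sum_oc G n hn
      have hH := fc_eq_sum_oc H n hn
      rw [← Nat.cons_self_properDivisors hn.ne', Finset.sum_cons] at hG hH
      have hsum : ∑ m ∈ n.properDivisors, oc G m = ∑ m ∈ n.properDivisors, oc H m :=
        Finset.sum_congr rfl fun m hm => ih m (Nat.mem_properDivisors.1 hm).2
      have := h n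
      omega

/-- a group of order `p^a q^b r^c` with exactly `p^a` solutions of `x^(p^a) = 1` is solvable -/
theorem solvable_of_normal_sylow {A : Type*} [Group A] [Finite A] (p q r a b c : ℕ)
    (hp : p.Prime) (hq : q.Prime) (hr : r.Prime)
    (hcard : Nat.card A = p ^ a * (q ^ b * r ^ c)) (hfc : fc A (p ^ a) = p ^ a) :
    Group.IsSolvable A := by
  classical
  have : Fact p.Prime := ⟨hp⟩
  obtain ⟨K, hK⟩ := Sylow.exists_subgroup_card_pow_prime p (n := a) (hcard ▸ Dvd.intro _ rfl)
  have hmem : ∀ x : A, x ∈ K ↔ x ^ (p ^ a) = 1 := by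
    let S : Set A := {x | x ^ (p ^ a) = 1}
    have hsub : (K : Set A) ⊆ S := by
      intro x hx
      have := pow_card_eq_one' (G := K) (x := ⟨x, hx⟩)
      rw [hK] at this
      exact congrArg Subtype.val this
    have hcardS : S.ncard = p ^ a := by
      rw [← hfc]; rfl
    have hcardK : (K : Set A).ncard = p ^ a := by
      rw [← hK]; rfl
    have heq : (K : Set A) = S :=
      Set.eq_of_subset_of_ncard_le hsub (by rw [hcardS, hcardK]) (Set.toFinite S)
    intro x
    exact Set.ext_iff.1 heq x
  have hKn : K.Normal := by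
    constructor
    intro x hx g
    rw [hmem] at hx ⊢
    rw [conj_pow, hx, mul_one, mul_inv_cancel]
  have hKs : Group.IsSolvable K := by
    have : IsPGroup p K := IsPGroup.of_card hK
    have := this.isNilpotent
    infer_instance
  have hQ : Group.IsSolvable (A ⧸ K) := by
    apply Cfsg.Agent.Helper3.burnside_paqb q r b c hq hr
    have h1 := Subgroup.card_eq_card_quotient_mul_card_subgroup K
    rw [hcard, hK] at h1
    have hpos : 0 < p ^ a := pow_pos hp.pos a
    have : p ^ a * (q ^ b * r ^ c) = p ^ a * Nat.card (A ⧸ K) := by rw [h1, mul_comm]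
    exact (Nat.eq_of_mul_eq_mul_left hpos this).symm
  exact Group.isSolvable_of_ker_le_range K.subtype (QuotientGroup.mk' K) (by simp)

/-- finite powers of solvable groups are solvable -/
theorem isSolvable_pi (ι : Type*) [Finite ι] (A : Type*) [Group A] [hA : Group.IsSolvable A] :
    Group.IsSolvable (ι → A) := by
  obtain ⟨n, hn⟩ := hA.solvable
  refine ⟨⟨n, ?_⟩⟩
  have key : ∀ m, derivedSeries (ι → A) m ≤ Subgroup.pi Set.univ (fun _ => derivedSeries A m) := by
    intro m
    induction m with
    | zero => simp [Subgroup.pi_top]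
    | succ m ih =>
      rw [derivedSeries_succ, derivedSeries_succ]
      exact (Subgroup.commutator_mono ih ih).trans (Subgroup.commutator_pi_pi_le _ _)
  rw [eq_bot_iff]
  intro x hx
  have := key n hx
  rw [hn, Subgroup.pi_bot] at this
  exact this

end Cfsg.Agent.Helper35.OT
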