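import Mathlib

/-!
# Certificates for order statistics of permutation groups given by generators

Everything computational is done on natural-number codes (base `n` digit vectors), so that the
kernel only evaluates arithmetic on numerals.  The elements are stored in a binary search tree.
-/

set_option autoImplicit false

namespace Cfsg.Agent.Helper35.OT

/-- number of solutions of `x ^ d = 1` -/
noncomputable def fc (A : Type*) [Monoid A] (d : ℕ) : ℕ := Nat.card {x : A // x ^ d = 1}

/-- digit `i` of `c` in base `n` -/
def dg (n c i : ℕ) : ℕ := c / n ^ i % n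

/-- iterate the digit function -/
def iter (n c : ℕ) : ℕ → ℕ → ℕ
  | 0, i => i
  | m + 1, i => iter n c m (dg n c i)

def allLt (n : ℕ) (p : ℕ → Bool) : Bool := (List.range n).all p

theorem allLt_iff {n : ℕ} {p : ℕ → Bool} : allLt n p = true ↔ ∀ i < n, p i = true := by
  simp [allLt, List.all_eq_true]

/-- `c` codes the composition `a ∘ b` -/
def isComp (n a b c : ℕ) : Bool := allLt n fun i => Nat.beq (dg n a (dg n b i)) (dg n c i)

def isId (n c : ℕ) : Bool := allLt n fun i => Nat.beq (dg n c i) i

def iterId (n c m : ℕ) : Bool := allLt n fun i => Nat.beq (iter n c m i) i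

def sortedB : List ℕ → Bool
  | [] => true
  | [_] => true
  | a :: b :: t => Nat.blt a b && sortedB (b :: t)

/-- entries: code, order, depth, parent code, generator code, product codes -/
structure Ent where
  c : ℕ
  o : ℕ
  d : ℕ
  p : ℕ
  g : ℕ
  ps : List ℕ
  deriving DecidableEq

inductive T where
  | leaf : T
  | node (l : T) (c o d p g : ℕ) (ps : List ℕ) (r : T) : T

def T.toList : T → List Ent
  | .leaf => []
  | .node l c o d p g ps r => l.toList ++ (⟨c, o, d, p, g, ps⟩ :: r.toList)

/-- search for a code; returns the depth stored at the node -/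
def T.find : T → ℕ → Option ℕ
  | .leaf, _ => none
  | .node l c _ d _ _ _ r, a =>
    bif Nat.beq a c then some d else bif Nat.blt a c then l.find a else r.find a

def memB (a : ℕ) : List ℕ → Bool
  | [] => false
  | b :: t => Nat.beq a b || memB a t

def ordOK (n c o : ℕ) : Bool :=
  Nat.blt 0 o && Nat.beq (84 % o) 0 && iterId n c o &&
  [2, 3, 7].all fun q => !(Nat.beq (o % q) 0) || !(iterId n c (o / q))

def closOK (n : ℕ) (root : T) (c : ℕ) : List ℕ → List ℕ → Bool
  | [], [] => true
  | g :: gs, p :: ps => isComp n c g p && (root.find p).isSome && closOK n root c gs ps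
  | _, _ => false

def entOK (n : ℕ) (gs : List ℕ) (root : T) (e : Ent) : Bool :=
  Nat.blt e.c (n ^ n) && ordOK n e.c e.o &&
  (bif Nat.beq e.d 0 then isId n e.c
    else (root.find e.p == some (e.d - 1)) && memB e.g gs && isComp n e.p e.g e.c) &&
  closOK n root e.c gs e.ps

def chkT (n : ℕ) (gs : List ℕ) (root : T) : T → Bool
  | .leaf => true
  | .node l c o d p g ps r =>
    chkT n gs root l && entOK n gs root ⟨c, o, d, p, g, ps⟩ && chkT n gs root r

structure Data where
  n : ℕ
  /-- generators: (code, code of inverse) -/
  gens : List (ℕ × ℕ)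
  tree : T
  /-- code of the identity -/
  idc : ℕ

namespace Data

variable (D : Data)

def gcodes : List ℕ := D.gens.map Prod.fst

def chkGens : Bool :=
  D.gens.all fun p => allLt D.n fun i =>
    Nat.beq (dg D.n p.2 (dg D.n p.1 i)) i && Nat.beq (dg D.n p.1 (dg D.n p.2 i)) i

def check : Bool :=
  Nat.blt 0 D.n && D.chkGens && (D.tree.find D.idc == some 0) &&
  chkT D.n D.gcodes D.tree D.tree && sortedB (D.tree.toList.map Ent.c)

/-- commutator certificate: for each generator `g` a pair `(cx, cy)` of element codes with
`x y = g y x` -/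
def commOK (n : ℕ) (root : T) : List ℕ → List (ℕ × ℕ) → Bool
  | [], [] => true
  | g :: gs, c :: cs =>
    (root.find c.1).isSome && (root.find c.2).isSome &&
    (allLt n fun i => Nat.beq (dg n c.1 (dg n c.2 i)) (dg n g (dg n c.2 (dg n c.1 i)))) &&
    commOK n root gs cs
  | _, _ => false

def chkPerfect (cs : List (ℕ × ℕ)) : Bool := commOK D.n D.tree D.gcodes cs

/-- the predicted number of solutions of `x ^ d = 1` -/
def cnt (d : ℕ) : ℕ := D.tree.toList.countP fun e => Nat.beq (d % e.o) 0

end Data

end Cfsg.Agent.Helper35.OT
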