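import Cfsg.Agent.Lib.Helper35.OTMain
import Cfsg.Agent.Lib.Helper35.OTBasic

set_option autoImplicit false

namespace Cfsg.Agent.Helper35.OT

def divs84 : List ℕ := [1, 2, 3, 4, 6, 7, 12, 14, 21, 28, 42, 84]

theorem gcd_mem_divs84 (d : ℕ) : Nat.gcd d 84 ∈ divs84 := by
  have h : Nat.gcd d 84 ∈ Nat.divisors 84 := Nat.mem_divisors.2 ⟨Nat.gcd_dvd_right d 84, by norm_num⟩
  have h2 : Nat.divisors 84 = {1, 2, 3, 4, 6, 7, 12, 14, 21, 28, 42, 84} := by decide
  rw [h2] at h
  simpa [divs84] using h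

/-- table lookup -/
def lk (l : List (ℕ × ℕ)) (e : ℕ) : ℕ := (l.lookup e).getD 0

namespace Data

variable {D : Data}

theorem Ok.fc_tab (h : D.Ok) (tab : ℕ → ℕ) (ht : ∀ e ∈ divs84, D.cnt e = tab e) (d : ℕ) :
    fc D.grp d = tab (Nat.gcd d 84) := by
  rw [fc_gcd 84 h.pow_84 d, h.fc_eq, ht _ (gcd_mem_divs84 d)]

theorem Ok.solvable (h : D.Ok) (p q r a b c : ℕ) (hp : p.Prime) (hq : q.Prime) (hr : r.Prime)
    (hcard : D.cnt 84 = p ^ a * (q ^ b * r ^ c)) (hfc : D.cnt (p ^ a) = p ^ a) :
    Group.IsSolvable D.grp :=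
  solvable_of_normal_sylow p q r a b c hp hq hr (h.card_eq.trans hcard) ((h.fc_eq _).trans hfc)

end Data

/-! ### formal products -/

structure BG where
  A : Type
  [grp : Group A]
  [fin : Finite A]

attribute [instance] BG.grp BG.fin

def PType : List (BG × ℕ) → Type
  | [] => Unit
  | x :: t => (Fin x.2 → x.1.A) × PType t

instance PType.instGroup : (l : List (BG × ℕ)) → Group (PType l)
  | [] => inferInstanceAs (Group Unit)
  | x :: t =>
    letI := PType.instGroup t
    inferInstanceAs (Group ((Fin x.2 → x.1.A) × PType t))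

instance PType.instFinite : (l : List (BG × ℕ)) → Finite (PType l)
  | [] => inferInstanceAs (Finite Unit)
  | x :: t =>
    haveI := PType.instFinite t
    inferInstanceAs (Finite ((Fin x.2 → x.1.A) × PType t))

theorem fc_PType : ∀ (l : List (BG × ℕ)) (d : ℕ),
    fc (PType l) d = (l.map fun x => fc x.1.A d ^ x.2).prod := by
  intro l
  induction l with
  | nil =>
    intro d
    simp only [List.map_nil, List.prod_nil]
    unfold fc
    have : Unique {x : PType [] // x ^ d = 1} :=
      ⟨⟨⟨1, one_pow d⟩⟩, fun a => Subtype.ext (Subsingleton.elim (α := Unit) _ _)⟩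
    exact Nat.card_unique
  | cons x t ih =>
    intro d
    rw [List.map_cons, List.prod_cons, ← ih d]
    have := fc_prod (Fin x.2 → x.1.A) (PType t) d
    rw [fc_pi, Fintype.card_fin] at this
    exact this

theorem fc_PType_tab (l : List (BG × ℕ)) (tl : List ((ℕ → ℕ) × ℕ))
    (h : List.Forall₂ (fun x y => x.2 = y.2 ∧ ∀ d, fc x.1.A d = y.1 (Nat.gcd d 84)) l tl) (d : ℕ) :
    fc (PType l) d = (tl.map fun y => y.1 (Nat.gcd d 84) ^ y.2).prod := by
  rw [fc_PType]
  induction h with
  | nil => rfl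
  | cons hxy _ ih =>
    rw [List.map_cons, List.map_cons, List.prod_cons, List.prod_cons, ih, hxy.1, hxy.2 d]

theorem solvable_PType : ∀ (l : List (BG × ℕ)), (∀ x ∈ l, Group.IsSolvable x.1.A) →
    Group.IsSolvable (PType l) := by
  intro l
  induction l with
  | nil => intro _; exact inferInstanceAs (Group.IsSolvable Unit)
  | cons x t ih =>
    intro h
    have h1 : Group.IsSolvable x.1.A := h x (List.mem_cons_self ..)
    have h2 : Group.IsSolvable (PType t) := ih fun y hy => h y (List.mem_cons_of_mem _ hy)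
    have h3 : Group.IsSolvable (Fin x.2 → x.1.A) := isSolvable_pi _ _
    exact inferInstanceAs (Group.IsSolvable ((Fin x.2 → x.1.A) × PType t))

theorem not_solvable_PType (x : BG × ℕ) (t : List (BG × ℕ)) (hk : 0 < x.2)
    (hx : ¬ Group.IsSolvable x.1.A) : ¬ Group.IsSolvable (PType (x :: t)) := by
  intro hs
  apply hx
  let f : x.1.A →* PType (x :: t) :=
    (MonoidHom.inl (Fin x.2 → x.1.A) (PType t)).comp (Pi.constMonoidHom (Fin x.2) x.1.A)
  have hf : Function.Injective f := by
    intro a b hab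
    have h1 : (fun _ : Fin x.2 => a) = fun _ => b := congrArg Prod.fst hab
    exact congrFun h1 ⟨0, hk⟩
  exact Group.isSolvable_of_isSolvable_injective hf

end Cfsg.Agent.Helper35.OT
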