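import Cfsg.Agent.Lib.Helper35.OTCert

set_option autoImplicit false

namespace Cfsg.Agent.Helper35.OT

open Equiv
open scoped commutatorElement

theorem dg_lt {n : ℕ} (hn : 0 < n) (c i : ℕ) : dg n c i < n := Nat.mod_lt _ hn

theorem beq_iff {a b : ℕ} : Nat.beq a b = true ↔ a = b :=
  ⟨Nat.eq_of_beq_eq_true, fun h => h ▸ Nat.beq_refl a⟩

theorem blt_iff {a b : ℕ} : Nat.blt a b = true ↔ a < b := by
  simp [Nat.blt_eq]

theorem isComp_iff {n a b c : ℕ} :
    isComp n a b c = true ↔ ∀ i < n, dg n a (dg n b i) = dg n c i := by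
  simp [isComp, allLt_iff, beq_iff]

theorem isId_iff {n c : ℕ} : isId n c = true ↔ ∀ i < n, dg n c i = i := by
  simp [isId, allLt_iff, beq_iff]

theorem iterId_iff {n c m : ℕ} : iterId n c m = true ↔ ∀ i < n, iter n c m i = i := by
  simp [iterId, allLt_iff, beq_iff]

/-- `c` represents the permutation `x` -/
def Rep (n c : ℕ) (x : Perm (Fin n)) : Prop := ∀ i : Fin n, ((x i : Fin n) : ℕ) = dg n c i

theorem rep_unique {n c : ℕ} {x y : Perm (Fin n)} (hx : Rep n c x) (hy : Rep n c y) : x = y := by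
  ext i
  rw [hx i, hy i]

theorem rep_mul {n a b c : ℕ} {x y : Perm (Fin n)} (hx : Rep n a x) (hy : Rep n b y)
    (h : isComp n a b c = true) : Rep n c (x * y) := by
  intro i
  rw [Perm.mul_apply, hx (y i), hy i]
  exact isComp_iff.1 h i i.2

theorem rep_one {n c : ℕ} (h : isId n c = true) : Rep n c (1 : Perm (Fin n)) := by
  intro i
  rw [Perm.one_apply]
  exact (isId_iff.1 h i i.2).symm

theorem eq_of_digits {n c c' : ℕ} (hc : c < n ^ n) (hc' : c' < n ^ n)
    (h : ∀ i < n, dg n c i = dg n c' i) : c = c' := by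
  have key : ∀ m ≤ n, c % n ^ m = c' % n ^ m := by
    intro m
    induction m with
    | zero => intro _; simp [Nat.mod_one]
    | succ m ih =>
      intro hm
      rw [Nat.mod_pow_succ, Nat.mod_pow_succ, ih (Nat.le_of_succ_le hm)]
      have := h m hm
      unfold dg at this
      rw [this]
  have := key n le_rfl
  rwa [Nat.mod_eq_of_lt hc, Nat.mod_eq_of_lt hc'] at this

theorem rep_code_inj {n c c' : ℕ} {x : Perm (Fin n)} (hx : Rep n c x) (hx' : Rep n c' x)
    (hc : c < n ^ n) (hc' : c' < n ^ n) : c = c' :=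
  eq_of_digits hc hc' fun i hi => by rw [← hx ⟨i, hi⟩, ← hx' ⟨i, hi⟩]

theorem rep_pow {n c : ℕ} {x : Perm (Fin n)} (hx : Rep n c x) :
    ∀ (m : ℕ) (i : Fin n), (((x ^ m) i : Fin n) : ℕ) = iter n c m i := by
  intro m
  induction m with
  | zero => intro i; simp [iter]
  | succ m ih =>
    intro i
    rw [pow_succ, Perm.mul_apply, ih (x i), hx i]
    rfl

theorem rep_pow_eq_one {n c : ℕ} {x : Perm (Fin n)} (hx : Rep n c x) (m : ℕ) :
    x ^ m = 1 ↔ iterId n c m = true := by
  rw [iterId_iff]
  constructor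
  · intro h i hi
    have := rep_pow hx m ⟨i, hi⟩
    rw [h] at this
    simpa using this.symm
  · intro h
    ext i
    rw [rep_pow hx m i, Perm.one_apply]
    exact h i i.2

theorem prime_dvd_84 {q : ℕ} (hq : q.Prime) (h : q ∣ 84) : q = 2 ∨ q = 3 ∨ q = 7 := by
  have h84 : (84 : ℕ) = 2 * 2 * 3 * 7 := by norm_num
  rw [h84] at h
  rcases (Nat.Prime.dvd_mul hq).1 h with h | h
  · rcases (Nat.Prime.dvd_mul hq).1 h with h | h
    · rcases (Nat.Prime.dvd_mul hq).1 h with h | h
      · left; exact (Nat.prime_dvd_prime_iff_eq hq Nat.prime_two).1 h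
      · left; exact (Nat.prime_dvd_prime_iff_eq hq Nat.prime_two).1 h
    · right; left; exact (Nat.prime_dvd_prime_iff_eq hq Nat.prime_three).1 h
  · right; right; exact (Nat.prime_dvd_prime_iff_eq hq (by norm_num)).1 h

theorem orderOf_of_ordOK {n c o : ℕ} {x : Perm (Fin n)} (hx : Rep n c x)
    (h : ordOK n c o = true) : orderOf x = o := by
  unfold ordOK at h
  simp only [Bool.and_eq_true, List.all_eq_true, Bool.or_eq_true, Bool.not_eq_true',
    blt_iff, beq_iff] at h
  obtain ⟨⟨⟨h0, h84⟩, hid⟩, hq⟩ := h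
  refine orderOf_eq_of_pow_and_pow_div_prime h0 ((rep_pow_eq_one hx o).2 hid) ?_
  intro q hqp hqo
  have hq84 : q ∣ 84 := hqo.trans (Nat.dvd_of_mod_eq_zero h84)
  have hmem : q ∈ [2, 3, 7] := by
    rcases prime_dvd_84 hqp hq84 with rfl | rfl | rfl <;> simp
  rcases hq q hmem with h1 | h1
  · exfalso
    have : o % q = 0 := Nat.mod_eq_zero_of_dvd hqo
    rw [← beq_iff] at this
    rw [this] at h1
    exact Bool.noConfusion h1
  · intro hpow
    rw [rep_pow_eq_one hx] at hpow
    rw [hpow] at h1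
    exact Bool.noConfusion h1

/-! ### the tree -/

theorem find_sound : ∀ (t : T) (a d : ℕ), t.find a = some d → ∃ e ∈ t.toList, e.c = a ∧ e.d = d := by
  intro t
  induction t with
  | leaf => intro a d h; simp [T.find] at h
  | node l c o d' p g ps r ihl ihr =>
    intro a d h
    unfold T.find at h
    by_cases h1 : Nat.beq a c = true
    · rw [h1] at h
      simp only [cond_true, Option.some.injEq] at h
      refine ⟨⟨c, o, d', p, g, ps⟩, ?_, (beq_iff.1 h1).symm, h⟩
      simp [T.toList]
    · rw [Bool.not_eq_true] at h1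
      rw [h1] at h
      simp only [cond_false] at h
      by_cases h2 : Nat.blt a c = true
      · rw [h2] at h
        simp only [cond_true] at h
        obtain ⟨e, he, hh⟩ := ihl a d h
        exact ⟨e, by simp [T.toList, he], hh⟩
      · rw [Bool.not_eq_true] at h2
        rw [h2] at h
        simp only [cond_false] at h
        obtain ⟨e, he, hh⟩ := ihr a d h
        exact ⟨e, by simp [T.toList, he], hh⟩

theorem chkT_sound (n : ℕ) (gs : List ℕ) (root : T) :
    ∀ t : T, chkT n gs root t = true → ∀ e ∈ t.toList, entOK n gs root e = true := by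
  intro t
  induction t with
  | leaf => intro _ e he; simp [T.toList] at he
  | node l c o d p g ps r ihl ihr =>
    intro h e he
    unfold chkT at h
    simp only [Bool.and_eq_true] at h
    obtain ⟨⟨h1, h2⟩, h3⟩ := h
    simp only [T.toList, List.mem_append, List.mem_cons] at he
    rcases he with he | rfl | he
    · exact ihl h1 e he
    · exact h2
    · exact ihr h3 e he

theorem memB_iff {a : ℕ} {l : List ℕ} : memB a l = true ↔ a ∈ l := by
  induction l with
  | nil => simp [memB]
  | cons b t ih => simp [memB, ih, beq_iff]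

theorem closOK_sound {n : ℕ} {root : T} {c : ℕ} :
    ∀ (gs ps : List ℕ), closOK n root c gs ps = true →
      ∀ g ∈ gs, ∃ p, isComp n c g p = true ∧ (root.find p).isSome = true := by
  intro gs
  induction gs with
  | nil => intro ps _ g hg; simp at hg
  | cons g0 gs ih =>
    intro ps h g hg
    cases ps with
    | nil => simp [closOK] at h
    | cons p0 ps =>
      unfold closOK at h
      simp only [Bool.and_eq_true] at h
      obtain ⟨⟨h1, h2⟩, h3⟩ := h
      rcases List.mem_cons.1 hg with rfl | hg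
      · exact ⟨p0, h1, h2⟩
      · exact ih ps h3 g hg

theorem sortedB_pairwise : ∀ l : List ℕ, sortedB l = true → l.Pairwise (· < ·) := by
  intro l
  induction l with
  | nil => intro _; exact List.Pairwise.nil
  | cons a t ih =>
    intro h
    cases t with
    | nil => simp
    | cons b t =>
      unfold sortedB at h
      simp only [Bool.and_eq_true, blt_iff] at h
      have ht := ih h.2
      rw [List.pairwise_cons]
      refine ⟨?_, ht⟩
      rw [List.pairwise_cons] at ht
      intro x hx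
      rcases List.mem_cons.1 hx with rfl | hx
      · exact h.1
      · exact lt_trans h.1 (ht.1 x hx)


/-! ### the group -/

noncomputable def gperm (n g gi : ℕ) : Perm (Fin n) :=
  if h : 0 < n ∧ (∀ i < n, dg n gi (dg n g i) = i) ∧ (∀ i < n, dg n g (dg n gi i) = i) then
    { toFun := fun i => ⟨dg n g i, dg_lt h.1 _ _⟩
      invFun := fun i => ⟨dg n gi i, dg_lt h.1 _ _⟩
      left_inv := fun i => Fin.ext (h.2.1 i i.2)
      right_inv := fun i => Fin.ext (h.2.2 i i.2) }
  else 1

theorem rep_gperm {n g gi : ℕ}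
    (h : 0 < n ∧ (∀ i < n, dg n gi (dg n g i) = i) ∧ (∀ i < n, dg n g (dg n gi i) = i)) :
    Rep n g (gperm n g gi) := by
  intro i
  unfold gperm
  rw [dif_pos h]
  rfl

namespace Data

variable (D : Data)

def gset : Set (Perm (Fin D.n)) := {x | ∃ p ∈ D.gens, x = gperm D.n p.1 p.2}

def grp : Subgroup (Perm (Fin D.n)) := Subgroup.closure D.gset

/-- the set of represented permutations -/
def tset : Set (Perm (Fin D.n)) := {x | ∃ e ∈ D.tree.toList, Rep D.n e.c x}

structure Ok : Prop where
  hn : 0 < D.n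
  hgens : ∀ p ∈ D.gens, Rep D.n p.1 (gperm D.n p.1 p.2)
  hfind : D.tree.find D.idc = some 0
  hT : ∀ e ∈ D.tree.toList, entOK D.n D.gcodes D.tree e = true
  hsorted : (D.tree.toList.map Ent.c).Pairwise (· < ·)

theorem ok_of_check (h : D.check = true) : D.Ok := by
  unfold check at h
  simp only [Bool.and_eq_true, blt_iff, beq_iff_eq] at h
  obtain ⟨⟨⟨⟨h1, h2⟩, h3⟩, h4⟩, h5⟩ := h
  refine ⟨h1, ?_, h3, chkT_sound _ _ _ _ h4, sortedB_pairwise _ h5⟩
  intro p hp
  unfold chkGens at h2
  rw [List.all_eq_true] at h2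
  have := h2 p hp
  rw [allLt_iff] at this
  apply rep_gperm
  refine ⟨h1, fun i hi => ?_, fun i hi => ?_⟩
  · have := this i hi
    simp only [Bool.and_eq_true, beq_iff] at this
    exact this.1
  · have := this i hi
    simp only [Bool.and_eq_true, beq_iff] at this
    exact this.2

variable {D}

theorem Ok.gset_le (_h : D.Ok) : D.gset ⊆ D.grp := Subgroup.subset_closure

/-- every listed code is represented by an element of the group -/
theorem Ok.exists_rep (h : D.Ok) :
    ∀ (k : ℕ), ∀ e ∈ D.tree.toList, e.d = k → ∃ x ∈ D.grp, Rep D.n e.c x := by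
  intro k
  induction k with
  | zero =>
    intro e he hd
    have := h.hT e he
    unfold entOK at this
    simp only [Bool.and_eq_true] at this
    have h3 := this.1.2
    rw [hd] at h3
    simp only [Nat.beq_refl, cond_true] at h3
    exact ⟨1, D.grp.one_mem, rep_one h3⟩
  | succ k ih =>
    intro e he hd
    have := h.hT e he
    unfold entOK at this
    simp only [Bool.and_eq_true] at this
    have h3 := this.1.2
    rw [hd] at h3
    have hne : Nat.beq (k + 1) 0 = false := by
      rw [← Bool.not_eq_true, beq_iff]; omega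
    rw [hne] at h3
    simp only [cond_false, Bool.and_eq_true, beq_iff_eq, Nat.add_sub_cancel] at h3
    obtain ⟨⟨hf, hg⟩, hcomp⟩ := h3
    obtain ⟨e', he', hc', hd'⟩ := find_sound _ _ _ hf
    obtain ⟨y, hy, hry⟩ := ih e' he' hd'
    rw [memB_iff] at hg
    unfold gcodes at hg
    rw [List.mem_map] at hg
    obtain ⟨p, hp, hpg⟩ := hg
    refine ⟨y * gperm D.n p.1 p.2, D.grp.mul_mem hy (h.gset_le ⟨p, hp, rfl⟩), ?_⟩
    refine rep_mul (hc' ▸ hry) (h.hgens p hp) ?_
    rw [hpg]
    exact hcomp

theorem Ok.one_mem_tset (h : D.Ok) : (1 : Perm (Fin D.n)) ∈ D.tset := by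
  obtain ⟨e, he, hc, hd⟩ := find_sound _ _ _ h.hfind
  have := h.hT e he
  unfold entOK at this
  simp only [Bool.and_eq_true] at this
  have h3 := this.1.2
  rw [hd] at h3
  simp only [Nat.beq_refl, cond_true] at h3
  exact ⟨e, he, rep_one h3⟩

theorem Ok.mul_mem_tset (h : D.Ok) {x y : Perm (Fin D.n)} (hx : x ∈ D.tset) (hy : y ∈ D.gset) :
    x * y ∈ D.tset := by
  obtain ⟨e, he, hr⟩ := hx
  obtain ⟨p, hp, rfl⟩ := hy
  have := h.hT e he
  unfold entOK at this
  simp only [Bool.and_eq_true] at this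
  have h4 := this.2
  have hg : p.1 ∈ D.gcodes := List.mem_map.2 ⟨p, hp, rfl⟩
  obtain ⟨q, hq1, hq2⟩ := closOK_sound _ _ h4 p.1 hg
  rw [Option.isSome_iff_exists] at hq2
  obtain ⟨d, hd⟩ := hq2
  obtain ⟨e', he', hc', _⟩ := find_sound _ _ _ hd
  exact ⟨e', he', hc' ▸ rep_mul hr (h.hgens p hp) hq1⟩

theorem Ok.mul_inv_mem_tset (h : D.Ok) {x y : Perm (Fin D.n)} (hx : x ∈ D.tset) (hy : y ∈ D.gset) :
    x * y⁻¹ ∈ D.tset := by
  classical
  let φ : D.tset → D.tset := fun t => ⟨t.1 * y, h.mul_mem_tset t.2 hy⟩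
  have hinj : Function.Injective φ := by
    intro a b hab
    have : a.1 * y = b.1 * y := congrArg Subtype.val hab
    exact Subtype.ext (mul_right_cancel this)
  have hfin : Finite D.tset := Set.toFinite _ |>.to_subtype
  have hsurj : Function.Surjective φ := Finite.surjective_of_injective hinj
  obtain ⟨t, ht⟩ := hsurj ⟨x, hx⟩
  have : t.1 * y = x := congrArg Subtype.val ht
  have : t.1 = x * y⁻¹ := by rw [← this, mul_inv_cancel_right]
  exact this ▸ t.2

theorem Ok.grp_le_tset (h : D.Ok) {x : Perm (Fin D.n)} (hx : x ∈ D.grp) : x ∈ D.tset := by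
  unfold grp at hx
  induction hx using Subgroup.closure_induction_right with
  | one => exact h.one_mem_tset
  | mul_right x hx y hy ih => exact h.mul_mem_tset ih hy
  | mul_inv_cancel x hx y hy ih => exact h.mul_inv_mem_tset ih hy

theorem Ok.canon (h : D.Ok) {e : Ent} (he : e ∈ D.tree.toList) : e.c < D.n ^ D.n := by
  have := h.hT e he
  unfold entOK at this
  simp only [Bool.and_eq_true, blt_iff] at this
  exact this.1.1.1

theorem Ok.ordOK (h : D.Ok) {e : Ent} (he : e ∈ D.tree.toList) : ordOK D.n e.c e.o = true := by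
  have := h.hT e he
  unfold entOK at this
  simp only [Bool.and_eq_true] at this
  exact this.1.1.2

theorem Ok.nodup (h : D.Ok) : D.tree.toList.Nodup := by
  have : (D.tree.toList.map Ent.c).Nodup := h.hsorted.imp (fun hab => ne_of_lt hab)
  exact List.Nodup.of_map _ this

theorem Ok.ent_inj (h : D.Ok) {e e' : Ent} (he : e ∈ D.tree.toList) (he' : e' ∈ D.tree.toList)
    (hc : e.c = e'.c) : e = e' := by
  have : (D.tree.toList.map Ent.c).Nodup := h.hsorted.imp (fun hab => ne_of_lt hab)
  exact List.inj_on_of_nodup_map this he he' hc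

/-- the element of the group attached to a listed entry -/
noncomputable def Ok.elt (h : D.Ok) (e : {e // e ∈ D.tree.toList}) : D.grp :=
  ⟨(h.exists_rep e.1.d e.1 e.2 rfl).choose, (h.exists_rep e.1.d e.1 e.2 rfl).choose_spec.1⟩

theorem Ok.rep_elt (h : D.Ok) (e : {e // e ∈ D.tree.toList}) : Rep D.n e.1.c (h.elt e).1 :=
  (h.exists_rep e.1.d e.1 e.2 rfl).choose_spec.2

theorem Ok.elt_bijective (h : D.Ok) : Function.Bijective h.elt := by
  constructor
  · intro a b hab
    have h1 := h.rep_elt a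
    have h2 := h.rep_elt b
    rw [hab] at h1
    exact Subtype.ext (h.ent_inj a.2 b.2 (rep_code_inj h1 h2 (h.canon a.2) (h.canon b.2)))
  · intro x
    obtain ⟨e, he, hr⟩ := h.grp_le_tset x.2
    exact ⟨⟨e, he⟩, Subtype.ext (rep_unique (h.rep_elt ⟨e, he⟩) hr)⟩

theorem Ok.orderOf_elt (h : D.Ok) (e : {e // e ∈ D.tree.toList}) : orderOf (h.elt e) = e.1.o := by
  rw [← Subgroup.orderOf_coe]
  exact orderOf_of_ordOK (h.rep_elt e) (h.ordOK e.2)

theorem Ok.o_pos (h : D.Ok) {e : Ent} (he : e ∈ D.tree.toList) : 0 < e.o := by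
  have := h.ordOK he
  unfold OT.ordOK at this
  simp only [Bool.and_eq_true, blt_iff] at this
  exact this.1.1.1

theorem card_subtype_mem_list {α : Type*} [DecidableEq α] (l : List α) (hl : l.Nodup) :
    Nat.card {a // a ∈ l} = l.length := by
  rw [Nat.card_congr (hl.getEquiv l).symm, Nat.card_eq_fintype_card, Fintype.card_fin]

/-- the main counting theorem -/
theorem Ok.fc_eq (h : D.Ok) (d : ℕ) : fc D.grp d = D.cnt d := by
  classical
  unfold fc cnt
  let P : Ent → Bool := fun e => Nat.beq (d % e.o) 0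
  have e1 : {e : {e // e ∈ D.tree.toList} // P e.1 = true} ≃ {x : D.grp // x ^ d = 1} :=
    Equiv.subtypeEquiv (Equiv.ofBijective h.elt h.elt_bijective) (by
      intro e
      simp only [Equiv.ofBijective_apply]
      rw [← orderOf_dvd_iff_pow_eq_one, h.orderOf_elt e]
      simp only [P, beq_iff]
      exact (Nat.dvd_iff_mod_eq_zero ..).symm)
  have e2 : {e : {e // e ∈ D.tree.toList} // P e.1 = true} ≃
      {e // e ∈ D.tree.toList.filter P} :=
    (Equiv.subtypeSubtypeEquivSubtypeInter (fun e => e ∈ D.tree.toList) (fun e => P e = true)).trans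
      (Equiv.subtypeEquivRight (by intro e; rw [List.mem_filter]))
  rw [← Nat.card_congr e1, Nat.card_congr e2, card_subtype_mem_list _ (h.nodup.filter _),
    List.countP_eq_length_filter]

/-- all elements have order dividing 84 -/
theorem Ok.pow_84 (h : D.Ok) (x : D.grp) : x ^ 84 = 1 := by
  obtain ⟨e, rfl⟩ := h.elt_bijective.2 x
  rw [← orderOf_dvd_iff_pow_eq_one, h.orderOf_elt e]
  have := h.ordOK e.2
  unfold OT.ordOK at this
  simp only [Bool.and_eq_true, beq_iff] at this
  exact Nat.dvd_of_mod_eq_zero this.1.1.2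


theorem Ok.card_eq (h : D.Ok) : Nat.card D.grp = D.cnt 84 := by
  rw [← h.fc_eq 84]
  unfold fc
  exact (Nat.card_congr (Equiv.subtypeUnivEquiv (fun x => h.pow_84 x))).symm

theorem commOK_sound {n : ℕ} {root : T} :
    ∀ (gs : List ℕ) (cs : List (ℕ × ℕ)), commOK n root gs cs = true →
      ∀ g ∈ gs, ∃ c : ℕ × ℕ, (root.find c.1).isSome = true ∧ (root.find c.2).isSome = true ∧
        ∀ i < n, dg n c.1 (dg n c.2 i) = dg n g (dg n c.2 (dg n c.1 i)) := by
  intro gs
  induction gs with
  | nil => intro cs _ g hg; simp at hg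
  | cons g0 gs ih =>
    intro cs h g hg
    cases cs with
    | nil => simp [commOK] at h
    | cons c0 cs =>
      unfold commOK at h
      simp only [Bool.and_eq_true, allLt_iff, beq_iff] at h
      obtain ⟨⟨⟨h1, h2⟩, h3⟩, h4⟩ := h
      rcases List.mem_cons.1 hg with rfl | hg
      · exact ⟨c0, h1, h2, h3⟩
      · exact ih cs h4 g hg

theorem Ok.exists_of_find (h : D.Ok) {c : ℕ} (hc : (D.tree.find c).isSome = true) :
    ∃ x ∈ D.grp, Rep D.n c x := by
  rw [Option.isSome_iff_exists] at hc
  obtain ⟨d, hd⟩ := hc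
  obtain ⟨e, he, hce, _⟩ := find_sound _ _ _ hd
  obtain ⟨x, hx, hr⟩ := h.exists_rep e.d e he rfl
  exact ⟨x, hx, hce ▸ hr⟩

theorem Ok.commutator_eq_top (h : D.Ok) (cs : List (ℕ × ℕ)) (hc : D.chkPerfect cs = true) :
    commutator D.grp = ⊤ := by
  have hgen : ∀ γ ∈ D.gset, γ ∈ (commutator D.grp).map D.grp.subtype := by
    rintro γ ⟨p, hp, rfl⟩
    have hg : p.1 ∈ D.gcodes := List.mem_map.2 ⟨p, hp, rfl⟩
    obtain ⟨c, h1, h2, h3⟩ := commOK_sound _ _ hc p.1 hg
    obtain ⟨x, hx, hrx⟩ := h.exists_of_find h1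
    obtain ⟨y, hy, hry⟩ := h.exists_of_find h2
    have hrel : x * y = gperm D.n p.1 p.2 * y * x := by
      ext i
      rw [Perm.mul_apply, Perm.mul_apply, Perm.mul_apply, hrx (y i), hry i,
        h.hgens p hp (y (x i)), hry (x i), hrx i]
      exact h3 i i.2
    have hγ : gperm D.n p.1 p.2 = x * y * x⁻¹ * y⁻¹ := by
      rw [hrel]; group
    refine ⟨⁅(⟨x, hx⟩ : D.grp), ⟨y, hy⟩⁆, ?_, ?_⟩
    · rw [commutator_def]
      exact Subgroup.commutator_mem_commutator (Subgroup.mem_top _) (Subgroup.mem_top _)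
    · rw [hγ, commutatorElement_def]
      rfl
  have hle : D.grp ≤ (commutator D.grp).map D.grp.subtype := by
    unfold grp
    rw [Subgroup.closure_le]
    exact hgen
  rw [eq_top_iff]
  intro a _
  obtain ⟨b, hb, hba⟩ := hle a.2
  have : b = a := Subtype.ext hba
  exact this ▸ hb

theorem Ok.not_solvable (h : D.Ok) (cs : List (ℕ × ℕ)) (hc : D.chkPerfect cs = true)
    (hcard : 1 < D.cnt 84) : ¬ Group.IsSolvable D.grp := by
  intro hs
  have : Nontrivial D.grp := by
    rw [← Finite.one_lt_card_iff_nontrivial, h.card_eq]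
    exact hcard
  exact (Group.IsSolvable.commutator_lt_top_of_nontrivial D.grp).ne (h.commutator_eq_top cs hc)

end Data

end Cfsg.Agent.Helper35.OT
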