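import Mathlib

/-!
# Weighted Burnside lemma (helper35)
-/

set_option autoImplicit false

namespace Cfsg.Agent.Helper35.WB

open MulAction

variable {Γ X : Type*} [Group Γ] [MulAction Γ X]

theorem card_fibre_mul_card_stabilizer [Finite Γ] [Fintype X] [DecidableEq (orbitRel.Quotient Γ X)]
    (x₀ : X) :
    (Finset.univ.filter (fun x : X => (Quotient.mk'' x : orbitRel.Quotient Γ X) = Quotient.mk'' x₀)).card
      * Nat.card (stabilizer Γ x₀) = Nat.card Γ := by
  classical
  have h1 : (Finset.univ.filter (fun x : X => (Quotient.mk'' x : orbitRel.Quotient Γ X)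
      = Quotient.mk'' x₀)).card = Nat.card (orbit Γ x₀) := by
    rw [Nat.card_eq_fintype_card, Fintype.card_subtype]
    congr 1
    ext x
    simp only [Finset.mem_filter, Finset.mem_univ, true_and]
    rw [Quotient.eq'']
    rfl
  rw [h1]
  have e := MulAction.orbitProdStabilizerEquivGroup Γ x₀
  have := Nat.card_congr e
  rwa [Nat.card_prod] at this

/-- weighted Burnside lemma -/
theorem sum_mul_card_stabilizer [Finite Γ] [Fintype X] [Fintype (orbitRel.Quotient Γ X)]
    (g : X → ℕ) (hg : ∀ (γ : Γ) (x : X), g (γ • x) = g x) :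
    ∑ x : X, g x * Nat.card (stabilizer Γ x) =
      Nat.card Γ * ∑ o : orbitRel.Quotient Γ X, g o.out := by
  classical
  rw [← Finset.sum_fiberwise (s := Finset.univ)
    (g := fun x : X => (Quotient.mk'' x : orbitRel.Quotient Γ X))]
  rw [Finset.mul_sum]
  apply Finset.sum_congr rfl
  intro o _
  have ho : (Quotient.mk'' o.out : orbitRel.Quotient Γ X) = o := Quotient.out_eq' o
  have hx : ∀ x ∈ Finset.univ.filter (fun x : X => (Quotient.mk'' x : orbitRel.Quotient Γ X) = o),
      g x * Nat.card (stabilizer Γ x) = g o.out * Nat.card (stabilizer Γ o.out) := by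
    intro x hx
    rw [Finset.mem_filter] at hx
    have hrel : orbitRel Γ X x o.out := by
      have : (Quotient.mk'' x : orbitRel.Quotient Γ X) = Quotient.mk'' o.out := by rw [hx.2, ho]
      exact Quotient.eq''.mp this
    have hmem : x ∈ orbit Γ o.out := hrel
    obtain ⟨γ, hγ⟩ := hmem
    have h1 : g x = g o.out := by rw [← hγ]; exact hg γ _
    have h2 : Nat.card (stabilizer Γ x) = Nat.card (stabilizer Γ o.out) :=
      Nat.card_congr (MulAction.stabilizerEquivStabilizerOfOrbitRel hrel).toEquiv
    rw [h1, h2]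
  rw [Finset.sum_congr rfl hx, Finset.sum_const, smul_eq_mul]
  have := card_fibre_mul_card_stabilizer (Γ := Γ) (X := X) o.out
  rw [ho] at this
  rw [← this]
  ring

end Cfsg.Agent.Helper35.WB
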