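import Mathlib
import Cfsg.Agent.Lib.Helper45.PClasses
import Cfsg.Agent.Lib.Helper35.WBurnside

/-!
# Orbits of `N_G(Q)` on a Sylow subgroup `Q` (helper35), towards S3898
-/

set_option autoImplicit false

namespace Cfsg.Agent.Helper35.PiS

open Subgroup MulAction Cfsg.Agent.Helper45.PCl

variable {G : Type*} [Group G] [Finite G] {p : ℕ} [hp : Fact p.Prime]

/-- the index `|N_G(Q) : C_G(Q)|` -/
noncomputable def mIdx (Q : Sylow p G) : ℕ :=
  ((centralizer ((Q : Subgroup G) : Set G)).subgroupOf
    (normalizer ((Q : Subgroup G) : Set G))).index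

theorem mIdx_pos (Q : Sylow p G) : 0 < mIdx Q :=
  Nat.pos_of_ne_zero Subgroup.index_ne_zero_of_finite

theorem mIdx_eq_one_iff (Q : Sylow p G) :
    mIdx Q = 1 ↔ normalizer ((Q : Subgroup G) : Set G) ≤ centralizer ((Q : Subgroup G) : Set G) := by
  unfold mIdx
  rw [Subgroup.index_eq_one, Subgroup.subgroupOf_eq_top]

theorem card_cent_mul_mIdx (Q : Sylow p G) :
    Nat.card (centralizer ((Q : Subgroup G) : Set G)) * mIdx Q =
      Nat.card (normalizer ((Q : Subgroup G) : Set G)) := by
  unfold mIdx
  have h := ((centralizer ((Q : Subgroup G) : Set G)).subgroupOf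
    (normalizer ((Q : Subgroup G) : Set G))).card_mul_index
  rw [← h]
  congr 1
  exact (Nat.card_congr (Subgroup.subgroupOfEquivOfLe
    (centralizer_le_normalizer ((Q : Subgroup G) : Set G))).toEquiv).symm

/-- Burnside count: `p m #orbits ≤ (p + m - 1) |Q|`. -/
theorem orbits_bound (Q : Sylow p G) :
    p * mIdx Q *
      Nat.card (orbitRel.Quotient (normalizer ((Q : Subgroup G) : Set G)) (Q : Subgroup G)) ≤
      (p + mIdx Q - 1) * Nat.card (Q : Subgroup G) := by
  classical
  set N := normalizer ((Q : Subgroup G) : Set G) with hNdef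
  let _ : Fintype N := Fintype.ofFinite _
  let _ : Fintype (Q : Subgroup G) := Fintype.ofFinite _
  let _ : Fintype (orbitRel.Quotient N (Q : Subgroup G)) := Fintype.ofFinite _
  have hB := MulAction.sum_card_fixedBy_eq_card_orbits_mul_card_group N (Q : Subgroup G)
  set s := Nat.card (Q : Subgroup G) with hs
  set w := Nat.card (orbitRel.Quotient N (Q : Subgroup G)) with hw
  set m := mIdx Q with hm
  have hfix : ∀ n : N, Fintype.card (fixedBy (Q : Subgroup G) n) = Nat.card (fixSub Q n) := by
    intro n
    rw [← Nat.card_eq_fintype_card]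
    rfl
  set Cf : Finset N := Finset.univ.filter
    (fun n : N => (n : G) ∈ centralizer ((Q : Subgroup G) : Set G)) with hCf
  set Cf' : Finset N := Finset.univ.filter
    (fun n : N => ¬ (n : G) ∈ centralizer ((Q : Subgroup G) : Set G)) with hCf'
  have hab : Cf.card + Cf'.card = Fintype.card N := by
    rw [hCf, hCf']
    exact Finset.card_filter_add_card_filter_not (s := (Finset.univ : Finset N)) _ |>.trans (by simp)
  have hsum : ∑ n : N, p * Fintype.card (fixedBy (Q : Subgroup G) n) ≤
      ∑ n : N, (if (n : G) ∈ centralizer ((Q : Subgroup G) : Set G) then p * s else s) := by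
    apply Finset.sum_le_sum
    intro n _
    rw [hfix n]
    split_ifs with h
    · apply Nat.mul_le_mul_left
      exact Nat.card_le_card_of_injective _ Subtype.val_injective
    · exact p_mul_card_fixSub_le Q n h
  have hsum2 : ∑ n : N, (if (n : G) ∈ centralizer ((Q : Subgroup G) : Set G) then p * s else s) =
      Cf.card * (p * s) + Cf'.card * s := by
    rw [Finset.sum_ite, Finset.sum_const, Finset.sum_const, smul_eq_mul, smul_eq_mul]
  have hcard : Nat.card ((centralizer ((Q : Subgroup G) : Set G)).subgroupOf N) = Cf.card := by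
    rw [hCf, ← Fintype.card_subtype, ← Nat.card_eq_fintype_card]
    rfl
  have hmul : Cf.card * m = Fintype.card N := by
    have := ((centralizer ((Q : Subgroup G) : Set G)).subgroupOf N).card_mul_index
    rw [hcard, Nat.card_eq_fintype_card] at this
    exact this
  have hBsum : p * (w * Fintype.card N) ≤ Cf.card * (p * s) + Cf'.card * s := by
    rw [hw, Nat.card_eq_fintype_card, ← hB, Finset.mul_sum]
    exact hsum.trans hsum2.le
  have hcpos : 0 < Cf.card := by
    rcases Nat.eq_zero_or_pos Cf.card with h | h
    · rw [h, zero_mul] at hmul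
      exact absurd hmul.symm (Fintype.card_pos (α := N)).ne'
    · exact h
  have hmpos : 0 < m := mIdx_pos Q
  have hp1 : 1 ≤ p := hp.out.one_lt.le
  have hC' : Cf'.card = Cf.card * m - Cf.card := by omega
  have key : (p * m * w) * Cf.card ≤ ((p + m - 1) * s) * Cf.card := by
    clear_value m
    obtain ⟨m', rfl⟩ : ∃ m', m = m' + 1 := ⟨m - 1, by omega⟩
    have hC'' : Cf'.card = Cf.card * m' := by rw [hC']; ring_nf; omega
    rw [← hmul, hC''] at hBsum
    have : p + (m' + 1) - 1 = p + m' := by omega
    rw [this]
    nlinarith [hBsum]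
  exact Nat.le_of_mul_le_mul_right key hcpos

end Cfsg.Agent.Helper35.PiS
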