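import Mathlib
import Cfsg.Agent.Lib.Helper35.PiSylowA
import Cfsg.Agent.Lib.Helper52.CoprimeSylow

/-!
# The case `|N_G(Q) : C_G(Q)| = 2` (helper35), towards S3898
-/

set_option autoImplicit false

namespace Cfsg.Agent.Helper35.PiS

open Subgroup MulAction Cfsg.Agent.Helper45.PCl

variable {G : Type*} [Group G]

/-- the weight: the `2`-part of the order of the centralizer -/
noncomputable def wt (x : G) : ℕ := 2 ^ (Nat.card (centralizer ({x} : Set G))).factorization 2

theorem mem_of_coprime_index [Finite G] (M : Subgroup G) [M.Normal] (x : G)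
    (h : (orderOf x).Coprime M.index) : x ∈ M := by
  have h1 : (QuotientGroup.mk x : G ⧸ M) ^ M.index = 1 := by
    rw [Subgroup.index_eq_card]
    exact pow_card_eq_one'
  have h2 : (QuotientGroup.mk x : G ⧸ M) ^ orderOf x = 1 := by
    rw [← QuotientGroup.mk_pow, pow_orderOf_eq_one]
    rfl
  have h3 := pow_gcd_eq_one.mpr ⟨h2, h1⟩
  rw [Nat.Coprime] at h
  rw [h, pow_one] at h3
  exact (QuotientGroup.eq_one_iff x).mp h3

theorem wt_conj (g x : G) : wt (g * x * g⁻¹) = wt x := by
  unfold wt
  congr 2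
  have e : centralizer ({g * x * g⁻¹} : Set G) ≃ centralizer ({x} : Set G) :=
    { toFun := fun y => ⟨g⁻¹ * y * g, by
        have hy := y.2
        rw [mem_centralizer_iff] at hy ⊢
        intro z hz
        rw [Set.mem_singleton_iff] at hz
        subst hz
        have := hy (g * z * g⁻¹) rfl
        calc z * (g⁻¹ * ↑y * g) = g⁻¹ * ((g * z * g⁻¹) * y) * g := by group
          _ = g⁻¹ * (y * (g * z * g⁻¹)) * g := by rw [this]
          _ = g⁻¹ * ↑y * g * z := by group⟩
      invFun := fun y => ⟨g * y * g⁻¹, by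
        have hy := y.2
        rw [mem_centralizer_iff] at hy ⊢
        intro z hz
        rw [Set.mem_singleton_iff] at hz
        subst hz
        have := hy x rfl
        calc g * x * g⁻¹ * (g * ↑y * g⁻¹) = g * (x * y) * g⁻¹ := by group
          _ = g * (y * x) * g⁻¹ := by rw [this]
          _ = g * ↑y * g⁻¹ * (g * x * g⁻¹) := by group⟩
      left_inv := fun y => by apply Subtype.ext; simp only; group
      right_inv := fun y => by apply Subtype.ext; simp only; group }
  rw [Nat.card_congr e]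

theorem wt_le [Finite G] (x : G) : wt x ≤ 2 ^ (Nat.card G).factorization 2 := by
  unfold wt
  apply Nat.le_of_dvd (Nat.pos_of_ne_zero (by positivity))
  exact Nat.ordProj_dvd_ordProj_of_dvd Nat.card_pos.ne' (Subgroup.card_subgroup_dvd_card _) 2


variable [Finite G] {p : ℕ} [hp : Fact p.Prime]

theorem isMulCommutative_of_prime_mIdx (Q : Sylow p G) (hm : (mIdx Q).Prime) :
    IsMulCommutative (Q : Subgroup G) := by
  set N := normalizer ((Q : Subgroup G) : Set G) with hN
  set Cs := (centralizer ((Q : Subgroup G) : Set G)).subgroupOf N with hCs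
  have : Fact (mIdx Q).Prime := ⟨hm⟩
  have hcard : Nat.card (N ⧸ Cs) = mIdx Q := by rw [← Subgroup.index_eq_card]; rfl
  have hcyc : IsCyclic (N ⧸ Cs) := isCyclic_of_prime_card hcard
  let f : (Q : Subgroup G) →* N ⧸ Cs :=
    (QuotientGroup.mk' Cs).comp (Subgroup.inclusion le_normalizer)
  apply MonoidHom.isMulCommutative_of_isCyclic_of_ker_le_center f
  intro x hx
  rw [MonoidHom.mem_ker] at hx
  have hx' : Subgroup.inclusion le_normalizer x ∈ Cs := by
    rw [← QuotientGroup.eq_one_iff]; exact hx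
  rw [hCs, mem_subgroupOf] at hx'
  rw [Subgroup.mem_center_iff]
  intro y
  apply Subtype.ext
  have := (mem_centralizer_iff.mp hx') y y.2
  exact this

omit [Finite G] hp in
theorem le_centralizer_of_comm (Q : Sylow p G) [IsMulCommutative (Q : Subgroup G)] :
    (Q : Subgroup G) ≤ centralizer ((Q : Subgroup G) : Set G) := by
  intro x hx
  rw [mem_centralizer_iff]
  intro y hy
  exact setLike_mul_comm hy hx

theorem not_dvd_mIdx_of_comm (Q : Sylow p G) [IsMulCommutative (Q : Subgroup G)] :
    ¬ p ∣ mIdx Q := by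
  intro hdvd
  have h1 := Subgroup.relIndex_mul_relIndex (Q : Subgroup G)
    (centralizer ((Q : Subgroup G) : Set G)) (normalizer ((Q : Subgroup G) : Set G))
    (le_centralizer_of_comm Q) (centralizer_le_normalizer _)
  have h2 : mIdx Q ∣ (Q : Subgroup G).relIndex (normalizer ((Q : Subgroup G) : Set G)) := by
    rw [← h1]; exact Dvd.intro_left _ rfl
  have h3 := Subgroup.relIndex_dvd_index_of_le (le_normalizer (H := (Q : Subgroup G)))
  exact Q.not_dvd_index (hdvd.trans (h2.trans h3))

/-- In the case `|N:C| = 2`: an element of `Q` moved by `N` has small weight. -/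
theorem two_mul_wt_le (hp2 : p ≠ 2) (Q : Sylow p G) [hQc : IsMulCommutative (Q : Subgroup G)]
    (hm : mIdx Q = 2) (K₀ : Subgroup G) [hK₀n : K₀.Normal] (hK₀odd : ¬ 2 ∣ Nat.card K₀)
    (hK₀idx : K₀.index = 2 ^ (Nat.card G).factorization 2)
    (u : G) (hu : u ∈ (Q : Subgroup G))
    (ν₀ : G) (hν₀ : ν₀ ∈ normalizer ((Q : Subgroup G) : Set G)) (hν₀u : ν₀ * u * ν₀⁻¹ ≠ u) :
    2 * wt u ≤ 2 ^ (Nat.card G).factorization 2 := by
  by_contra hcon
  set a := (Nat.card G).factorization 2 with ha
  set D := centralizer ({u} : Set G) with hD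
  set N := normalizer ((Q : Subgroup G) : Set G) with hN
  set C := centralizer ((Q : Subgroup G) : Set G) with hC
  have hn0 : Nat.card G ≠ 0 := Nat.card_pos.ne'
  have hDa : (Nat.card D).factorization 2 = a := by
    have h1 : (Nat.card D).factorization 2 ≤ a :=
      (Nat.factorization_le_iff_dvd Nat.card_pos.ne' hn0).mpr (Subgroup.card_subgroup_dvd_card D) 2
    have h2 : ¬ (Nat.card D).factorization 2 < a := by
      intro hlt
      apply hcon
      unfold wt
      calc 2 * 2 ^ (Nat.card D).factorization 2 = 2 ^ ((Nat.card D).factorization 2 + 1) := by ring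
        _ ≤ 2 ^ a := Nat.pow_le_pow_right (by norm_num) hlt
    omega
  -- a Sylow 2-subgroup of D
  obtain ⟨S₂⟩ : Nonempty (Sylow 2 D) := inferInstance
  set Q₂ : Subgroup G := (S₂ : Subgroup D).map D.subtype with hQ₂
  have hQ₂card : Nat.card Q₂ = 2 ^ a := by
    rw [hQ₂, Subgroup.card_map_of_injective D.subtype_injective, S₂.card_eq_multiplicity, hDa]
  have hQ₂D : Q₂ ≤ D := by
    rintro x ⟨y, _, rfl⟩
    exact y.2
  have hQ₂p : IsPGroup 2 Q₂ := IsPGroup.of_card hQ₂card
  -- elements of `Q` lie in `K₀`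
  have hQK₀ : (Q : Subgroup G) ≤ K₀ := by
    intro x hx
    apply mem_of_coprime_index K₀ x
    obtain ⟨k, hk⟩ := exists_pow_of_mem Q hx
    rw [hk, hK₀idx]
    exact Nat.Coprime.pow k a ((Nat.coprime_primes hp.out Nat.prime_two).mpr hp2)
  have hQD : (Q : Subgroup G) ≤ D := by
    intro x hx
    rw [hD, mem_centralizer_iff]
    intro y hy
    rw [Set.mem_singleton_iff] at hy
    subst hy
    exact setLike_mul_comm hu hx
  set M := K₀ ⊓ D with hM
  have hQM : (Q : Subgroup G) ≤ M := le_inf hQK₀ hQD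
  have hMK₀ : Nat.card M ∣ Nat.card K₀ := Subgroup.card_dvd_of_le inf_le_left
  have hModd : ¬ 2 ∣ Nat.card M := fun h => hK₀odd (h.trans hMK₀)
  -- Q₂ normalizes M
  have hQ₂M : Q₂ ≤ normalizer (M : Set G) := by
    intro q hq
    have hqD : q ∈ D := hQ₂D hq
    rw [mem_normalizer_iff]
    intro x
    rw [hM, Subgroup.mem_inf, Subgroup.mem_inf]
    constructor
    · rintro ⟨h1, h2⟩
      exact ⟨hK₀n.conj_mem x h1 q, D.mul_mem (D.mul_mem hqD h2) (D.inv_mem hqD)⟩
    · rintro ⟨h1, h2⟩
      constructor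
      · have := hK₀n.conj_mem _ h1 q⁻¹
        have e : q⁻¹ * (q * x * q⁻¹) * q⁻¹⁻¹ = x := by group
        rwa [e] at this
      · have := D.mul_mem (D.mul_mem (D.inv_mem hqD) h2) hqD
        have e : q⁻¹ * (q * x * q⁻¹) * q = x := by group
        rwa [e] at this
  have hcop : (Nat.card Q₂).Coprime (Nat.card M) := by
    rw [hQ₂card]
    exact Nat.Coprime.pow_left a ((Nat.Prime.coprime_iff_not_dvd Nat.prime_two).mpr hModd)
  have hsolv : Group.IsSolvable Q₂ := by
    have := hQ₂p.isNilpotent
    infer_instance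
  have hUM : zpowers u ≤ M := by
    rw [zpowers_le]
    exact hQM hu
  have hUp : IsPGroup p (zpowers u) := (Q.2.to_le (by rw [zpowers_le]; exact hu))
  have hQ₂U : Q₂ ≤ normalizer ((zpowers u : Subgroup G) : Set G) := by
    intro q hq
    have hqD : q ∈ D := hQ₂D hq
    have hqu : u * q = q * u := (mem_centralizer_iff.mp hqD) u rfl
    rw [mem_normalizer_iff]
    intro x
    have hconj : ∀ y : G, y ∈ zpowers u → y * q = q * y := by
      intro y hy
      obtain ⟨k, rfl⟩ := mem_zpowers_iff.mp hy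
      exact ((Commute.zpow_left (show Commute u q from hqu) k).eq)
    constructor
    · intro hx
      have : q * x * q⁻¹ = x := by rw [← hconj x hx]; group
      rwa [this]
    · intro hx
      have h1 := hconj _ hx
      have : x = q * x * q⁻¹ := by
        have : q * x * q⁻¹ * q = q * (q * x * q⁻¹) := h1
        have h2 : q * x = q * (q * x * q⁻¹) := by rw [← this]; group
        exact mul_left_cancel h2
      rw [this]; exact hx
  obtain ⟨R, hRM, hRcard, hUR, hQ₂R⟩ :=
    Cfsg.Agent.Helper52.exists_invariant_sylow_ge Q₂ M hQ₂M hcop (Or.inl hsolv) p (zpowers u)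
      hUM hUp hQ₂U
  -- R is a Sylow p-subgroup of G
  have hMp : (Nat.card M).factorization p = (Nat.card G).factorization p := by
    apply le_antisymm
    · exact (Nat.factorization_le_iff_dvd Nat.card_pos.ne' hn0).mpr
        (Subgroup.card_subgroup_dvd_card M) p
    · have h1 : Nat.card (Q : Subgroup G) ∣ Nat.card M := Subgroup.card_dvd_of_le hQM
      rw [Q.card_eq_multiplicity] at h1
      exact (Nat.Prime.pow_dvd_iff_le_factorization hp.out Nat.card_pos.ne').mp h1
  have hRcard' : Nat.card R = p ^ (Nat.card G).factorization p := by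
    rw [hRcard, Cfsg.Agent.Helper52.sylCard, hMp]
  set R' : Sylow p G := Sylow.ofCard R hRcard' with hR'
  have hR'coe : (R' : Subgroup G) = R := Sylow.coe_ofCard R hRcard'
  obtain ⟨g, hg⟩ := MulAction.exists_smul_eq G Q R'
  have huR : u ∈ (R' : Subgroup G) := by rw [hR'coe]; exact hUR (mem_zpowers u)
  have hy : g⁻¹ * u * g ∈ (Q : Subgroup G) := by
    rw [← hg, Sylow.coe_subgroup_smul, Subgroup.mem_pointwise_smul_iff_inv_smul_mem] at huR
    have h3 : (MulAut.conj g)⁻¹ • u = g⁻¹ * u * g := by simp [MulAut.smul_def]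
    rwa [h3] at huR
  obtain ⟨ν, hν, hfus⟩ := Sylow.conj_eq_normalizer_conj_of_mem Q u g hu hy
  set h := g * ν⁻¹ with hh
  have hνQ : ν • Q = Q := Sylow.smul_eq_iff_mem_normalizer.mpr hν
  have hhQ : h • Q = R' := by
    rw [hh, mul_smul]
    have : ν⁻¹ • Q = Q := by rw [inv_smul_eq_iff, hνQ]
    rw [this, hg]
  have hhu : h⁻¹ * u * h = u := by
    rw [hh]
    calc (g * ν⁻¹)⁻¹ * u * (g * ν⁻¹) = ν * (g⁻¹ * u * g) * ν⁻¹ := by group
      _ = ν * (ν⁻¹ * u * ν) * ν⁻¹ := by rw [hfus]
      _ = u := by group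
  -- conjugate of Q₂ by h⁻¹ lies in N ⊓ D
  set T := N ⊓ D with hT
  have hconjT : ∀ q ∈ Q₂, h⁻¹ * q * h ∈ T := by
    intro q hq
    rw [hT, Subgroup.mem_inf]
    constructor
    · rw [hN]
      apply Sylow.smul_eq_iff_mem_normalizer.mp
      rw [mul_smul, mul_smul, hhQ]
      have hqR : q • R' = R' := by
        apply Sylow.smul_eq_iff_mem_normalizer.mpr
        have : q ∈ normalizer ((R' : Subgroup G) : Set G) := by rw [hR'coe]; exact hQ₂R hq
        exact this
      rw [hqR, inv_smul_eq_iff, hhQ]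
    · rw [hD, mem_centralizer_iff]
      intro y hy
      rw [Set.mem_singleton_iff] at hy
      subst hy
      have hqu : y * q = q * y := (mem_centralizer_iff.mp (hQ₂D hq)) y rfl
      have hhu' : h * y * h⁻¹ = y := by
        calc h * y * h⁻¹ = h * (h⁻¹ * y * h) * h⁻¹ := by rw [hhu]
          _ = y := by group
      calc y * (h⁻¹ * q * h) = h⁻¹ * ((h * y * h⁻¹) * q) * h := by group
        _ = h⁻¹ * (q * (h * y * h⁻¹)) * h := by rw [hhu', hqu]
        _ = h⁻¹ * q * h * y := by group
  -- T ≤ C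
  have hCN : C ≤ N := centralizer_le_normalizer _
  have hCT : C ≤ T := by
    refine le_inf hCN ?_
    intro c hc
    rw [hD, mem_centralizer_iff]
    intro y hy
    rw [Set.mem_singleton_iff] at hy
    subst hy
    exact (mem_centralizer_iff.mp hc) y hu
  have hTN : T ≤ N := inf_le_left
  have hrel := Subgroup.relIndex_mul_relIndex C T N hCT hTN
  have hCNidx : C.relIndex N = 2 := hm
  rw [hCNidx] at hrel
  have hTne : T.relIndex N ≠ 1 := by
    rw [Ne, Subgroup.relIndex_eq_one]
    intro hNT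
    have : ν₀ ∈ D := (hNT hν₀).2
    apply hν₀u
    have h1 : u * ν₀ = ν₀ * u := (mem_centralizer_iff.mp this) u rfl
    rw [← h1]; group
  have hTC : T ≤ C := by
    rw [← Subgroup.relIndex_eq_one]
    have hd : T.relIndex N ∣ 2 := Dvd.intro_left _ hrel
    rcases (Nat.dvd_prime Nat.prime_two).mp hd with h1 | h2
    · exact absurd h1 hTne
    · rw [h2] at hrel
      omega
  -- the conjugate of Q₂ lies in C
  have hQ₂C : Q₂.map (MulAut.conj h⁻¹).toMonoidHom ≤ C := by
    rintro x ⟨q, hq, rfl⟩
    have := hTC (hconjT q hq)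
    simpa [MulAut.conj_apply] using this
  have hdvd1 : 2 ^ a ∣ Nat.card C := by
    rw [← hQ₂card, ← Cfsg.Agent.Helper52.card_map_conj h⁻¹ Q₂]
    exact Subgroup.card_dvd_of_le hQ₂C
  have hCN2 : Nat.card C * 2 = Nat.card N := by
    have := card_cent_mul_mIdx Q
    rwa [hm] at this
  have hdvd2 : 2 ^ (a + 1) ∣ Nat.card G := by
    have h1 : 2 ^ (a + 1) ∣ Nat.card N := by
      rw [← hCN2, pow_succ]
      exact Nat.mul_dvd_mul_right hdvd1 2
    exact h1.trans (Subgroup.card_subgroup_dvd_card N)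
  exact Nat.pow_succ_factorization_not_dvd hn0 Nat.prime_two hdvd2

end Cfsg.Agent.Helper35.PiS
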