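import Mathlib
import Cfsg.Agent.Lib.Helper35.PiSylowB

/-!
# Weighted orbit sums for `N_G(Q)` on `Q` (helper35), towards S3898
-/

set_option autoImplicit false

namespace Cfsg.Agent.Helper35.PiS

open Subgroup MulAction Cfsg.Agent.Helper45.PCl

variable {G : Type*} [Group G] [Finite G] {p : ℕ} [hp : Fact p.Prime]

/-- the orbit sum of the weights -/
noncomputable def orbSum (Q : Sylow p G) : ℕ :=
  letI : Fintype (orbitRel.Quotient (normalizer ((Q : Subgroup G) : Set G)) (Q : Subgroup G)) :=
    Fintype.ofFinite _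
  ∑ o : orbitRel.Quotient (normalizer ((Q : Subgroup G) : Set G)) (Q : Subgroup G),
    wt ((o.out : (Q : Subgroup G)) : G)

theorem orbSum_le_of_big (hp2 : p ≠ 2) (Q : Sylow p G)
    (hbig : 2 * (p + mIdx Q - 1) ≤ p * mIdx Q) :
    2 * orbSum Q ≤ 2 ^ (Nat.card G).factorization 2 * Nat.card (Q : Subgroup G) := by
  classical
  unfold orbSum
  letI : Fintype (orbitRel.Quotient (normalizer ((Q : Subgroup G) : Set G)) (Q : Subgroup G)) :=
    Fintype.ofFinite _
  set W := 2 ^ (Nat.card G).factorization 2 with hW
  set s := Nat.card (Q : Subgroup G) with hs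
  set m := mIdx Q with hm
  have h1 : ∑ o : orbitRel.Quotient (normalizer ((Q : Subgroup G) : Set G)) (Q : Subgroup G),
      wt ((o.out : (Q : Subgroup G)) : G) ≤
      Nat.card (orbitRel.Quotient (normalizer ((Q : Subgroup G) : Set G)) (Q : Subgroup G)) * W := by
    rw [Nat.card_eq_fintype_card, ← Finset.card_univ, ← smul_eq_mul, ← Finset.sum_const]
    exact Finset.sum_le_sum (fun o _ => wt_le _)
  set w := Nat.card (orbitRel.Quotient (normalizer ((Q : Subgroup G) : Set G)) (Q : Subgroup G))
    with hw
  have h2 := orbits_bound Q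
  rw [← hm, ← hw, ← hs] at h2
  have hmpos : 0 < m := mIdx_pos Q
  have hppos : 0 < p := hp.out.pos
  have h3 : 2 * w ≤ s := by
    have : (2 * w) * (p * m) ≤ s * (p * m) := by
      calc (2 * w) * (p * m) = 2 * (p * m * w) := by ring
        _ ≤ 2 * ((p + m - 1) * s) := Nat.mul_le_mul_left _ h2
        _ = (2 * (p + m - 1)) * s := by ring
        _ ≤ (p * m) * s := Nat.mul_le_mul_right _ hbig
        _ = s * (p * m) := by ring
    exact Nat.le_of_mul_le_mul_right this (Nat.mul_pos hppos hmpos)
  calc 2 * ∑ o : orbitRel.Quotient (normalizer ((Q : Subgroup G) : Set G)) (Q : Subgroup G),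
      wt ((o.out : (Q : Subgroup G)) : G) ≤ 2 * (w * W) := Nat.mul_le_mul_left _ h1
    _ = (2 * w) * W := by ring
    _ ≤ s * W := Nat.mul_le_mul_right _ h3
    _ = W * s := by ring

theorem orbSum_le_of_two (hp2 : p ≠ 2) (Q : Sylow p G) (hm : mIdx Q = 2)
    (K₀ : Subgroup G) [hK₀n : K₀.Normal] (hK₀odd : ¬ 2 ∣ Nat.card K₀)
    (hK₀idx : K₀.index = 2 ^ (Nat.card G).factorization 2) :
    2 * orbSum Q ≤ 2 ^ (Nat.card G).factorization 2 * Nat.card (Q : Subgroup G) := by
  classical
  have hQc : IsMulCommutative (Q : Subgroup G) :=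
    isMulCommutative_of_prime_mIdx Q (by rw [hm]; exact Nat.prime_two)
  unfold orbSum
  set N := normalizer ((Q : Subgroup G) : Set G) with hN
  letI : Fintype (orbitRel.Quotient N (Q : Subgroup G)) := Fintype.ofFinite _
  letI : Fintype (Q : Subgroup G) := Fintype.ofFinite _
  set W := 2 ^ (Nat.card G).factorization 2 with hW
  set s := Nat.card (Q : Subgroup G) with hs
  have hWB := WB.sum_mul_card_stabilizer (Γ := N) (X := (Q : Subgroup G))
    (fun u => wt (u : G)) (by
      intro γ x
      show wt ((γ : G) * x * (γ : G)⁻¹) = wt (x : G)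
      exact wt_conj _ _)
  -- the fixed points of N
  set F : Finset (Q : Subgroup G) := Finset.univ.filter (fun u => ∀ ν : N, ν • u = u) with hF
  -- an element of N outside C
  have hex : ∃ ν₀ : N, (ν₀ : G) ∉ centralizer ((Q : Subgroup G) : Set G) := by
    by_contra hcon
    push_neg at hcon
    have : N ≤ centralizer ((Q : Subgroup G) : Set G) := fun x hx => hcon ⟨x, hx⟩
    have h1 := (mIdx_eq_one_iff Q).mpr this
    omega
  obtain ⟨ν₀, hν₀⟩ := hex
  have hFcard : 3 * F.card ≤ s := by
    have h1 : F.card ≤ Nat.card (fixSub Q ν₀) := by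
      rw [← Fintype.card_coe, ← Nat.card_eq_fintype_card]
      apply Nat.card_le_card_of_injective
        (fun u : F => (⟨u.1, (Finset.mem_filter.mp u.2).2 ν₀⟩ : fixSub Q ν₀))
      intro u v huv
      apply Subtype.ext
      exact congrArg (fun z : fixSub Q ν₀ => (z : (Q : Subgroup G))) huv
    have h2 := p_mul_card_fixSub_le Q ν₀ hν₀
    have hp3 : 3 ≤ p := by
      have := hp.out.two_le
      omega
    calc 3 * F.card ≤ p * Nat.card (fixSub Q ν₀) := Nat.mul_le_mul hp3 h1
      _ ≤ s := h2
  -- termwise bound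
  have hterm : ∀ u : (Q : Subgroup G), 4 * (wt (u : G) * Nat.card (stabilizer N u)) ≤
      (if u ∈ F then 4 * (W * Nat.card N) else W * Nat.card N) := by
    intro u
    split_ifs with huF
    · apply Nat.mul_le_mul_left
      exact Nat.mul_le_mul (wt_le _) (Nat.card_le_card_of_injective _ Subtype.val_injective)
    · rw [hF, Finset.mem_filter] at huF
      simp only [Finset.mem_univ, true_and, not_forall] at huF
      obtain ⟨ν, hν⟩ := huF
      have h1 : 2 * wt (u : G) ≤ W := by
        apply two_mul_wt_le hp2 Q hm K₀ hK₀odd hK₀idx (u : G) u.2 (ν : G) ν.2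
        intro h
        apply hν
        apply Subtype.ext
        exact h
      have h2 : 2 * Nat.card (stabilizer N u) ≤ Nat.card N := by
        have hne : stabilizer N u ≠ ⊤ := by
          intro htop
          apply hν
          have : ν ∈ stabilizer N u := by rw [htop]; trivial
          exact this
        have hidx : 2 ≤ (stabilizer N u).index := by
          have h1 : (stabilizer N u).index ≠ 1 := by
            rw [Ne, Subgroup.index_eq_one]; exact hne
          have h0 : (stabilizer N u).index ≠ 0 := Subgroup.index_ne_zero_of_finite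
          omega
        have := (stabilizer N u).card_mul_index
        calc 2 * Nat.card (stabilizer N u) = Nat.card (stabilizer N u) * 2 := by ring
          _ ≤ Nat.card (stabilizer N u) * (stabilizer N u).index := Nat.mul_le_mul_left _ hidx
          _ = Nat.card N := this
      calc 4 * (wt (u : G) * Nat.card (stabilizer N u)) =
          (2 * wt (u : G)) * (2 * Nat.card (stabilizer N u)) := by ring
        _ ≤ W * Nat.card N := Nat.mul_le_mul h1 h2
  have hsum : 4 * ∑ u : (Q : Subgroup G), wt (u : G) * Nat.card (stabilizer N u) ≤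
      F.card * (4 * (W * Nat.card N)) + (Fintype.card (Q : Subgroup G) - F.card) * (W * Nat.card N) := by
    rw [Finset.mul_sum]
    refine (Finset.sum_le_sum (fun u _ => hterm u)).trans ?_
    rw [Finset.sum_ite, Finset.sum_const, Finset.sum_const, smul_eq_mul, smul_eq_mul]
    have e1 : (Finset.univ.filter (fun u : (Q : Subgroup G) => u ∈ F)) = F := by
      ext u; simp
    have e2 : (Finset.univ.filter (fun u : (Q : Subgroup G) => u ∉ F)).card =
        Fintype.card (Q : Subgroup G) - F.card := by
      have := Finset.card_filter_add_card_filter_not (s := (Finset.univ : Finset (Q : Subgroup G)))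
        (fun u => u ∈ F)
      rw [e1, Finset.card_univ] at this
      omega
    rw [e1, e2]
  have hFle : F.card ≤ Fintype.card (Q : Subgroup G) := Finset.card_le_univ F
  have hs' : Fintype.card (Q : Subgroup G) = s := by rw [hs, Nat.card_eq_fintype_card]
  rw [hs'] at hsum hFle
  rw [hWB] at hsum
  have hNpos : 0 < Nat.card N := Nat.card_pos
  set So := ∑ o : orbitRel.Quotient N (Q : Subgroup G), wt ((o.out : (Q : Subgroup G)) : G) with hSo
  have key : (2 * So) * (2 * Nat.card N) ≤ (W * s) * (2 * Nat.card N) := by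
    obtain ⟨d, hd⟩ : ∃ d, s = F.card + d := ⟨s - F.card, by omega⟩
    have hd' : s - F.card = d := by omega
    rw [hd'] at hsum
    have h3F : 3 * F.card ≤ F.card + d := by rw [← hd]; exact hFcard
    calc (2 * So) * (2 * Nat.card N) = 4 * (Nat.card N * So) := by ring
      _ ≤ F.card * (4 * (W * Nat.card N)) + d * (W * Nat.card N) := hsum
      _ = (W * Nat.card N) * (3 * F.card + (F.card + d)) := by ring
      _ ≤ (W * Nat.card N) * ((F.card + d) + (F.card + d)) :=
          Nat.mul_le_mul_left _ (Nat.add_le_add_right h3F _)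
      _ = (W * s) * (2 * Nat.card N) := by rw [hd]; ring
  exact Nat.le_of_mul_le_mul_right key (by positivity)

/-- the main bound: if `N_G(Q) ≠ C_G(Q)` the weighted orbit sum is at most half the trivial bound -/
theorem orbSum_le (hp2 : p ≠ 2) (Q : Sylow p G) (hm : mIdx Q ≠ 1)
    (K₀ : Subgroup G) [hK₀n : K₀.Normal] (hK₀odd : ¬ 2 ∣ Nat.card K₀)
    (hK₀idx : K₀.index = 2 ^ (Nat.card G).factorization 2) :
    2 * orbSum Q ≤ 2 ^ (Nat.card G).factorization 2 * Nat.card (Q : Subgroup G) := by
  have hmpos := mIdx_pos Q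
  have hp3 : 3 ≤ p := by
    have := hp.out.two_le
    omega
  rcases Nat.lt_or_ge (mIdx Q) 3 with h | h
  · have h2 : mIdx Q = 2 := by omega
    exact orbSum_le_of_two hp2 Q h2 K₀ hK₀odd hK₀idx
  · apply orbSum_le_of_big hp2 Q
    rcases Nat.lt_or_ge (mIdx Q) 4 with h4 | h4
    · have h3 : mIdx Q = 3 := by omega
      have hQc : IsMulCommutative (Q : Subgroup G) :=
        isMulCommutative_of_prime_mIdx Q (by rw [h3]; exact Nat.prime_three)
      have hnd := not_dvd_mIdx_of_comm Q
      rw [h3] at hnd ⊢
      have hp3' : p ≠ 3 := by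
        rintro rfl
        exact hnd dvd_rfl
      have hp4 : p ≠ 4 := by
        rintro rfl
        exact absurd hp.out (by norm_num)
      omega
    · obtain ⟨m', hm'⟩ : ∃ m', mIdx Q = m' + 4 := ⟨mIdx Q - 4, by omega⟩
      obtain ⟨p', hp'⟩ : ∃ p', p = p' + 3 := ⟨p - 3, by omega⟩
      rw [hm', hp']
      have : p' + 3 + (m' + 4) - 1 = p' + m' + 6 := by omega
      rw [this]
      nlinarith
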