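import Mathlib
import Cfsg.Agent.S4106
import Cfsg.Agent.Lib.Helper35.PiSylowC

/-!
# Counting classes of `π`-elements via commuting pairs (helper35), towards S3898
-/

set_option autoImplicit false

namespace Cfsg.Agent.Helper35.PiC

open Subgroup MulAction Cfsg.Agent.Helper35.PiS
open scoped BigOperators

variable {G : Type*} [Group G] [Finite G]

/-- weighted Burnside for the conjugation action -/
theorem sum_conj [Fintype G] [Fintype (orbitRel.Quotient (ConjAct G) G)] (g : G → ℕ)
    (hg : ∀ a x : G, g (a * x * a⁻¹) = g x) :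
    ∑ x : G, g x * Nat.card (centralizer ({x} : Set G)) =
      Nat.card G * ∑ o : orbitRel.Quotient (ConjAct G) G, g o.out := by
  have h := WB.sum_mul_card_stabilizer (Γ := ConjAct G) (X := G) g (by
    intro γ x
    rw [ConjAct.smul_def]
    exact hg _ _)
  have hc : Nat.card (ConjAct G) = Nat.card G := Nat.card_congr ConjAct.ofConjAct.toEquiv
  rw [hc] at h
  rw [← h]
  apply Finset.sum_congr rfl
  intro x _
  rw [Subgroup.nat_card_centralizer_nat_card_stabilizer]

/-- the predicate "is a `p`-element" used by helper68 -/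
def Pp (p : ℕ) (G : Type*) [Group G] (x : G) : Prop := x ^ (p ^ (Nat.card G).factorization p) = 1

omit [Finite G] in
theorem Pp_conj (p : ℕ) (a x : G) : Pp p G (a * x * a⁻¹) ↔ Pp p G x := by
  unfold Pp
  rw [conj_pow]
  constructor
  · intro h
    have : x ^ p ^ (Nat.card G).factorization p = a⁻¹ * (a * x ^ p ^ (Nat.card G).factorization p * a⁻¹) * a := by
      group
    rw [this, h]; group
  · intro h
    rw [h]; group

theorem Pp_iff {p : ℕ} [hp : Fact p.Prime] (x : G) : Pp p G x ↔ ∃ k : ℕ, orderOf x = p ^ k := by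
  unfold Pp
  constructor
  · intro h
    obtain ⟨j, _, hj⟩ := (Nat.dvd_prime_pow hp.out).1 (orderOf_dvd_of_pow_eq_one h)
    exact ⟨j, hj⟩
  · rintro ⟨k, hk⟩
    apply orderOf_dvd_iff_pow_eq_one.mp
    have h1 : orderOf x ∣ Nat.card G := orderOf_dvd_natCard x
    rw [hk] at h1 ⊢
    have := (Nat.Prime.pow_dvd_iff_le_factorization hp.out Nat.card_pos.ne').mp h1
    exact pow_dvd_pow p this

/-- every `p`-element is conjugate into a given Sylow `p`-subgroup -/
theorem exists_conj_mem_sylow {p : ℕ} [hp : Fact p.Prime] (Q : Sylow p G) (x : G) (hx : Pp p G x) :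
    ∃ l : G, l⁻¹ * x * l ∈ (Q : Subgroup G) := by
  obtain ⟨k, hk⟩ := (Pp_iff x).mp hx
  have hpg : IsPGroup p (zpowers x) := IsPGroup.of_card (n := k) (by rw [Nat.card_zpowers, hk])
  obtain ⟨Q', hQ'⟩ := hpg.exists_le_sylow
  obtain ⟨g, hg⟩ := MulAction.exists_smul_eq G Q Q'
  have hx' : x ∈ (Q' : Subgroup G) := hQ' (mem_zpowers x)
  rw [← hg, Sylow.coe_subgroup_smul, Subgroup.mem_pointwise_smul_iff_inv_smul_mem] at hx'
  have h3 : (MulAut.conj g)⁻¹ • x = g⁻¹ * x * g := by simp [MulAut.smul_def]
  rw [h3] at hx'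
  exact ⟨g, hx'⟩

/-- the map from `N_G(Q)`-orbits on `Q` to conjugation orbits of `G` -/
noncomputable def orbMap {p : ℕ} [Fact p.Prime] (Q : Sylow p G) :
    orbitRel.Quotient (normalizer ((Q : Subgroup G) : Set G)) (Q : Subgroup G) →
      orbitRel.Quotient (ConjAct G) G :=
  Quotient.map' (fun u : (Q : Subgroup G) => (u : G)) (by
    intro a b hab
    change a ∈ MulAction.orbit _ b at hab
    obtain ⟨n, hn⟩ := hab
    change (a : G) ∈ MulAction.orbit (ConjAct G) (b : G)
    rw [ConjAct.mem_orbit_conjAct, isConj_comm, isConj_iff]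
    refine ⟨(n : G), ?_⟩
    exact congrArg Subtype.val hn)

/-- weighted class sum over `p`-elements is bounded by the weighted orbit sum on `Q` -/
theorem sum_pel_le {p : ℕ} [hp : Fact p.Prime] (Q : Sylow p G) [Fintype G] [DecidablePred (Pp p G)] :
    ∑ x : G, (if Pp p G x then wt x else 0) * Nat.card (centralizer ({x} : Set G)) ≤
      Nat.card G * orbSum Q := by
  classical
  letI : Fintype (orbitRel.Quotient (ConjAct G) G) := Fintype.ofFinite _
  rw [sum_conj (fun x => if Pp p G x then wt x else 0) (by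
    intro a x
    simp only [Pp_conj, wt_conj])]
  apply Nat.mul_le_mul_left
  unfold orbSum
  letI : Fintype (orbitRel.Quotient (normalizer ((Q : Subgroup G) : Set G)) (Q : Subgroup G)) :=
    Fintype.ofFinite _
  rw [← Finset.sum_fiberwise (s := Finset.univ) (g := orbMap Q)]
  apply Finset.sum_le_sum
  intro o _
  split_ifs with hP
  · -- find an N-orbit in the fibre
    obtain ⟨l, hl⟩ := exists_conj_mem_sylow Q o.out hP
    set o' : orbitRel.Quotient (normalizer ((Q : Subgroup G) : Set G)) (Q : Subgroup G) :=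
      Quotient.mk'' ⟨l⁻¹ * o.out * l, hl⟩ with ho'
    have hconj : ∀ (a b : G), (Quotient.mk'' a : orbitRel.Quotient (ConjAct G) G) = Quotient.mk'' b →
        wt a = wt b := by
      intro a b hab
      have hrel : orbitRel (ConjAct G) G a b := Quotient.eq''.mp hab
      have hmem : a ∈ orbit (ConjAct G) b := hrel
      rw [ConjAct.mem_orbit_conjAct, isConj_comm, isConj_iff] at hmem
      obtain ⟨c, hc⟩ := hmem
      rw [← hc, wt_conj]
    have hfib : orbMap Q o' = o := by
      have h1 : orbMap Q o' = Quotient.mk'' (l⁻¹ * o.out * l) := rfl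
      rw [h1]
      refine Eq.trans ?_ (Quotient.out_eq' o)
      apply Quotient.sound'
      change l⁻¹ * o.out * l ∈ MulAction.orbit (ConjAct G) o.out
      rw [ConjAct.mem_orbit_conjAct, isConj_comm, isConj_iff]
      exact ⟨l⁻¹, by group⟩
    have hwt : wt o.out = wt ((o'.out : (Q : Subgroup G)) : G) := by
      apply hconj
      rw [Quotient.out_eq' o]
      have h2 : orbMap Q (Quotient.mk'' o'.out) = Quotient.mk'' ((o'.out : (Q : Subgroup G)) : G) := rfl
      rw [← h2, Quotient.out_eq' o', hfib]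
    rw [hwt]
    exact Finset.single_le_sum (f := fun o' : orbitRel.Quotient (normalizer ((Q : Subgroup G) : Set G))
      (Q : Subgroup G) => wt ((o'.out : (Q : Subgroup G)) : G)) (fun _ _ => Nat.zero_le _)
      (Finset.mem_filter.mpr ⟨Finset.mem_univ _, hfib⟩)
  · exact Nat.zero_le _


open Cfsg.Agent.Helper45.PCl in
/-- unweighted class sum over `p`-elements -/
theorem sum_pel_one_le {p : ℕ} [hp : Fact p.Prime] [Fintype G] [DecidablePred (Pp p G)] :
    ∑ x : G, (if Pp p G x then 1 else 0) * Nat.card (centralizer ({x} : Set G)) ≤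
      Nat.card G * Nat.card (PClass p G) := by
  classical
  letI : Fintype (orbitRel.Quotient (ConjAct G) G) := Fintype.ofFinite _
  rw [sum_conj (fun x => if Pp p G x then 1 else 0) (by
    intro a x
    simp only [Pp_conj])]
  apply Nat.mul_le_mul_left
  rw [Finset.sum_boole, Nat.cast_id, ← Fintype.card_subtype, ← Nat.card_eq_fintype_card]
  apply Nat.card_le_card_of_injective
    (fun o : {o : orbitRel.Quotient (ConjAct G) G // Pp p G o.out} =>
      (⟨ConjClasses.mk o.1.out, by
        intro y hy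
        rw [ConjClasses.mem_carrier_iff_mk_eq, ConjClasses.mk_eq_mk_iff_isConj, isConj_iff] at hy
        obtain ⟨c, hc⟩ := hy
        rw [← Pp_iff, ← Pp_conj p c y, hc]
        exact o.2⟩ : PClass p G))
  intro o₁ o₂ h
  have h1 : ConjClasses.mk o₁.1.out = ConjClasses.mk o₂.1.out := congrArg Subtype.val h
  rw [ConjClasses.mk_eq_mk_iff_isConj] at h1
  apply Subtype.ext
  rw [← Quotient.out_eq' o₁.1, ← Quotient.out_eq' o₂.1]
  apply Quotient.sound'
  change o₁.1.out ∈ MulAction.orbit (ConjAct G) o₂.1.out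
  rw [ConjAct.mem_orbit_conjAct]
  exact h1

open Cfsg.Agent.S4106 in
theorem kpi_mul_card_le (π : Finset ℕ) :
    Nat.card {c : ConjClasses G // ∀ x ∈ c.carrier, ∀ r : ℕ, r.Prime → r ∣ orderOf x → r ∈ π} *
      Nat.card G ≤ Nat.card (A π G) := by
  refine le_trans (le_of_eq ?_) (classes_le π G)
  congr 1
  apply Nat.card_congr
  apply Equiv.subtypeEquivRight
  intro c
  constructor
  · rintro h q hq ⟨g, hg, hqg⟩
    exact h g (ConjClasses.mem_carrier_iff_mk_eq.mpr hg) q hq hqg
  · intro h x hx r hr hrx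
    exact h r hr ⟨x, ConjClasses.mem_carrier_iff_mk_eq.mp hx, hrx⟩

open Cfsg.Agent.S4106 in
theorem B_insert (q : ℕ) (S : Finset ℕ) (hq : q ∉ S) (m : ℕ) :
    B (insert q S) m = q ^ m.factorization q * B S m := by
  unfold B
  rw [Finset.prod_insert hq]

open Cfsg.Agent.S4106 in
theorem B_pos (S : Finset ℕ) (hS : ∀ q ∈ S, q.Prime) (m : ℕ) : 0 < B S m := by
  unfold B
  apply Finset.prod_pos
  intro q hq
  exact Nat.pow_pos (hS q hq).pos

universe u

open Cfsg.Agent.S4106 in
/-- the general decomposition step: for `p ∉ S` -/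
theorem card_A_insert_le {G : Type u} [Group G] [Finite G] (p : ℕ) [hp : Fact p.Prime]
    (S : Finset ℕ) (hS : ∀ q ∈ S, q.Prime) [Fintype G] [DecidablePred (Pp p G)] :
    Nat.card (A (insert p S) G) ≤
      ∑ x : G, (if Pp p G x then B S (Nat.card (centralizer ({x} : Set G))) else 0) *
        Nat.card (centralizer ({x} : Set G)) := by
  classical
  letI : Fintype (Pel p G) := Fintype.ofFinite _
  calc Nat.card (A (insert p S) G)
      ≤ Nat.card (Σ x : Pel p G, A S ↥(Subgroup.centralizer ({x.1} : Set G))) := step p S G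
    _ = ∑ x : Pel p G, Nat.card (A S ↥(Subgroup.centralizer ({x.1} : Set G))) := Nat.card_sigma
    _ ≤ ∑ x : Pel p G, B S (Nat.card (centralizer ({x.1} : Set G))) *
          Nat.card (centralizer ({x.1} : Set G)) := by
        apply Finset.sum_le_sum
        intro x _
        exact main S hS ↥(Subgroup.centralizer ({x.1} : Set G))
    _ = ∑ x : G, (if Pp p G x then B S (Nat.card (centralizer ({x} : Set G))) else 0) *
          Nat.card (centralizer ({x} : Set G)) := by
        rw [← Finset.sum_subtype (Finset.univ.filter (Pp p G)) (by simp [Pp])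
          (fun x => B S (Nat.card (centralizer ({x} : Set G))) *
            Nat.card (centralizer ({x} : Set G)))]
        rw [Finset.sum_filter]
        apply Finset.sum_congr rfl
        intro x _
        split_ifs <;> simp


open Cfsg.Agent.S4106 Cfsg.Agent.Helper45.PCl in
theorem kpi_le_two {G : Type u} [Group G] [Finite G] (π : Finset ℕ) (hπ : ∀ r ∈ π, r.Prime)
    (h2 : 2 ∈ π) :
    Nat.card {c : ConjClasses G // ∀ x ∈ c.carrier, ∀ r : ℕ, r.Prime → r ∣ orderOf x → r ∈ π} ≤
      B (π.erase 2) (Nat.card G) * Nat.card (PClass 2 G) := by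
  classical
  letI : Fintype G := Fintype.ofFinite G
  have hS : ∀ q ∈ π.erase 2, q.Prime := fun q hq => hπ q (Finset.mem_of_mem_erase hq)
  have h1 := kpi_mul_card_le (G := G) π
  have hins : insert 2 (π.erase 2) = π := Finset.insert_erase h2
  have h2' := card_A_insert_le (G := G) 2 (π.erase 2) hS
  rw [hins] at h2'
  have h3 : ∑ x : G, (if Pp 2 G x then B (π.erase 2) (Nat.card (centralizer ({x} : Set G))) else 0) *
        Nat.card (centralizer ({x} : Set G)) ≤
      B (π.erase 2) (Nat.card G) *
        ∑ x : G, (if Pp 2 G x then 1 else 0) * Nat.card (centralizer ({x} : Set G)) := by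
    rw [Finset.mul_sum]
    apply Finset.sum_le_sum
    intro x _
    split_ifs
    · rw [one_mul]
      exact Nat.mul_le_mul_right _ (B_mono _ Nat.card_pos.ne' (Subgroup.card_subgroup_dvd_card _))
    · simp
  have h4 := sum_pel_one_le (G := G) (p := 2)
  have key : Nat.card {c : ConjClasses G // ∀ x ∈ c.carrier, ∀ r : ℕ, r.Prime → r ∣ orderOf x → r ∈ π} *
      Nat.card G ≤ (B (π.erase 2) (Nat.card G) * Nat.card (PClass 2 G)) * Nat.card G := by
    calc _ ≤ Nat.card (A π G) := h1
      _ ≤ _ := h2'
      _ ≤ _ := h3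
      _ ≤ B (π.erase 2) (Nat.card G) * (Nat.card G * Nat.card (PClass 2 G)) :=
          Nat.mul_le_mul_left _ h4
      _ = _ := by ring
  exact Nat.le_of_mul_le_mul_right key Nat.card_pos

open Cfsg.Agent.S4106 in
theorem kpi_le_odd {G : Type u} [Group G] [Finite G] (π : Finset ℕ) (hπ : ∀ r ∈ π, r.Prime)
    (h2 : 2 ∈ π) (p : ℕ) [hp : Fact p.Prime] (hpπ : p ∈ π) (hp2 : p ≠ 2) (Q : Sylow p G) :
    Nat.card {c : ConjClasses G // ∀ x ∈ c.carrier, ∀ r : ℕ, r.Prime → r ∣ orderOf x → r ∈ π} ≤
      B ((π.erase p).erase 2) (Nat.card G) * orbSum Q := by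
  classical
  letI : Fintype G := Fintype.ofFinite G
  set S' := π.erase p with hS'
  set S'' := S'.erase 2 with hS''
  have hS : ∀ q ∈ S', q.Prime := fun q hq => hπ q (Finset.mem_of_mem_erase hq)
  have h2S' : 2 ∈ S' := Finset.mem_erase.mpr ⟨fun h => hp2 h.symm, h2⟩
  have h1 := kpi_mul_card_le (G := G) π
  have hins : insert p S' = π := Finset.insert_erase hpπ
  have hins2 : insert 2 S'' = S' := Finset.insert_erase h2S'
  have h2' := card_A_insert_le (G := G) p S' hS
  rw [hins] at h2'
  have h3 : ∑ x : G, (if Pp p G x then B S' (Nat.card (centralizer ({x} : Set G))) else 0) *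
        Nat.card (centralizer ({x} : Set G)) ≤
      B S'' (Nat.card G) *
        ∑ x : G, (if Pp p G x then wt x else 0) * Nat.card (centralizer ({x} : Set G)) := by
    rw [Finset.mul_sum]
    apply Finset.sum_le_sum
    intro x _
    split_ifs
    · rw [← hins2, B_insert 2 S'' (Finset.notMem_erase 2 S')]
      have hB := B_mono S'' (n' := Nat.card (centralizer ({x} : Set G))) Nat.card_pos.ne'
        (Subgroup.card_subgroup_dvd_card _)
      unfold wt
      calc 2 ^ (Nat.card (centralizer ({x} : Set G))).factorization 2 *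
            B S'' (Nat.card (centralizer ({x} : Set G))) * Nat.card (centralizer ({x} : Set G))
          ≤ 2 ^ (Nat.card (centralizer ({x} : Set G))).factorization 2 *
            B S'' (Nat.card G) * Nat.card (centralizer ({x} : Set G)) :=
            Nat.mul_le_mul_right _ (Nat.mul_le_mul_left _ hB)
        _ = _ := by ring
    · simp
  have h4 := sum_pel_le (G := G) Q
  have key : Nat.card {c : ConjClasses G // ∀ x ∈ c.carrier, ∀ r : ℕ, r.Prime → r ∣ orderOf x → r ∈ π} *
      Nat.card G ≤ (B S'' (Nat.card G) * orbSum Q) * Nat.card G := by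
    calc _ ≤ Nat.card (A π G) := h1
      _ ≤ _ := h2'
      _ ≤ _ := h3
      _ ≤ B S'' (Nat.card G) * (Nat.card G * orbSum Q) := Nat.mul_le_mul_left _ h4
      _ = _ := by ring
  exact Nat.le_of_mul_le_mul_right key Nat.card_pos

end Cfsg.Agent.Helper35.PiC
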