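import Mathlib

/-!
# RJ project (S2279): the multiplier set of the field argument (F-block), shared definition.
-/

set_option autoImplicit false

namespace Cfsg.Agent.Helper35.RJ

variable {F : Type*} [Field F]

/-- the multiplier set: `r` with `r • L d ⊆ L d` for all `d ≤ m + 1` -/
def Mult (m : ℕ) (L : ℕ → AddSubgroup F) : Set F :=
  {r | ∀ d, d ≤ m + 1 → ∀ x ∈ L d, r * x ∈ L d}

end Cfsg.Agent.Helper35.RJ
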