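import Mathlib

set_option autoImplicit false
set_option linter.unusedSectionVars false

/-!
# Direct powers of a nonabelian simple group

* automorphisms of `ι → T` permute the coordinates (`coord`, `coord_spec`);
* Scott's lemma: a subdirect subgroup of `ι → T` is a product of diagonals (`scott`).
-/

namespace Cfsg.Agent.Helper35.Scott

open scoped commutatorElement

variable {ι : Type*} [DecidableEq ι] {T : Type*} [Group T]

/-- a nonabelian simple group has trivial centre -/
theorem exists_not_commute [IsSimpleGroup T] (hT : ¬ IsMulCommutative T) {t : T} (ht : t ≠ 1) :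
    ∃ s : T, s * t ≠ t * s := by
  by_contra hcon
  push Not at hcon
  have htc : t ∈ Subgroup.center T := by
    rw [Subgroup.mem_center_iff]; exact hcon
  rcases IsSimpleGroup.eq_bot_or_eq_top_of_normal (Subgroup.center T) inferInstance with h | h
  · rw [h, Subgroup.mem_bot] at htc
    exact ht htc
  · apply hT
    refine ⟨⟨fun a b => ?_⟩⟩
    have ha : a ∈ Subgroup.center T := by rw [h]; exact Subgroup.mem_top a
    exact ((Subgroup.mem_center_iff.mp ha) b).symm

/-- an element commuting with everything is trivial -/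
theorem eq_one_of_forall_commute [IsSimpleGroup T] (hT : ¬ IsMulCommutative T) {t : T}
    (h : ∀ s : T, s * t = t * s) : t = 1 := by
  by_contra ht
  obtain ⟨s, hs⟩ := exists_not_commute hT ht
  exact hs (h s)

/-- a nonabelian simple group is perfect -/
theorem commutator_eq_top [IsSimpleGroup T] (hT : ¬ IsMulCommutative T) : commutator T = ⊤ := by
  rcases IsSimpleGroup.eq_bot_or_eq_top_of_normal (commutator T) inferInstance with h | h
  · exfalso
    apply hT
    refine ⟨⟨fun a b => ?_⟩⟩
    have h1 : ⁅a, b⁆ ∈ commutator T := by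
      rw [commutator_def]
      exact Subgroup.commutator_mem_commutator (Subgroup.mem_top a) (Subgroup.mem_top b)
    rw [h, Subgroup.mem_bot, commutatorElement_eq_one_iff_mul_comm] at h1
    exact h1
  · exact h

/-- a normal subgroup of `T` with a nontrivial element is everything -/
theorem eq_top_of_normal_of_ne_one [IsSimpleGroup T] (A : Subgroup T) (hA : A.Normal) {t : T}
    (ht : t ∈ A) (ht1 : t ≠ 1) : A = ⊤ := by
  rcases IsSimpleGroup.eq_bot_or_eq_top_of_normal A hA with h | h
  · rw [h, Subgroup.mem_bot] at ht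
    exact absurd ht ht1
  · exact h

section Aut

variable [IsSimpleGroup T] (hT : ¬ IsMulCommutative T) (σ : (ι → T) ≃* (ι → T))

include hT in
theorem exists_coord (i : ι) : ∃ j, ∀ t : T, ∀ l, l ≠ j → σ (Pi.mulSingle i t) l = 1 := by
  obtain ⟨t₀, ht₀⟩ := exists_ne (1 : T)
  have hy : σ (Pi.mulSingle i t₀) ≠ 1 := by
    intro h
    have h1 : Pi.mulSingle i t₀ = (1 : ι → T) := by
      apply σ.injective; rw [h, map_one]
    have := congrFun h1 i
    rw [Pi.mulSingle_eq_same, Pi.one_apply] at this
    exact ht₀ this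
  obtain ⟨j, hj⟩ : ∃ j, σ (Pi.mulSingle i t₀) j ≠ 1 := by
    by_contra hcon
    push Not at hcon
    exact hy (funext hcon)
  refine ⟨j, ?_⟩
  let A : Subgroup T :=
    { carrier := {t | ∀ l, l ≠ j → σ (Pi.mulSingle i t) l = 1}
      one_mem' := by
        intro l _
        rw [Pi.mulSingle_one, map_one, Pi.one_apply]
      mul_mem' := by
        intro a b ha hb l hl
        rw [Pi.mulSingle_mul, map_mul, Pi.mul_apply, ha l hl, hb l hl, one_mul]
      inv_mem' := by
        intro a ha l hl
        rw [Pi.mulSingle_inv, map_inv, Pi.inv_apply, ha l hl, inv_one] }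
  have hAn : A.Normal := by
    refine ⟨fun a ha s l hl => ?_⟩
    show σ (Pi.mulSingle i (s * a * s⁻¹)) l = 1
    rw [Pi.mulSingle_mul, Pi.mulSingle_mul, Pi.mulSingle_inv, map_mul, map_mul, map_inv,
      Pi.mul_apply, Pi.mul_apply, Pi.inv_apply, ha l hl, mul_one, mul_inv_cancel]
  obtain ⟨s, hs⟩ := exists_not_commute hT hj
  set y := σ (Pi.mulSingle i t₀) with hydef
  set w := σ.symm (Pi.mulSingle j s) with hwdef
  set t₁ := w i * t₀ * (w i)⁻¹ * t₀⁻¹ with ht₁def
  have hsingle : Pi.mulSingle i t₁ = w * Pi.mulSingle i t₀ * w⁻¹ * (Pi.mulSingle i t₀)⁻¹ := by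
    funext l
    by_cases hl : l = i
    · subst hl
      simp only [Pi.mul_apply, Pi.inv_apply, Pi.mulSingle_eq_same, ht₁def]
    · simp only [Pi.mul_apply, Pi.inv_apply, Pi.mulSingle_eq_of_ne hl, mul_one, inv_one,
        mul_inv_cancel]
  have hz : σ (Pi.mulSingle i t₁) = Pi.mulSingle j s * y * (Pi.mulSingle j s)⁻¹ * y⁻¹ := by
    rw [hsingle, map_mul, map_mul, map_mul, map_inv, map_inv, hwdef, MulEquiv.apply_symm_apply]
  have ht₁A : t₁ ∈ A := by
    intro l hl
    rw [hz]
    simp only [Pi.mul_apply, Pi.inv_apply, Pi.mulSingle_eq_of_ne hl, one_mul, inv_one, mul_one,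
      mul_inv_cancel]
  have ht₁1 : t₁ ≠ 1 := by
    intro h
    have h2 := congrFun hz j
    rw [h, Pi.mulSingle_one, map_one] at h2
    simp only [Pi.mul_apply, Pi.inv_apply, Pi.mulSingle_eq_same, Pi.one_apply] at h2
    apply hs
    have h3 : s * y j * s⁻¹ * (y j)⁻¹ = 1 := h2.symm
    calc s * y j = (s * y j * s⁻¹ * (y j)⁻¹) * (y j * s) := by group
      _ = y j * s := by rw [h3, one_mul]
  have hAtop : A = ⊤ := eq_top_of_normal_of_ne_one A hAn ht₁A ht₁1
  intro t l hl
  have : t ∈ A := by rw [hAtop]; exact Subgroup.mem_top t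
  exact this l hl

/-- the coordinate to which `σ` sends the `i`-th factor -/
noncomputable def coord (i : ι) : ι := Classical.choose (exists_coord hT σ i)

theorem coord_spec (i : ι) (t : T) (l : ι) (hl : l ≠ coord hT σ i) :
    σ (Pi.mulSingle i t) l = 1 :=
  Classical.choose_spec (exists_coord hT σ i) t l hl

theorem coord_eq {i j : ι} {t : T} (h : σ (Pi.mulSingle i t) j ≠ 1) : coord hT σ i = j := by
  by_contra hne
  exact h (coord_spec hT σ i t j (Ne.symm hne))

/-- the induced homomorphism of the `i`-th factor -/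
noncomputable def tauHom (i : ι) : T →* T :=
  (Pi.evalMonoidHom (fun _ : ι => T) (coord hT σ i)).comp
    (σ.toMonoidHom.comp (MonoidHom.mulSingle (fun _ : ι => T) i))

theorem tauHom_apply (i : ι) (t : T) : tauHom hT σ i t = σ (Pi.mulSingle i t) (coord hT σ i) := rfl

theorem apply_mulSingle (i : ι) (t : T) :
    σ (Pi.mulSingle i t) = Pi.mulSingle (coord hT σ i) (tauHom hT σ i t) := by
  funext l
  by_cases hl : l = coord hT σ i
  · subst hl
    rw [Pi.mulSingle_eq_same, tauHom_apply]
  · rw [Pi.mulSingle_eq_of_ne hl, coord_spec hT σ i t l hl]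

theorem tauHom_injective (i : ι) : Function.Injective (tauHom hT σ i) := by
  rw [injective_iff_map_eq_one]
  intro t ht
  have h1 : σ (Pi.mulSingle i t) = 1 := by
    rw [apply_mulSingle hT σ i t, ht, Pi.mulSingle_one]
  have h2 : Pi.mulSingle i t = (1 : ι → T) := by
    apply σ.injective; rw [h1, map_one]
  have := congrFun h2 i
  rw [Pi.mulSingle_eq_same, Pi.one_apply] at this
  exact this

theorem tauHom_bijective [Finite T] (i : ι) : Function.Bijective (tauHom hT σ i) :=
  Finite.injective_iff_bijective.mp (tauHom_injective hT σ i)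

/-- the induced automorphism of the `i`-th factor -/
noncomputable def tau [Finite T] (i : ι) : T ≃* T :=
  MulEquiv.ofBijective (tauHom hT σ i) (tauHom_bijective hT σ i)

theorem tau_apply [Finite T] (i : ι) (t : T) : tau hT σ i t = tauHom hT σ i t := rfl

theorem coord_injective [Finite T] : Function.Injective (coord hT σ) := by
  intro i i' h
  by_contra hne
  apply hT
  refine ⟨⟨fun a b => ?_⟩⟩
  obtain ⟨t, rfl⟩ := (tauHom_bijective hT σ i).2 a
  obtain ⟨t', rfl⟩ := (tauHom_bijective hT σ i').2 b
  have hc : Pi.mulSingle i t * Pi.mulSingle i' t' = Pi.mulSingle i' t' * (Pi.mulSingle i t : ι → T) := by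
    funext l
    by_cases hl : l = i
    · subst hl
      simp only [Pi.mul_apply, Pi.mulSingle_eq_same, Pi.mulSingle_eq_of_ne hne, mul_one, one_mul]
    · simp only [Pi.mul_apply, Pi.mulSingle_eq_of_ne hl, mul_one, one_mul]
  have h2 := congrArg (fun x => σ x (coord hT σ i)) hc
  simp only [map_mul, Pi.mul_apply] at h2
  rw [tauHom_apply, tauHom_apply, ← h]
  exact h2

theorem coord_bijective [Finite ι] [Finite T] : Function.Bijective (coord hT σ) :=
  Finite.injective_iff_bijective.mp (coord_injective hT σ)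

/-- elements trivial at `i` are sent to elements trivial at `coord i` -/
theorem apply_coord_eq_one [Finite T] {y : ι → T} {i : ι} (hy : y i = 1) :
    σ y (coord hT σ i) = 1 := by
  apply eq_one_of_forall_commute hT
  intro s
  obtain ⟨t, rfl⟩ := (tauHom_bijective hT σ i).2 s
  have hc : Pi.mulSingle i t * y = y * Pi.mulSingle i t := by
    funext l
    by_cases hl : l = i
    · subst hl
      simp only [Pi.mul_apply, Pi.mulSingle_eq_same, hy, mul_one, one_mul]
    · simp only [Pi.mul_apply, Pi.mulSingle_eq_of_ne hl, mul_one, one_mul]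
  have h2 := congrArg (fun x => σ x (coord hT σ i)) hc
  simp only [map_mul, Pi.mul_apply] at h2
  rw [tauHom_apply]
  exact h2

/-- `σ` is monomial: `σ x (coord i) = τ_i (x i)` -/
theorem apply_coord [Finite T] (x : ι → T) (i : ι) :
    σ x (coord hT σ i) = tau hT σ i (x i) := by
  have hx : x = Pi.mulSingle i (x i) * Function.update x i 1 := by
    funext l
    by_cases hl : l = i
    · subst hl
      simp only [Pi.mul_apply, Pi.mulSingle_eq_same, Function.update_self, mul_one]
    · simp only [Pi.mul_apply, Pi.mulSingle_eq_of_ne hl, Function.update_of_ne hl, one_mul]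
  conv_lhs => rw [hx]
  rw [map_mul, Pi.mul_apply, apply_coord_eq_one hT σ (Function.update_self i 1 x), mul_one,
    tau_apply, tauHom_apply]

end Aut

section Aut2

variable [IsSimpleGroup T] (hT : ¬ IsMulCommutative T)

theorem tauHom_ne_one (σ : (ι → T) ≃* (ι → T)) (i : ι) {t : T} (ht : t ≠ 1) :
    tauHom hT σ i t ≠ 1 := by
  intro h
  apply ht
  apply tauHom_injective hT σ i
  rw [h, map_one]

theorem coord_refl (i : ι) : coord hT (MulEquiv.refl (ι → T)) i = i := by
  obtain ⟨t₀, ht₀⟩ := exists_ne (1 : T)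
  apply coord_eq hT (MulEquiv.refl (ι → T)) (t := t₀)
  rw [MulEquiv.refl_apply, Pi.mulSingle_eq_same]
  exact ht₀

theorem coord_trans (σ₁ σ₂ : (ι → T) ≃* (ι → T)) (i : ι) :
    coord hT (σ₁.trans σ₂) i = coord hT σ₂ (coord hT σ₁ i) := by
  obtain ⟨t₀, ht₀⟩ := exists_ne (1 : T)
  apply coord_eq hT (σ₁.trans σ₂) (t := t₀)
  rw [MulEquiv.trans_apply, apply_mulSingle hT σ₁ i t₀, apply_mulSingle hT σ₂, Pi.mulSingle_eq_same]
  exact tauHom_ne_one hT σ₂ _ (tauHom_ne_one hT σ₁ i ht₀)

theorem coord_conj (y : ι → T) (i : ι) : coord hT (MulAut.conj y) i = i := by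
  obtain ⟨t₀, ht₀⟩ := exists_ne (1 : T)
  apply coord_eq hT (MulAut.conj y) (t := t₀)
  rw [MulAut.conj_apply]
  simp only [Pi.mul_apply, Pi.inv_apply, Pi.mulSingle_eq_same]
  intro h
  apply ht₀
  calc t₀ = (y i)⁻¹ * (y i * t₀ * (y i)⁻¹) * y i := by group
    _ = 1 := by rw [h]; group

end Aut2

/-! ### Scott's lemma -/

section ScottLemma

variable [IsSimpleGroup T] (hT : ¬ IsMulCommutative T) (D : Subgroup (ι → T))

/-- two coordinates are related when they have the same kernel on `D` -/
def Rel (i j : ι) : Prop := ∀ x ∈ D, x i = 1 ↔ x j = 1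

theorem Rel.refl (i : ι) : Rel D i i := fun _ _ => Iff.rfl

theorem Rel.symm {i j : ι} (h : Rel D i j) : Rel D j i := fun x hx => (h x hx).symm

theorem Rel.trans {i j k : ι} (h₁ : Rel D i j) (h₂ : Rel D j k) : Rel D i k :=
  fun x hx => (h₁ x hx).trans (h₂ x hx)

variable (hsub : ∀ (i : ι) (t : T), ∃ x ∈ D, x i = t)

include hsub in
/-- if the kernel at `j` is not inside the kernel at `i`, it projects onto the `i`-th factor -/
theorem onto_of_exists {i j : ι} (h : ∃ x ∈ D, x j = 1 ∧ x i ≠ 1) (t : T) :
    ∃ y ∈ D, y j = 1 ∧ y i = t := by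
  let A : Subgroup T :=
    { carrier := {t | ∃ y ∈ D, y j = 1 ∧ y i = t}
      one_mem' := ⟨1, D.one_mem, rfl, rfl⟩
      mul_mem' := by
        rintro a b ⟨y, hy, hyj, rfl⟩ ⟨z, hz, hzj, rfl⟩
        exact ⟨y * z, D.mul_mem hy hz, by rw [Pi.mul_apply, hyj, hzj, one_mul], rfl⟩
      inv_mem' := by
        rintro a ⟨y, hy, hyj, rfl⟩
        exact ⟨y⁻¹, D.inv_mem hy, by rw [Pi.inv_apply, hyj, inv_one], rfl⟩ }
  have hAn : A.Normal := by
    refine ⟨fun a ha s => ?_⟩
    obtain ⟨y, hy, hyj, rfl⟩ := ha
    obtain ⟨z, hz, rfl⟩ := hsub i s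
    refine ⟨z * y * z⁻¹, D.mul_mem (D.mul_mem hz hy) (D.inv_mem hz), ?_, rfl⟩
    rw [Pi.mul_apply, Pi.mul_apply, Pi.inv_apply, hyj, mul_one, mul_inv_cancel]
  obtain ⟨x, hx, hxj, hxi⟩ := h
  have hAtop : A = ⊤ := eq_top_of_normal_of_ne_one A hAn (t := x i) ⟨x, hx, hxj, rfl⟩ hxi
  have : t ∈ A := by rw [hAtop]; exact Subgroup.mem_top t
  exact this

include hsub in
theorem rel_of_imp {i j : ι} (h : ∀ x ∈ D, x i = 1 → x j = 1) : Rel D i j := by
  intro x hx
  refine ⟨h x hx, fun hxj => ?_⟩
  by_contra hxi
  obtain ⟨t₀, ht₀⟩ := exists_ne (1 : T)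
  obtain ⟨y, hy, hyj⟩ := hsub j t₀
  obtain ⟨z, hz, hzj, hzi⟩ := onto_of_exists D hsub ⟨x, hx, hxj, hxi⟩ (y i)
  have h1 : (y * z⁻¹) j = 1 := by
    apply h _ (D.mul_mem hy (D.inv_mem hz))
    rw [Pi.mul_apply, Pi.inv_apply, hzi, mul_inv_cancel]
  rw [Pi.mul_apply, Pi.inv_apply, hzj, inv_one, mul_one, hyj] at h1
  exact ht₀ h1

include hsub in
theorem exists_of_not_rel {i j : ι} (h : ¬ Rel D i j) : ∃ x ∈ D, x j = 1 ∧ x i ≠ 1 := by
  by_contra hcon
  push Not at hcon
  exact h (rel_of_imp D hsub (fun x hx hxj => hcon x hx hxj)).symm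

include hT hsub in
/-- elements of `D` with prescribed `i`-th coordinate, trivial on coordinates unrelated to `i` -/
theorem exists_supported (i : ι) (S : Finset ι) (hS : ∀ s ∈ S, ¬ Rel D i s) (t : T) :
    ∃ y ∈ D, y i = t ∧ ∀ s ∈ S, y s = 1 := by
  induction S using Finset.induction_on generalizing t with
  | empty =>
    obtain ⟨y, hy, hyi⟩ := hsub i t
    exact ⟨y, hy, hyi, fun s hs => absurd hs (Finset.notMem_empty s)⟩
  | insert s₀ S hs₀ ih =>
    have ih' := ih (fun s hs => hS s (Finset.mem_insert_of_mem hs))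
    have h0 : ¬ Rel D i s₀ := hS s₀ (Finset.mem_insert_self s₀ S)
    have h1 := onto_of_exists D hsub (exists_of_not_rel D hsub h0)
    let W : Subgroup T :=
      { carrier := {t | ∃ y ∈ D, y i = t ∧ ∀ s ∈ insert s₀ S, y s = 1}
        one_mem' := ⟨1, D.one_mem, rfl, fun _ _ => rfl⟩
        mul_mem' := by
          rintro a b ⟨y, hy, rfl, hys⟩ ⟨z, hz, rfl, hzs⟩
          exact ⟨y * z, D.mul_mem hy hz, rfl, fun s hs => by
            rw [Pi.mul_apply, hys s hs, hzs s hs, one_mul]⟩
        inv_mem' := by
          rintro a ⟨y, hy, rfl, hys⟩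
          exact ⟨y⁻¹, D.inv_mem hy, rfl, fun s hs => by rw [Pi.inv_apply, hys s hs, inv_one]⟩ }
    have hW : commutator T ≤ W := by
      rw [commutator_def, Subgroup.commutator_le]
      intro u _ v _
      obtain ⟨y₁, hy₁, hy₁i, hy₁s⟩ := ih' u
      obtain ⟨y₂, hy₂, hy₂s, hy₂i⟩ := h1 v
      refine ⟨⁅y₁, y₂⁆, ?_, ?_, ?_⟩
      · rw [commutatorElement_def]
        exact D.mul_mem (D.mul_mem (D.mul_mem hy₁ hy₂) (D.inv_mem hy₁)) (D.inv_mem hy₂)
      · rw [commutatorElement_def, commutatorElement_def]
        simp only [Pi.mul_apply, Pi.inv_apply, hy₁i, hy₂i]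
      · intro s hs
        rw [commutatorElement_def]
        rcases Finset.mem_insert.mp hs with rfl | hs'
        · simp only [Pi.mul_apply, Pi.inv_apply, hy₂s, mul_one, inv_one, mul_inv_cancel]
        · simp only [Pi.mul_apply, Pi.inv_apply, hy₁s s hs', one_mul, inv_one, mul_one,
            mul_inv_cancel]
    have : t ∈ W := hW (by rw [commutator_eq_top hT]; exact Subgroup.mem_top t)
    exact this

include hsub in
/-- related coordinates are linked by an automorphism of `T` -/
theorem exists_iso {i j : ι} (h : Rel D i j) : ∃ φ : T ≃* T, ∀ x ∈ D, φ (x i) = x j := by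
  classical
  have hwd : ∀ x ∈ D, ∀ x' ∈ D, x i = x' i → x j = x' j := by
    intro x hx x' hx' hxx
    have h1 : (x * x'⁻¹) i = 1 := by rw [Pi.mul_apply, Pi.inv_apply, hxx, mul_inv_cancel]
    have h2 := (h _ (D.mul_mem hx (D.inv_mem hx'))).mp h1
    rw [Pi.mul_apply, Pi.inv_apply] at h2
    exact mul_inv_eq_one.mp h2
  let f : T → T := fun t => (Classical.choose (hsub i t)) j
  have hf : ∀ x ∈ D, f (x i) = x j := by
    intro x hx
    have hc := Classical.choose_spec (hsub i (x i))
    exact hwd _ hc.1 x hx hc.2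
  have hmul : ∀ a b : T, f (a * b) = f a * f b := by
    intro a b
    obtain ⟨x, hx, rfl⟩ := hsub i a
    obtain ⟨y, hy, rfl⟩ := hsub i b
    rw [← Pi.mul_apply, hf _ (D.mul_mem hx hy), hf x hx, hf y hy, Pi.mul_apply]
  let φ : T →* T := MonoidHom.mk' f hmul
  have hinj : Function.Injective φ := by
    rw [injective_iff_map_eq_one]
    intro a ha
    obtain ⟨x, hx, rfl⟩ := hsub i a
    have : x j = 1 := by rw [← hf x hx]; exact ha
    exact (h x hx).mpr this
  have hsurj : Function.Surjective φ := by
    intro b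
    obtain ⟨x, hx, rfl⟩ := hsub j b
    exact ⟨x i, hf x hx⟩
  exact ⟨MulEquiv.ofBijective φ ⟨hinj, hsurj⟩, fun x hx => hf x hx⟩

include hT hsub in
/-- **Scott's lemma**: a subdirect subgroup of a power of a nonabelian simple group is a product of
diagonals. -/
theorem scott [Fintype ι] :
    ∃ (c : ι → ι) (ψ : ι → T ≃* T), (∀ i, Rel D i (c i)) ∧ (∀ i j, c i = c j ↔ Rel D i j) ∧
      ∀ x : ι → T, x ∈ D ↔ ∀ i j, c i = c j → ψ i (x i) = ψ j (x j) := by
  classical
  let st : Setoid ι := ⟨Rel D, ⟨Rel.refl D, Rel.symm D, Rel.trans D⟩⟩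
  let c : ι → ι := fun i => (Quotient.mk st i).out
  have hc1 : ∀ i, Rel D i (c i) := fun i => Rel.symm D (Quotient.mk_out (s := st) i)
  have hc2 : ∀ i j, c i = c j ↔ Rel D i j := by
    intro i j
    constructor
    · intro h
      have h1 := hc1 i
      rw [h] at h1
      exact Rel.trans D h1 (Rel.symm D (hc1 j))
    · intro h
      have : Quotient.mk st i = Quotient.mk st j := Quotient.sound h
      show (Quotient.mk st i).out = (Quotient.mk st j).out
      rw [this]
  have hψ : ∀ i, ∃ φ : T ≃* T, ∀ x ∈ D, φ (x i) = x (c i) := fun i => exists_iso D hsub (hc1 i)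
  choose ψ hψs using hψ
  refine ⟨c, ψ, hc1, hc2, ?_⟩
  intro x
  constructor
  · intro hx i j hij
    rw [hψs i x hx, hψs j x hx, hij]
  · intro hx
    -- elements supported on one class
    have hd : ∀ r : ι, ∃ y ∈ D, y r = x r ∧ ∀ s, ¬ Rel D r s → y s = 1 := by
      intro r
      obtain ⟨y, hy, hyr, hys⟩ := exists_supported hT D hsub r
        (Finset.univ.filter fun s => ¬ Rel D r s)
        (fun s hs => (Finset.mem_filter.mp hs).2) (x r)
      exact ⟨y, hy, hyr, fun s hs => hys s (Finset.mem_filter.mpr ⟨Finset.mem_univ s, hs⟩)⟩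
    choose d hdD hdr hds using hd
    have hdi : ∀ r i, c r = r → c i = r → d r i = x i := by
      intro r i hr hi
      apply (ψ i).injective
      have h1 : ψ i (d r i) = d r (c i) := hψs i (d r) (hdD r)
      have h2 : ψ i (x i) = ψ r (x r) := hx i r (by rw [hi, hr])
      have h3 : ψ r (x r) = x r := by
        have := hψs r (d r) (hdD r)
        rw [hr, hdr r] at this
        exact this
      rw [h1, h2, h3, hi, hdr r]
    have key : ∀ R : Finset ι, ∃ y ∈ D, ∀ i, (c i ∈ R → y i = x i) ∧ (c i ∉ R → y i = 1) := by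
      intro R
      induction R using Finset.induction_on with
      | empty =>
        exact ⟨1, D.one_mem, fun i => ⟨fun h => absurd h (Finset.notMem_empty _), fun _ => rfl⟩⟩
      | insert r R hr ih =>
        obtain ⟨y, hy, hyi⟩ := ih
        by_cases hrr : c r = r
        · refine ⟨y * d r, D.mul_mem hy (hdD r), fun i => ⟨?_, ?_⟩⟩
          · intro hi
            rcases Finset.mem_insert.mp hi with hi | hi
            · have h1 : y i = 1 := (hyi i).2 (by rw [hi]; exact hr)
              rw [Pi.mul_apply, h1, one_mul, hdi r i hrr hi]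
            · have h1 : y i = x i := (hyi i).1 hi
              have h2 : d r i = 1 := by
                apply hds r i
                intro hrel
                have := (hc2 r i).mpr hrel
                rw [hrr] at this
                rw [← this] at hi
                exact hr hi
              rw [Pi.mul_apply, h1, h2, mul_one]
          · intro hi
            have hi1 : c i ≠ r := fun h => hi (by rw [h]; exact Finset.mem_insert_self r R)
            have hi2 : c i ∉ R := fun h => hi (Finset.mem_insert_of_mem h)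
            have h1 : y i = 1 := (hyi i).2 hi2
            have h2 : d r i = 1 := by
              apply hds r i
              intro hrel
              have := (hc2 r i).mpr hrel
              rw [hrr] at this
              exact hi1 this.symm
            rw [Pi.mul_apply, h1, h2, mul_one]
        · -- `r` is not a representative: nothing to do
          have hnone : ∀ i, c i ≠ r := by
            intro i hi
            apply hrr
            have h1 : Rel D i r := by
              have := hc1 i
              rw [hi] at this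
              exact this
            have := (hc2 i r).mpr h1
            rw [hi] at this
            exact this.symm
          refine ⟨y, hy, fun i => ⟨?_, ?_⟩⟩
          · intro hi
            rcases Finset.mem_insert.mp hi with hi | hi
            · exact absurd hi (hnone i)
            · exact (hyi i).1 hi
          · intro hi
            exact (hyi i).2 (fun h => hi (Finset.mem_insert_of_mem h))
    obtain ⟨y, hy, hyi⟩ := key Finset.univ
    have : y = x := funext fun i => (hyi i).1 (Finset.mem_univ _)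
    rw [← this]
    exact hy

end ScottLemma

end Cfsg.Agent.Helper35.Scott
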